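import Mathlib
import Cfsg.Prelude.Def_Sporadic
import Cfsg.Prelude.Def_Classification2

/-! Groups isospectral to linear and unitary groups have no sporadic factor: the interfaces
(`stubs/notes/h89_s3586.md`). -/

set_option autoImplicit false

namespace Cfsg.Agent.H89.Sp

open Subgroup

universe u v

/-- `m` is the order of an element -/
def Om (G : Type*) [Group G] (m : ℕ) : Prop := ∃ g : G, orderOf g = m

/-- the sporadic orders and the order of the Tits group -/
def ords : List ℕ := [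
  7920, 95040, 443520, 10200960, 244823040, 175560, 604800, 50232960, 86775571046077562880,
  4157776806543360000, 42305421312000, 495766656000, 64561751654400, 4089470473293004800,
  1255205709190661721292800, 44352000, 898128000, 4030387200, 145926144000, 448345497600,
  460815505920, 273030912000000, 51765179004000000, 90745943887872000,
  4154781481226426191177580544000000, 808017424794512875886459904961710757005754368000000000,
  17971200]

/-- the least common multiple of `ords`, factorized -/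
def fac : List (ℕ × ℕ) := [(2, 46), (3, 20), (5, 9), (7, 6), (11, 3), (13, 3), (17, 1), (19, 1),
  (23, 1), (29, 1), (31, 1), (37, 1), (41, 1), (43, 1), (47, 1), (59, 1), (67, 1), (71, 1)]

/-- the least common multiple of `ords` -/
def N0 : ℕ := (fac.map fun x => x.1 ^ x.2).prod

/-- the pairs `(q, e)` whose primitive part divides `N0` -/
def LP : List (ℕ × ℕ) := [
  (2, 3), (3, 3), (4, 3), (5, 3), (6, 3), (7, 3), (9, 3), (10, 3), (11, 3), (16, 3), (18, 3),
  (22, 3), (25, 3), (26, 3), (29, 3), (30, 3), (36, 3), (37, 3), (49, 3), (67, 3), (79, 3),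
  (87, 3), (100, 3), (121, 3), (163, 3), (165, 3), (178, 3), (191, 3), (211, 3), (315, 3),
  (380, 3), (565, 3), (676, 3), (900, 3), (1369, 3), (1712, 3), (2382, 3), (2629, 3), (3446, 3),
  (25363, 3), (2, 4), (3, 4), (4, 4), (5, 4), (6, 4), (7, 4), (8, 4), (9, 4), (12, 4), (13, 4),
  (17, 4), (18, 4), (21, 4), (31, 4), (32, 4), (43, 4), (47, 4), (57, 4), (68, 4), (70, 4),
  (73, 4), (99, 4), (132, 4), (157, 4), (191, 4), (268, 4), (278, 4), (302, 4), (307, 4),
  (993, 4), (2943, 4), (2, 5), (3, 5), (4, 5), (5, 5), (16, 5), (2, 6), (3, 6), (4, 6), (5, 6),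
  (6, 6), (7, 6), (8, 6), (10, 6), (11, 6), (12, 6), (17, 6), (19, 6), (23, 6), (26, 6), (27, 6),
  (30, 6), (31, 6), (37, 6), (38, 6), (50, 6), (68, 6), (80, 6), (88, 6), (101, 6), (122, 6),
  (164, 6), (166, 6), (179, 6), (192, 6), (212, 6), (316, 6), (381, 6), (566, 6), (677, 6),
  (901, 6), (1370, 6), (1713, 6), (2383, 6), (2630, 6), (3447, 6), (25364, 6), (2, 8), (3, 8),
  (2, 10), (4, 10), (2, 12), (2, 14), (2, 18), (3, 18), (2, 20)]

def NumStmt : Prop :=
  ∀ q e : ℕ, 2 ≤ q → 3 ≤ e → (∀ c, c ∣ q ^ e - 1 →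
    (∀ j, 1 ≤ j → j < e → c.Coprime (q ^ j - 1)) → c ∣ N0) → (q, e) ∈ LP

def HS1Stmt : Prop :=
  ∀ (S : Type u) [Group S] [Finite S], Nat.card S = 44352000 → Om S 9 → Om S 15 → Om S 45

def HS3Stmt : Prop :=
  ∀ (X : Type u) [Group X] [Finite X] (S : Type v) [Group S] [Finite S] (f : X →* S),
    Function.Surjective f → IsSimpleGroup S → Nat.card S = 44352000 → IsPGroup 3 f.ker →
    f.ker ≠ ⊥ → Om X 20 ∨ Om X 21 ∨ Om X 25 ∨ Om X 30 ∨ Om X 35 ∨ Om X 55

def ExStmt : Prop :=
  ∀ (S : Type u) [Group S] [Finite S], IsSimpleGroup S →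
    (Nat.card S = 604800 → Om S 10) ∧ (Nat.card S = 898128000 → Om S 14) ∧
    (Nat.card S = 443520 → ¬ Om S 9 ∧ ∃ Z T : Subgroup S, IsPGroup 2 Z ∧ Nat.card T = 7 ∧
      T ≤ normalizer (Z : Set S) ∧ ¬ T ≤ centralizer (Z : Set S)) ∧
    (Cfsg.Lie.IsoTits S → ¬ Om S 9)

end Cfsg.Agent.H89.Sp
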