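import Mathlib
import Cfsg.Agent.H89.Sy

/-!
# Lifting a Sylow 2-subgroup through a normal subgroup of odd order
-/

set_option autoImplicit false
set_option linter.unusedSectionVars false

open Cfsg.Agent.H89.Rec
open Subgroup

namespace Cfsg.Agent.H89

section

variable {C B M : Type*} [Group C] [Finite C] [Group B] [Finite B] [Group M] {π : C →* B}
  {ψ : M →* B}

theorem Rec.Fr.lift (h : Fr ψ) (hπ : Function.Surjective π) (hk : Odd (Nat.card π.ker)) :
    ∃ ι : M →* C, Fr ι ∧ ∀ u, π (ι u) = ψ u := by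
  obtain ⟨P⟩ : Nonempty (Sylow 2 (ψ.range.comap π)) := inferInstance
  let f : ψ.range.comap π →* ψ.range := (π.comp (Subgroup.subtype _)).codRestrict _ fun x => x.2
  have hf : Function.Surjective f := fun ⟨y, hy⟩ =>
    let ⟨x, e⟩ := hπ y; ⟨⟨x, by rw [mem_comap, e]; exact hy⟩, Subtype.ext e⟩
  have h1 : (⊤ : Subgroup ψ.range) = (P : Subgroup _).map f :=
    (P.mapSurjective hf).is_maximal' (h.syl.grp.to_subgroup ⊤) le_top
  have hb : Function.Bijective (f.comp (P : Subgroup _).subtype) := ⟨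
    (injective_iff_map_eq_one _).2 fun x e => Subtype.ext (Subtype.ext
      (eq_one_of_mem hk (P.2.map (Subgroup.subtype _)) (congrArg Subtype.val e) ⟨_, x.2, rfl⟩)),
    fun y => let ⟨x, hx, e⟩ := h1.le (mem_top y); ⟨⟨x, hx⟩, e⟩⟩
  let e := MulEquiv.ofBijective _ hb
  let ι : M →* C := (ψ.range.comap π).subtype.comp ((P : Subgroup (ψ.range.comap π)).subtype.comp
    (e.symm.toMonoidHom.comp ψ.rangeRestrict))
  have h2 : ∀ u, π (ι u) = ψ u := fun u =>
    congrArg Subtype.val (e.apply_symm_apply (ψ.rangeRestrict u))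
  have h3 : ι.range = (P : Subgroup (ψ.range.comap π)).map (ψ.range.comap π).subtype := by
    have : (e.symm.toMonoidHom.comp ψ.rangeRestrict).range = ⊤ :=
      MonoidHom.range_eq_top.2 (e.symm.surjective.comp ψ.rangeRestrict_surjective)
    rw [MonoidHom.range_comp, MonoidHom.range_comp, this, ← MonoidHom.range_eq_map, range_subtype]
  have h4 : Syl ι.range (ψ.range.comap π) := Syl.of_sylow (h3 ▸ map_subtype_le _) P (by
    rw [h3, subgroupOf, comap_map_eq_self_of_injective (Subgroup.subtype_injective _)])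
  refine ⟨ι, ⟨fun u u' e => h.inj (by rw [← h2, e, h2]), le_top, h4.grp, ?_⟩, h2⟩
  rw [← relIndex_mul_relIndex _ _ ⊤ h4.le le_top, relIndex_top_right,
    index_comap_of_surjective _ hπ, ← relIndex_top_right]
  exact h4.odd.mul h.syl.odd

theorem Rec.Fr.lift_cj (h : Fr ψ) (hπ : Function.Surjective π) {ι : M →* C} (hι : Fr ι)
    (e : ∀ u, π (ι u) = ψ u) (b : B) :
    ∃ g, π g = b ∧ ∀ u u', Cj ψ b u u' → Cj ι g u u' := by
  obtain ⟨g, rfl⟩ := hπ b
  let A : Subgroup M := (ψ.range.comap (MulAut.conj (π g)).toMonoidHom).comap ψ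
  obtain ⟨k, ⟨m, hm⟩, hk⟩ := (hι.sylK (K := ψ.range.comap π) (by
    rintro _ ⟨u, rfl⟩; exact ⟨u, (e u).symm⟩)).exists_conj_le
    (X := (A.map ι).map (MulAut.conj g).toMonoidHom) (by
      rintro _ ⟨_, ⟨u, ⟨w, hw⟩, rfl⟩, rfl⟩
      exact ⟨w, by simpa [e] using hw⟩) ((hι.grp A).map _)
  have h1 : π ((ι m)⁻¹ * k * g) = π g := by
    rw [map_mul, map_mul, map_inv, e, hm, inv_mul_cancel, one_mul]
  refine ⟨_, h1, fun u u' hu => ?_⟩
  obtain ⟨w, hw⟩ := hk _ ⟨_, ⟨u, ⟨u', Eq.symm hu⟩, rfl⟩, rfl⟩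
  have h2 : Cj ι ((ι m)⁻¹ * k * g) u (m⁻¹ * w * m) := by
    unfold Cj
    rw [map_mul, map_mul, map_inv, hw]
    simp [mul_assoc]
  refine h2.of_eq rfl (h.inj ?_)
  rw [← e, ← (h2 : _ = _), map_mul, map_mul, map_inv, h1, e, hu]

end

/-- A Sylow 2-subgroup `⟨t⟩ × T` of `C(t)` with the fusion of an extension of `2 × L`. -/
structure Br {G L : Type*} [Group G] [Group L] (t : G) (T : Subgroup L) (s : T →* G) : Prop where
  inj : Function.Injective s
  tn : ∀ u, t ≠ s u
  comm : ∀ u, t * s u = s u * t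
  syl : ∃ R, Syl R (centralizer {t}) ∧ ∀ g, g ∈ R ↔ ∃ u, g = s u ∨ g = t * s u
  lift : ∀ l : L, ∃ g, g * t = t * g ∧ ∀ u u' : T, l * u * l⁻¹ = u' → g * s u * g⁻¹ = s u'
  aut : ∀ g, g * t = t * g → ∃ β : MulAut L, ∀ u u' : T,
    (g * s u * g⁻¹ = s u' ∨ g * s u * g⁻¹ = t * s u') → g * s u * g⁻¹ = s u' ∧ β u = u'

theorem exists_br {G L : Type*} [Group G] [Finite G] [Group L] [Finite L] [IsSimpleGroup L]
    (hL : ¬ IsMulCommutative L) {t : G} (ht : orderOf t = 2)
    (e : closure {x : centralizer ({t} : Set G) ⧸ oddCore (centralizer ({t} : Set G)) |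
      ∃ k : ℕ, orderOf x = 2 ^ k} ≃* Multiplicative (ZMod 2) × L) {T : Subgroup L} (hT : Syl T ⊤) :
    ∃ s : T →* G, Br t T s := by
  set C : Subgroup G := centralizer {t} with hC
  set W := closure {x : C ⧸ oddCore C | ∃ k : ℕ, orderOf x = 2 ^ k} with hW
  have hZ : center L = ⊥ := (Normal.eq_bot_or_eq_top (inferInstance : (center L).Normal)).resolve_right fun h =>
    hL ⟨⟨fun a b => mem_center_iff.1 (h.ge (mem_top b)) a⟩⟩
  have hP : commutator L = ⊤ := (Normal.eq_bot_or_eq_top (inferInstance : (commutator L).Normal)).resolve_left fun h =>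
    hL ⟨⟨fun a b => commutatorElement_eq_one_iff_mul_comm.1
      (h.le (commutator_mem_commutator (mem_top a) (mem_top b)))⟩⟩
  have tC : t ∈ C := mem_centralizer_singleton_iff.2 rfl
  have tt := H10.mul_self_of_orderOf_two ht
  let π := QuotientGroup.mk' (oddCore C)
  have hπ : Function.Surjective π := QuotientGroup.mk'_surjective _
  have hk : Odd (Nat.card π.ker) := by
    have := oc_odd C
    rwa [oc, card_map_of_injective C.subtype_injective, ← QuotientGroup.ker_mk' (pPrimeCore 2 C)]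
      at this
  obtain ⟨φ, φi, φr, φw⟩ : ∃ φ : Multiplicative (ZMod 2) × L →* C ⧸ oddCore C,
      Function.Injective φ ∧ (∀ x ∈ W, ∃ y, φ y = x) ∧ ∀ y, φ y ∈ W :=
    ⟨W.subtype.comp e.symm.toMonoidHom, W.subtype_injective.comp e.symm.injective,
      fun x hx => ⟨e ⟨x, hx⟩, by simp⟩, fun y => (e.symm y).2⟩
  have hWn : ∀ b, ∀ x ∈ W, b * x * b⁻¹ ∈ W := fun b x hx => by
    induction hx using closure_induction with
    | mem x hx => exact subset_closure (hx.imp fun k hk => by rw [H10.orderOf_conj, hk])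
    | one => simp
    | mul x y _ _ h1 h2 => rw [← conj_mul]; exact W.mul_mem h1 h2
    | inv x _ h1 => rw [← conj_inv]; exact W.inv_mem h1
  obtain ⟨j, hj⟩ : ∃ j : Multiplicative (ZMod 2) × T →* Multiplicative (ZMod 2) × L,
      ∀ a u, j (a, u) = (a, (u : L)) := ⟨(MonoidHom.id _).prodMap T.subtype, fun _ _ => rfl⟩
  have ji : Function.Injective j := fun ⟨a, u⟩ ⟨b, w⟩ h => by
    rw [hj, hj, Prod.mk.injEq] at h
    exact Prod.ext h.1 (Subtype.ext h.2)
  have jr : j.range = (⊤ : Subgroup _).prod T := by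
    ext ⟨a, b⟩
    exact ⟨fun ⟨⟨_, u⟩, h⟩ => ⟨trivial, by rw [← h, hj]; exact u.2⟩,
      fun h => ⟨(a, ⟨b, h.2⟩), hj _ _⟩⟩
  have z2 : IsPGroup 2 (Multiplicative (ZMod 2)) := IsPGroup.of_card (n := 1) (by simp)
  have jg : IsPGroup 2 (Multiplicative (ZMod 2) × T) := by
    obtain ⟨n, hn⟩ := IsPGroup.iff_card.1 hT.grp
    exact IsPGroup.of_card (n := n + 1) (by rw [Nat.card_prod, hn, pow_succ']; simp)
  have jS : Syl j.range ⊤ := ⟨le_top, jg.of_surjective _ j.rangeRestrict_surjective, by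
    rw [relIndex_top_right, jr, index_prod, index_top, one_mul, ← relIndex_top_right]
    exact hT.odd⟩
  have hψ : Fr (φ.comp j) := by
    have g2 : IsPGroup 2 (φ.comp j).range := jg.of_surjective _ (φ.comp j).rangeRestrict_surjective
    obtain ⟨P, hP⟩ := g2.exists_le_sylow
    have h1 := jS.eq_of_le (P := (P : Subgroup _).comap φ) (P.2.comap_of_injective φ φi)
      (fun _ ⟨u, h⟩ => mem_comap.2 (hP ⟨u, congrArg φ h⟩)) le_top
    refine ⟨φi.comp ji, le_antisymm hP (fun x hx => ?_) ▸ Syl.sylow P⟩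
    obtain ⟨k, hk⟩ := IsPGroup.iff_orderOf.1 P.2 ⟨x, hx⟩
    obtain ⟨y, rfl⟩ := φr x (subset_closure ⟨k, by rw [← hk, orderOf_mk]⟩)
    obtain ⟨u, rfl⟩ := h1.le hx
    exact ⟨u, rfl⟩
  obtain ⟨ι, hι, eι⟩ := hψ.lift hπ hk
  have z1 : ∀ a : Multiplicative (ZMod 2), a = 1 ∨ a = Multiplicative.ofAdd 1 := by decide
  have et : ι (Multiplicative.ofAdd 1, 1) = ⟨t, tC⟩ := by
    have tc : ∀ k : C, k * ⟨t, tC⟩ = ⟨t, tC⟩ * k := fun k =>
      Subtype.ext (mem_centralizer_singleton_iff.1 k.2)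
    obtain ⟨k, -, ⟨a, u⟩, h⟩ := hι.exists_conj le_top (mem_top ⟨t, tC⟩) (Subtype.ext tt)
    rw [tc, mul_inv_cancel_right] at h
    have h1 : (u : L) ∈ center L := mem_center_iff.2 fun l => by
      obtain ⟨k, hk⟩ := hπ (φ (1, l))
      have := congrArg π (tc k)
      rw [map_mul, map_mul, hk, h, eι, MonoidHom.comp_apply, hj, ← map_mul, ← map_mul] at this
      exact congrArg Prod.snd (φi this)
    rw [hZ, mem_bot] at h1
    obtain rfl : u = 1 := Subtype.ext h1
    rcases z1 a with rfl | rfl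
    · rw [show t = 1 from congrArg Subtype.val (h.trans (map_one ι))] at ht
      simp at ht
    · exact h.symm
  let s : T →* G := C.subtype.comp (ι.comp (MonoidHom.inr _ _))
  have es : ∀ u, s u = ι (1, u) := fun _ => rfl
  have es' : ∀ u, t * s u = ι (Multiplicative.ofAdd 1, u) := fun u => by
    rw [es, show t = ι (Multiplicative.ofAdd 1, 1) by rw [et], ← coe_mul, ← map_mul]
    simp
  refine ⟨s, fun u u' h => congrArg Prod.snd (hι.inj (Subtype.ext h)), fun u h => ?_,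
    fun u => (mem_centralizer_singleton_iff.1 (ι (1, u)).2).symm,
    ⟨ι.range.map C.subtype, ?_, fun g => ⟨?_, ?_⟩⟩, fun l => ?_, fun g hg => ?_⟩
  · exact absurd (show Multiplicative.ofAdd (1 : ZMod 2) = 1 from
      congrArg Prod.fst (hι.inj (et.trans (Subtype.ext h)))) (by decide)
  · have := hι.syl.map C.subtype_injective
    rwa [← MonoidHom.range_eq_map, range_subtype] at this
  · rintro ⟨_, ⟨⟨a, u⟩, rfl⟩, rfl⟩
    exact ⟨u, (z1 a).imp (fun h => by rw [h, es]; rfl) fun h => by rw [h, es']; rfl⟩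
  · rintro ⟨u, rfl | rfl⟩
    exacts [⟨_, ⟨_, rfl⟩, (es u).symm⟩, ⟨_, ⟨_, rfl⟩, (es' u).symm⟩]
  · obtain ⟨g, -, h⟩ := hψ.lift_cj hπ hι eι (φ (1, l))
    refine ⟨g, mem_centralizer_singleton_iff.1 g.2, fun u u' hu =>
      congrArg Subtype.val (h (1, u) (1, u') ?_)⟩
    unfold Cj
    rw [MonoidHom.comp_apply, MonoidHom.comp_apply, hj, hj, ← map_inv, ← map_mul, ← map_mul]
    exact congrArg φ (Prod.ext (by simp) hu)
  · obtain ⟨g, rfl⟩ : ∃ g' : C, (g' : G) = g := ⟨⟨g, mem_centralizer_singleton_iff.2 hg⟩, rfl⟩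
    choose α hα using fun y => φr _ (hWn (π g) _ (φw y))
    let α' := MonoidHom.mk' α fun a b => φi (by rw [map_mul, hα, hα, hα, map_mul, conj_mul])
    let β := (MonoidHom.snd _ _).comp (α'.comp (MonoidHom.inr _ _))
    have h1 : ∀ l, α (1, l) = (1, β l) := fun l => Prod.ext (hP.ge.trans (commutator_le.2
      fun a _ b _ => (by
        rw [MonoidHom.mem_ker, map_commutatorElement, commutatorElement_eq_one_iff_mul_comm,
          mul_comm]) : _ ≤ ((MonoidHom.fst _ _).comp (α'.comp (MonoidHom.inr _ _))).ker)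
      (mem_top l)) rfl
    have h2 : Function.Injective β := fun a b h => by
      have := hα (1, a)
      rw [h1, h, ← h1, hα, mul_left_inj, mul_right_inj] at this
      exact (congrArg Prod.snd (φi this)).symm
    refine ⟨MulEquiv.ofBijective β (Finite.injective_iff_bijective.1 h2), fun u u' h => ?_⟩
    have key : ∀ a, (g : G) * s u * (g : G)⁻¹ = ι (a, u') → a = 1 ∧ β u = u' := fun a h => by
      have h3 := congrArg π (show g * ι (1, u) * g⁻¹ = ι (a, u') from Subtype.ext h)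
      rw [map_mul, map_mul, map_inv, eι, eι, MonoidHom.comp_apply, MonoidHom.comp_apply, hj, hj,
        ← hα] at h3
      have h4 := (h1 u).symm.trans (φi h3)
      exact ⟨(congrArg Prod.fst h4).symm, congrArg Prod.snd h4⟩
    rcases h with h | h
    · exact ⟨h, (key 1 h).2⟩
    · exact absurd (key _ (h.trans (es' u'))).1 (by decide)

end Cfsg.Agent.H89
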