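import Mathlib
import Cfsg.Agent.H89.XSBasic

/-! The Heisenberg group over `ZMod p` and transport of `XS` along isomorphisms. -/

set_option autoImplicit false

namespace Cfsg.Agent.H89

open Subgroup
open scoped commutatorElement

theorem XS.map {G G' : Type*} [Group G] [Group G'] {p : ℕ} {z : G} (h : XS p z) (e : G ≃* G') :
    XS p (e z) := by
  have hm : ∀ g : G, g ∈ zpowers z → e g ∈ zpowers (e z) := by
    rintro _ ⟨k, rfl⟩
    exact ⟨k, (map_zpow e z k).symm⟩
  refine ⟨(e.orderOf_eq z).trans h.ord, le_antisymm (fun c hc => ?_) ?_, fun a b => ?_, fun a => ?_⟩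
  · obtain ⟨c, rfl⟩ := e.surjective c
    refine hm c (h.center_eq ▸ mem_center_iff.mpr fun g => e.injective ?_)
    rw [map_mul, map_mul, mem_center_iff.mp hc]
  · rw [zpowers_le, mem_center_iff]
    intro g
    obtain ⟨g, rfl⟩ := e.surjective g
    rw [← map_mul, ← map_mul, mem_center_iff.mp h.mem_center]
  · obtain ⟨a, rfl⟩ := e.surjective a
    obtain ⟨b, rfl⟩ := e.surjective b
    rw [← map_commutatorElement]
    exact hm _ (h.comm_mem a b)
  · obtain ⟨a, rfl⟩ := e.surjective a
    rw [← map_pow]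
    exact hm _ (h.pow_mem a)

theorem isExtraspecial_of_mulEquiv {G G' : Type*} [Group G] [Group G'] [Finite G] {p : ℕ}
    [Fact p.Prime] (h : IsExtraspecial p G) (e : G ≃* G') : IsExtraspecial p G' := by
  have : Finite G' := Finite.of_equiv G e.toEquiv
  obtain ⟨z, hz⟩ := XS.of_isExtraspecial h
  exact (hz.map e).isExtraspecial (Nat.card_congr e.toEquiv ▸ card_ne_of_isExtraspecial h)

/-- The Heisenberg group of order `p ^ (2 n + 1)`. -/
@[ext] structure Heis (p n : ℕ) where
  a : Fin n → ZMod p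
  b : Fin n → ZMod p
  c : ZMod p

namespace Heis

variable {p n : ℕ}

instance instMulHeis : Mul (Heis p n) :=
  ⟨fun x y => ⟨x.a + y.a, x.b + y.b, x.c + y.c + x.a ⬝ᵥ y.b⟩⟩
instance instOneHeis : One (Heis p n) := ⟨⟨0, 0, 0⟩⟩
instance instInvHeis : Inv (Heis p n) := ⟨fun x => ⟨-x.a, -x.b, -x.c + x.a ⬝ᵥ x.b⟩⟩

@[simp] theorem mul_a (x y : Heis p n) : (x * y).a = x.a + y.a := rfl
@[simp] theorem mul_b (x y : Heis p n) : (x * y).b = x.b + y.b := rfl
@[simp] theorem mul_c (x y : Heis p n) : (x * y).c = x.c + y.c + x.a ⬝ᵥ y.b := rfl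
@[simp] theorem one_a : (1 : Heis p n).a = 0 := rfl
@[simp] theorem one_b : (1 : Heis p n).b = 0 := rfl
@[simp] theorem one_c : (1 : Heis p n).c = 0 := rfl
@[simp] theorem inv_a (x : Heis p n) : x⁻¹.a = -x.a := rfl
@[simp] theorem inv_b (x : Heis p n) : x⁻¹.b = -x.b := rfl
@[simp] theorem inv_c (x : Heis p n) : x⁻¹.c = -x.c + x.a ⬝ᵥ x.b := rfl

instance instGroupHeis : Group (Heis p n) := Group.ofLeftAxioms
  (fun x y z => by ext <;> simp [add_assoc]; ring)
  (fun x => by ext <;> simp)
  (fun x => by ext <;> simp)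

def equivProd : Heis p n ≃ (Fin n → ZMod p) × (Fin n → ZMod p) × ZMod p where
  toFun x := (x.a, x.b, x.c)
  invFun x := ⟨x.1, x.2.1, x.2.2⟩
  left_inv _ := rfl
  right_inv _ := rfl

instance instFiniteHeis [NeZero p] : Finite (Heis p n) := Finite.of_equiv _ equivProd.symm

theorem card_eq : Nat.card (Heis p n) = p ^ (2 * n + 1) := by
  rw [Nat.card_congr equivProd]
  simp [Nat.card_prod, Nat.card_pi]
  ring

/-- the generator of the centre -/
def z : Heis p n := ⟨0, 0, 1⟩

theorem pow_eq (x : Heis p n) (k : ℕ) :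
    x ^ k = ⟨k • x.a, k • x.b, k • x.c + k.choose 2 • (x.a ⬝ᵥ x.b)⟩ := by
  induction k with
  | zero => ext <;> simp
  | succ k ih =>
    rw [pow_succ, ih]
    refine Heis.ext (by simp [add_smul]) (by simp [add_smul]) ?_
    simp only [mul_c, smul_dotProduct, Nat.choose_succ_succ' k 1, Nat.choose_one_right, add_smul,
      one_smul]
    ring

theorem z_pow (k : ℕ) : (z : Heis p n) ^ k = ⟨0, 0, k⟩ := by
  rw [pow_eq]
  ext <;> simp [z]

theorem mem_zpowers_z [NeZero p] {x : Heis p n} (ha : x.a = 0) (hb : x.b = 0) :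
    x ∈ zpowers (z : Heis p n) := by
  have : x = z ^ x.c.val := by
    rw [z_pow]
    ext <;> simp [ha, hb]
  rw [this]
  exact pow_mem (mem_zpowers _) _

theorem xs [hp : Fact p.Prime] : XS p (z : Heis p n) := by
  refine ⟨orderOf_eq_prime (by rw [z_pow]; ext <;> simp) (fun h => ?_), le_antisymm
    (fun x hx => mem_zpowers_z ?_ ?_) ?_, fun x y => mem_zpowers_z ?_ ?_,
    fun x => mem_zpowers_z ?_ ?_⟩
  · exact one_ne_zero (congrArg Heis.c h)
  · ext i
    have := congrArg Heis.c (mem_center_iff.mp hx ⟨0, Pi.single i 1, 0⟩)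
    simpa using this.symm
  · ext i
    have := congrArg Heis.c (mem_center_iff.mp hx ⟨Pi.single i 1, 0, 0⟩)
    simpa using this
  · rw [zpowers_le, mem_center_iff]
    intro g
    ext <;> simp [z, add_comm]
  · simp [commutatorElement_def]
  · simp [commutatorElement_def]
  · rw [pow_eq]
    ext i
    simp
  · rw [pow_eq]
    ext i
    simp

theorem pow_prime [hp : Fact p.Prime] (h2 : p ≠ 2) (x : Heis p n) : x ^ p = 1 := by
  rw [pow_eq]
  have : ((p.choose 2 : ℕ) : ZMod p) = 0 := by
    rw [ZMod.natCast_eq_zero_iff]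
    exact hp.out.dvd_choose_self (by norm_num) (lt_of_le_of_ne hp.out.two_le h2.symm)
  ext <;> simp [this]

theorem isExtraspecial [hp : Fact p.Prime] (hn : 1 ≤ n) : IsExtraspecial p (Heis p n) :=
  xs.isExtraspecial (by
    rw [card_eq]
    intro h
    have := Nat.pow_right_injective hp.out.two_le (h.trans (pow_one p).symm)
    omega)

/-- The natural faithful representation of degree `n + 2`. -/
def rep : Heis p n →* Module.End (ZMod p) (ZMod p × (Fin n → ZMod p) × ZMod p) where
  toFun x :=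
    { toFun := fun v => (v.1 + x.a ⬝ᵥ v.2.1 + x.c * v.2.2, v.2.1 + v.2.2 • x.b, v.2.2)
      map_add' := fun v w => by ext <;> simp <;> ring
      map_smul' := fun r v => by ext <;> simp <;> ring }
  map_one' := LinearMap.ext fun v => by ext <;> simp
  map_mul' x y := LinearMap.ext fun v => by ext <;> simp <;> ring

theorem rep_injective : Function.Injective (rep (p := p) (n := n)) := by
  rw [injective_iff_map_eq_one]
  intro x hx
  have h1 := LinearMap.congr_fun hx (0, 0, 1)
  have h2 := fun i => LinearMap.congr_fun hx (0, Pi.single i 1, 0)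
  simp only [rep, MonoidHom.coe_mk, OneHom.coe_mk, LinearMap.coe_mk, AddHom.coe_mk,
    Module.End.one_apply, Prod.mk.injEq] at h1 h2
  ext i
  · simpa using (h2 i).1
  · simpa using congrFun h1.2.1 i
  · simpa using h1.1

end Heis

end Cfsg.Agent.H89
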