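import Mathlib
import Cfsg.Agent.H89.Cj2
import Cfsg.Agent.H89.C64

/-!
# An extension of the cyclic group of order eight by its automorphism group
-/

set_option autoImplicit false
set_option maxRecDepth 100000
set_option exponentiation.threshold 10000

open Cfsg.Agent.H89.TG Cfsg.Agent.H89.Rec
open Cfsg.Agent.H44 (Sat gen ev finite_card_bot IdxLe lettersIn invW)

namespace Cfsg.Agent.H89.NA


/-- A block of rows. -/
def blk0 : ℕ := nat_lit 0xa4f583f4bc0213ff3c4d92e0170eb6d9326545979d389317bac930d9399ff0c307af77aa0078a856188c8c93764e00a8b26e0c1726d2fc2f4faff9f5bdbf183dcd62d5adf73caa0e629253f0c414e014b5daa0b9ff10e3ca941ad90c7ea3d492d90c27332642b10fd354589c02c531d15e5e8d73e1fd6fb2c25747c023f7e6801ea4ceba53704a6364eb5f7129bc1a4d4c6c9d926355e0136bed6ff88713f5103158e8aa7e18835e5d1926ec9c03f05c9b4e9f4f3f44f546925b21bd5880456f84e5a11fbf329b8ec926cff86183d65373a9c5ea801dd2a4542deacdd6dedf7c51a4e57b5707e97804254b805c3264ccdea3218bef705a7ea0d7b241ca960c54e9ec930b4e0737060b93684c9b68070bd3e99117fcfbdaaa54496298e8af2e3107cb635cf87c18ceb7da4e49f7f152675d29b907ac349a98d938e04dafb10e2870766bd920e54a21c7f26b153a791dd649883d677c2a7b5f19d6fac5a9bef8a349c885e01090b86683f3d4e2f5400fefcc6c5ca9150b8626f56705a59353b40385e9f4170e13a445ff3cd9c5ed562d44af15e5b1ae7c3e6290f6be33adf4228d27202123e55df9358a9d3d6bed262f759262230c1eb400e2e9e509d222ff9e04279bd6717b546e6b16a31481ffbbcdeb38bdab49ca307b9ac5a928398a418820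

/-- A block of rows. -/
def blk1 : ℕ := nat_lit 0x22826c9700b87d3e8b84db64c99fe9aa2caf2ff4020362e548a8584e6fd3989bd5a7f7b82de54be0b805c26db264d26d1621fa6a8b347457977c3fd10ec0d6c863f50e0b5ea8d24b640b5be139f7e7c5b0e4022b7c273150a8f8047efcedae94dc6c9db62ef9e55073148f87dd154fc3107bbb27009369a6c8baaf009b5f73a794173fe21c70431fa85b2198a917e9cc4deacb6424317dee0b729072a59d3d8

/-- The blocks. -/
noncomputable def blk (c : ℕ) : ℕ := nthD 0 [blk0, blk1] c

/-- A row of the table. -/
noncomputable def row (a : ℕ) : ℕ :=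
  fld (nat_lit 160) (nat_lit 0xffffffffffffffffffffffffffffffffffffffff) (force (Nat.div a (nat_lit 24)) blk) (Nat.mod a (nat_lit 24))

/-- The product. -/
noncomputable def mu (a b : ℕ) : ℕ :=
  Nat.rec (motive := fun _ => ℕ) (nat_lit 0) (fun a' _ => Nat.land (Nat.shiftRight (row a') (Nat.mul b (nat_lit 5))) (nat_lit 31)) (Nat.succ a)

/-- The inverse. -/
noncomputable def iv (a : ℕ) : ℕ := Nat.land (Nat.shiftRight (nat_lit 0xffbbcd9327b96a18ca6e5416c6bd28c1ada18a80) (Nat.mul a (nat_lit 5))) (nat_lit 31)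

/-- The table. -/
noncomputable def T : Tab := ⟨nat_lit 32, mu, iv⟩

theorem T_n : T.n = 32 := rfl
theorem T_mu : T.mu = mu := rfl
theorem T_iv : T.iv = iv := rfl

/-- The spanning tree. -/
noncomputable def par : ℕ → ℕ := fld 5 31 (nat_lit 0xad5ee6b56b529494a507394a4210621042100000)
/-- The labels of the tree. -/
noncomputable def gn : ℕ → ℕ := fld 5 31 (nat_lit 0x1886118861188231042310c231042308c4118820)

theorem c1 : chk1 32 3 mu iv = true := by decide +kernel

theorem c2_1 : chk2 32 3 mu par gn 1 31 = true := by decide +kernel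

instance ok : Fact T.OK := ⟨ok_of_chk (k := 3) c1 (colOK_of_chk2 c2_1)⟩

/-- The group. -/
abbrev M : Type := El T

theorem card : Nat.card M = 32 := El.card T

/-- A named element. -/
def c : M := ⟨nat_lit 1, by decide⟩
theorem c_val : c.val = 1 := rfl

/-- A named element. -/
def x : M := ⟨nat_lit 2, by decide⟩
theorem x_val : x.val = 2 := rfl

/-- A named element. -/
def y : M := ⟨nat_lit 3, by decide⟩
theorem y_val : y.val = 3 := rfl

/-- A named element. -/
def z : M := ⟨nat_lit 21, by decide⟩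
theorem z_val : z.val = 21 := rfl


/-- A table of words. -/
def Wall : ℕ := nat_lit 0xc924000224900001a2800002d100001944000045100001a2400002890000192400004490000092400000cb0000022c000004b0000016800000ca0000022800000d10000014400000c90000022400000490000002c000001a0000002800000190000004400000090000000c0000002000000040000000

/-- Decide a statement about the group. -/
scoped macro "hd" : tactic =>
  `(tactic| tdec [T_n, T_mu, T_iv, sat_iff, val_ev, c_val, x_val, y_val, z_val])

theorem sat : Sat (pr [c, x, y]) C64.NA.R := by hd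

theorem top : gen (pr [c, x, y]) 6 = ⊤ := gen_eq_top (W := Wall) (by hd) le_rfl

theorem card_le {G : Type*} [Group G] {g : ℕ → G} (hg : Sat g C64.NA.R) :
    Finite (gen g 6) ∧ Nat.card (gen g 6) ≤ 32 :=
  (C64.NA.idxLe hg (H := ⊥) (by simp [C64.NA.S])).card_le bot_le finite_card_bot

theorem exists_hom {G : Type*} [Group G] {l : List G} (hl : 3 = l.length)
    (hg : Sat (pr l) C64.NA.R) : ∃ f : M →* G, [c, x, y].map f = l :=
  exists_hom_list top sat card.ge (fun _ => card_le) hl hg


end Cfsg.Agent.H89.NA
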