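import Mathlib
import Cfsg.Agent.H89.Cj2
import Cfsg.Agent.H89.C64

/-!
# An extension of the cyclic group of order eight by its automorphism group
-/

set_option autoImplicit false
set_option maxRecDepth 100000
set_option exponentiation.threshold 10000

open Cfsg.Agent.H89.TG Cfsg.Agent.H89.Rec
open Cfsg.Agent.H44 (Sat gen ev finite_card_bot IdxLe lettersIn invW)

namespace Cfsg.Agent.H89.NB


/-- A block of rows. -/
def blk0 : ℕ := nat_lit 0x775262fb7a2568ffb6d318630667985200792c57f2e6ca3a307a8a441ee9cf37a30c22afe4d07716eb3f0786d31e407c289cd98be4484ba39b1ba7554c1d318abf96eead64e62a01dc356c78636273d4cc46d653f25a13a063c73139bb8ab683c2eea8b3439618c062b5d454837a278e6ed67f6b28fce392d0a0bafdaca1f773101d52738e3dc1b4c722f911535f25d66311bb82a344e5d39006d1651dff1f70e4c3f92e8e69499f6d48062e9d459018ad539baf2d5b698c31868dd27939c29003b1f4fc962e6eeec0582b4e4ba9320e5cbe3f5484d3ee8c1e3de8cd3ca8315a0f0f3c8d9b17483aa2ba2d5d7f3d132c20eaf0c59472746cf100e97c7dfdb215a70c5d4b5991a272e9c8e4d155e18b28ef831d2f8fbb4e0a1ef2731500efe70909cd63c31b6157d139e5d6898dc1bd13c73082eb4175fb5947f4aa4e71c98e48170d8ba41d53c720da8e6aebf9951ede8998c187680b9c5f44e05df8b0569c975a7b67ea90983c669ebc9ce148046d580daca7e4b11fa627377785c50a788074be3d1e3746bf90ad386cdace2ea6b16437c4e6b1e1880fbe9738be89cf5a1392eb452123bbed473575ff71c524c5f6f44cce430c60c400e205235fc8569f9093f79bd67175406f7358b31481ffbbcdeb38bdab49ca307b9ac5a928398a418820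

/-- A block of rows. -/
def blk1 : ℕ := nat_lit 0xdda5183dcd6639ebebaa41cc522e9598c414e41fa28f74e79bd418b7ba63157f269885403b80c6de7e544e6cc5f4e0c187f25d1cd8a0e0c5d3a15abd9176a403174bbf36ac3180c56aeb24f1cdd651fc8635d520e62b63663e4bacc62093dcba720a3bfba9c80ea939c3162a7e0f0da63972fb317c87363a6231e3989cdc9b15d062b41e175f4907545afe79b12e5f1faa42c41acd947460f1a419e6f46fc9b8

/-- The blocks. -/
noncomputable def blk (c : ℕ) : ℕ := nthD 0 [blk0, blk1] c

/-- A row of the table. -/
noncomputable def row (a : ℕ) : ℕ :=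
  fld (nat_lit 160) (nat_lit 0xffffffffffffffffffffffffffffffffffffffff) (force (Nat.div a (nat_lit 24)) blk) (Nat.mod a (nat_lit 24))

/-- The product. -/
noncomputable def mu (a b : ℕ) : ℕ :=
  Nat.rec (motive := fun _ => ℕ) (nat_lit 0) (fun a' _ => Nat.land (Nat.shiftRight (row a') (Nat.mul b (nat_lit 5))) (nat_lit 31)) (Nat.succ a)

/-- The inverse. -/
noncomputable def iv (a : ℕ) : ℕ := Nat.land (Nat.shiftRight (nat_lit 0x991a270e928ead9ca2b7b28e82b1dcfafbb0be0) (Nat.mul a (nat_lit 5))) (nat_lit 31)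

/-- The table. -/
noncomputable def T : Tab := ⟨nat_lit 32, mu, iv⟩

theorem T_n : T.n = 32 := rfl
theorem T_mu : T.mu = mu := rfl
theorem T_iv : T.iv = iv := rfl

/-- The spanning tree. -/
noncomputable def par : ℕ → ℕ := fld 5 31 (nat_lit 0xc41ee6b18b5a929420e62948420c621042100000)
/-- The labels of the tree. -/
noncomputable def gn : ℕ → ℕ := fld 5 31 (nat_lit 0x18c2318c2310c41184631846208c2308c4118820)

theorem c1 : chk1 32 3 mu iv = true := by decide +kernel

theorem c2_1 : chk2 32 3 mu par gn 1 31 = true := by decide +kernel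

instance ok : Fact T.OK := ⟨ok_of_chk (k := 3) c1 (colOK_of_chk2 c2_1)⟩

/-- The group. -/
abbrev M : Type := El T

theorem card : Nat.card M = 32 := El.card T

/-- A named element. -/
def c : M := ⟨nat_lit 1, by decide⟩
theorem c_val : c.val = 1 := rfl

/-- A named element. -/
def x : M := ⟨nat_lit 2, by decide⟩
theorem x_val : x.val = 2 := rfl

/-- A named element. -/
def y : M := ⟨nat_lit 3, by decide⟩
theorem y_val : y.val = 3 := rfl

/-- A named element. -/
def z : M := ⟨nat_lit 10, by decide⟩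
theorem z_val : z.val = 10 := rfl


/-- A table of words. -/
def Wall : ℕ := nat_lit 0xd92400006d900000b44000065100001b24000068900000a2400006490000112400000db0000022c000004b00000368000005a0000032800000d900000344000005100000324000008900000124000001b0000002c000001a0000002800000190000004400000090000000c0000002000000040000000

/-- Decide a statement about the group. -/
scoped macro "hd" : tactic =>
  `(tactic| tdec [T_n, T_mu, T_iv, sat_iff, val_ev, c_val, x_val, y_val, z_val])

theorem sat : Sat (pr [c, x, y]) C64.NB.R := by hd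

theorem top : gen (pr [c, x, y]) 6 = ⊤ := gen_eq_top (W := Wall) (by hd) le_rfl

theorem card_le {G : Type*} [Group G] {g : ℕ → G} (hg : Sat g C64.NB.R) :
    Finite (gen g 6) ∧ Nat.card (gen g 6) ≤ 32 :=
  (C64.NB.idxLe hg (H := ⊥) (by simp [C64.NB.S])).card_le bot_le finite_card_bot

theorem exists_hom {G : Type*} [Group G] {l : List G} (hl : 3 = l.length)
    (hg : Sat (pr l) C64.NB.R) : ∃ f : M →* G, [c, x, y].map f = l :=
  exists_hom_list top sat card.ge (fun _ => card_le) hl hg


end Cfsg.Agent.H89.NB
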