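import Mathlib
import Cfsg.Agent.H89.SMc
import Cfsg.Agent.H89.TNA
import Cfsg.Agent.H89.TNB
import Cfsg.Agent.H89.TP001
import Cfsg.Agent.H89.TP010
import Cfsg.Agent.H89.TP011
import Cfsg.Agent.H89.TP100
import Cfsg.Agent.H89.TP101
import Cfsg.Agent.H89.TP110
import Cfsg.Agent.H89.TP111

/-!
# Sylow 2-subgroups of order 64 with a self-centralising element of order eight
-/

set_option autoImplicit false
set_option maxRecDepth 100000
set_option linter.unusedSectionVars false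

open Cfsg.Agent.H89.TG Cfsg.Agent.H89.Rec
open Cfsg.Agent.H44 (Sat gen ev)
open Subgroup

namespace Cfsg.Agent.H89

section

variable {M G : Type*} [Group M] [Group G] [Finite G] {ι : M →* G}

theorem Rec.Fr.not_inD (h : Fr ι) {z u r s : M} (hz : ∀ u, Commute u z) (hr : Commute r u)
    (hs : Commute s u) {ps qs : List (ℕ × ℕ)} (h1 : Rel [u, r, s] ps qs)
    (h2 : ∀ a b, ¬ Rel [z, a, b] ps qs) : ¬ InD ι z u := fun ⟨g, e⟩ => by
  obtain ⟨g', -, e1, e2⟩ := h.ext le_top hz (mem_top g) e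
  obtain ⟨a, ea⟩ := e2 r hr
  obtain ⟨b, eb⟩ := e2 s hs
  exact h2 a b (Rel.cj h.inj (.cons e1 (.cons ea (.cons eb .nil))) h1)

theorem Rec.Fr.isolated (h : Fr ι) {z x : M} {Y : M → Prop} (hz : ∀ u, Commute u z)
    (hx : z * z = 1 ∧ x * x = 1 ∧ x ≠ 1 ∧ x ≠ z ∧ x * z ≠ 1 ∧ x * z ≠ z ∧ ¬ Y x ∧ ¬ Y (x * z) ∧
      ¬ Y 1 ∧ ¬ Y z)
    (hY : ∀ u, Y u → Commute x u ∧ ∀ r, Commute r u →
      r = 1 ∨ r = z ∨ r = x ∨ r = x * z ∨ ∃ c, c * r * c⁻¹ = u)
    (hD : ∀ u, InD ι z u → u = z ∨ Y u) (u : M) (hu : InD ι z u) : u = z := by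
  obtain ⟨zz, xx, x1, x2, x3, x4, x5, x6, x7, x8⟩ := hx
  refine (hD u hu).resolve_right fun hy => ?_
  obtain ⟨g, -, e1, e2⟩ := hu.elim fun g e => h.ext le_top hz (mem_top g) e
  obtain ⟨z', e3⟩ := e2 z (hz u).symm
  obtain ⟨x', e4⟩ := e2 x (hY u hy).1
  have d1 : InD ι z z' := e3.inD' (InD.self _ _)
  have y1 : Y z' := (hD z' d1).resolve_left fun e => x8 ((e1.eq_iff h.inj e3).2 e.symm ▸ hy)
  have key : ∀ r r', Cj ι g r r' → r ≠ 1 → r ≠ z → ¬ Y r → r' = x ∨ r' = x * z :=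
    fun r r' e r1 r2 r3 => by
    have hn : ¬ InD ι z r' := fun d => (hD r (e.inD d)).elim r2 r3
    rcases (hY z' y1).2 r' (e.comm h.inj e3 (hz r)) with a | a | a | a | ⟨c, a⟩
    exacts [absurd a (e.ne_one h.inj r1), absurd (a ▸ InD.self _ _) hn, Or.inl a, Or.inr a,
      absurd ((Cj.self' a).inD d1) hn]
  have k : z' = x'⁻¹ * (x' * z') := by group
  have xi : x⁻¹ = x := inv_eq_of_mul_eq_one_right xx
  have zi : z⁻¹ = z := inv_eq_of_mul_eq_one_right zz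
  rcases key x x' e4 x1 x2 x5 with a | a <;>
    rcases key _ _ (e4.mul e3) x3 x4 x6 with b | b <;> rw [b, a] at k
  · exact x7 (by rwa [k, inv_mul_cancel] at y1)
  · exact x8 (by rwa [k, inv_mul_cancel_left] at y1)
  · exact x8 (by rwa [k, mul_inv_rev, mul_assoc, inv_mul_cancel, mul_one, zi] at y1)
  · exact x7 (by rwa [k, inv_mul_cancel] at y1)

theorem fr_of_list [Finite M] {c z : M} {l : List M} {n : ℕ} (htop : gen (pr (c :: l)) n = ⊤)
    {l' : List G} (h : (c :: l).map ι = l') {P : Subgroup G} (hP : Syl P ⊤)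
    (hc : Nat.card M = Nat.card P) (hm : ∀ g ∈ l', g ∈ P) (h1 : nthD 1 l' 0 ^ 4 ≠ 1)
    (hz : c ^ 4 = z) (h2 : ∀ u : M, u ≠ 1 → u = z ∨ ∃ c, c * u * c⁻¹ * u⁻¹ = z ∨
      ∃ d, d * (c * u * c⁻¹ * u⁻¹) * d⁻¹ * (c * u * c⁻¹ * u⁻¹)⁻¹ = z) : Fr ι := by
  subst h
  have hi : Function.Injective ι := inj_of_z (by rw [← hz, map_pow]; exact h1) h2
  refine ⟨hi, eq_of_le_of_card_ge (H := ι.range) (K := P)
    (range_le_of_list htop fun y hy => hm _ (List.mem_map_of_mem hy)) ?_ ▸ hP⟩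
  rw [← hc, Nat.card_congr (MonoidHom.ofInjective hi).toEquiv]

end

section

variable {G : Type*} [Group G] [Finite G]

/-- The relations of the groups of order 64. -/
structure R64 (f x y w : G) : Prop where
  f8 : f ^ 8 = 1
  xx : x * x = 1
  xf : x * f * x⁻¹ = f ^ 5
  yf : y * f * y⁻¹ = f⁻¹
  xy : x * y * x⁻¹ = y
  yy : y * y = 1 ∨ y * y = f ^ 4
  wf : w * f * w⁻¹ = f * x
  wx : w * x * w⁻¹ = x
  wy : w * y * w⁻¹ = x * y ∨ w * y * w⁻¹ = f * f * x * y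
  ww : w * w = 1 ∨ w * w = f ^ 4

theorem exists_w {T : Tab} [Fact T.OK] {c x y : El T} {W : ℕ} {R : List (List ℕ)}
    (hg : ∀ u, ext W [c, x, y] u = u) (hs : Sat (pr [c, x, y]) R) (c4 : c ^ 4 ≠ 1)
    (h1 : ∀ c' : El T, c' ^ 4 = 1 ∨ ∃ m, m * c * m⁻¹ = c' ∨ m * c' * m⁻¹ = c * x)
    (h2 : ∀ x' y', Sat (pr [c * x, x', y']) R → ∀ n, ext W [c * x, x', y'] n = n →
      n * c * n⁻¹ = ext W [c * x, x', y'] (c * x) → n * x * n⁻¹ = ext W [c * x, x', y'] x' →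
      n * y * n⁻¹ = ext W [c * x, x', y'] y' → ∃ m, m * (c * x) * m⁻¹ = c * x ∧
        m * x' * m⁻¹ = x ∧ (m * y' * m⁻¹ = x * y ∨ m * y' * m⁻¹ = c * c * x * y) ∧
        (m * ext W [c * x, x', y'] m * n = 1 ∨ m * ext W [c * x, x', y'] m * n = c ^ 4))
    {ν : El T →* G} (hi : Function.Injective ν) {P : Subgroup G} (hP : Idx2 ν.range P)
    (hC : ∀ p ∈ P, Commute p (ν c) → p ∈ ν.range) :
    ∃ w ∈ P, Cj ν w c (c * x) ∧ Cj ν w x x ∧ (Cj ν w y (x * y) ∨ Cj ν w y (c * c * x * y)) ∧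
      (w * w = 1 ∨ w * w = ν c ^ 4) := by
  have nm : ∀ g ∈ P, ∀ u, ∃ u', Cj ν g u u' := fun g hg u =>
    let ⟨u', e⟩ := (hP.conj_iff hg (hP.le ⟨u, rfl⟩)).2 ⟨u, rfl⟩; ⟨u', e.symm⟩
  obtain ⟨g, g1, g2⟩ : ∃ g ∈ P, g ∉ ν.range := by
    by_contra hn
    push Not at hn
    have := hP.idx
    rw [relIndex_eq_one.2 hn] at this
    omega
  obtain ⟨g, g1, e1⟩ : ∃ g ∈ P, Cj ν g c (c * x) := by
    obtain ⟨c', e⟩ := nm g g1 c
    rcases h1 c' with a | ⟨m, a | a⟩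
    · exact absurd a ((e.pow 4).ne_one hi c4)
    · refine absurd ?_ g2
      have := hC _ (P.mul_mem (P.inv_mem (hP.le ⟨m, rfl⟩)) g1)
        (e.trans (Cj.self' (ι := ν) a).symm).commute
      exact (ν.range.mul_mem_cancel_left (ν.range.inv_mem ⟨m, rfl⟩)).1 this
    · exact ⟨_, P.mul_mem (hP.le ⟨m, rfl⟩) g1, e.trans (Cj.self' a)⟩
  obtain ⟨x', e2⟩ := nm g g1 x
  obtain ⟨y', e3⟩ := nm g g1 y
  obtain ⟨n, e4⟩ := hP.sq_mem g1
  have hl : List.Forall₂ (Cj ν g) [c, x, y] [c * x, x', y'] := .cons e1 (.cons e2 (.cons e3 .nil))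
  have k : ∀ r, Cj ν g r (ext W [c * x, x', y'] r) := fun r => cj_ext hl (hg r)
  have k2 : ∀ r r', Cj ν g r r' → n * r * n⁻¹ = ext W [c * x, x', y'] r' := fun r r' e =>
    Cj.of_map hi (e4 ▸ e.trans (k r'))
  obtain ⟨m, a1, a2, a3, a4⟩ := h2 x' y' (sat_cj hi hl hs) n
    ((k n).uniq hi (by unfold Cj; rw [e4]; group)) (k2 _ _ e1) (k2 _ _ e2) (k2 _ _ e3)
  have k3 : ν m * g * (ν m * g) = ν (m * ext W [c * x, x', y'] m * n) := by
    rw [map_mul, map_mul, ← (show _ = _ from k m), e4]; group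
  exact ⟨ν m * g, P.mul_mem (hP.le ⟨m, rfl⟩) g1, e1.trans (Cj.self' a1), e2.trans (Cj.self' a2),
    a3.imp (fun a => e3.trans (Cj.self' a)) fun a => e3.trans (Cj.self' a),
    a4.imp (fun a => by rw [k3, a, map_one]) fun a => by rw [k3, a, map_pow]⟩

theorem exists_xy {P : Subgroup G} {f : G} (hfP : f ∈ P) (hf : orderOf f = 8)
    (hC : ∀ x ∈ P, x * f = f * x → x ∈ zpowers f) {x y : G} (hx : x ∈ P) (hy : y ∈ P)
    (xf : x * f * x⁻¹ = f ^ 5) (yf : y * f * y⁻¹ = f ^ 7) : ∃ x ∈ P, ∃ y ∈ P, x * x = 1 ∧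
      x * f * x⁻¹ = f ^ 5 ∧ y * f * y⁻¹ = f ^ 7 ∧ x * y * x⁻¹ = y ∧ (y * y = 1 ∨ y * y = f ^ 4) := by
  have md : ∀ a b : ℕ, f ^ a = f ^ b ↔ a % 8 = b % 8 := fun a b => by
    rw [pow_eq_pow_iff_modEq, hf]; rfl
  have cp : ∀ {g : G} {k : ℕ}, g * f * g⁻¹ = f ^ k → ∀ n : ℕ, g * f ^ n * g⁻¹ = f ^ (k * n) :=
    fun e n => by rw [← conj_pow, e, pow_mul]
  have ex : ∀ g ∈ P, g * f * g⁻¹ = f → ∃ k : ℕ, g = f ^ k := fun g hg e => by
    have := hC g hg (by rw [← mul_inv_eq_iff_eq_mul, e])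
    rw [← mem_powers_iff_mem_zpowers] at this
    exact this.imp fun _ => Eq.symm
  have sq : ∀ g ∈ P, ∀ k : ℕ, g * f * g⁻¹ = f ^ k → k * k % 8 = 1 →
      ∃ n : ℕ, g * g = f ^ n ∧ k * n % 8 = n % 8 := fun g hg k e hk => by
    obtain ⟨n, e1⟩ := ex (g * g) (P.mul_mem hg hg) (by
      calc _ = g * (g * f * g⁻¹) * g⁻¹ := by group
        _ = f ^ 1 := by rw [e, cp e, md, hk]
        _ = f := pow_one f)
    exact ⟨n, e1, (md _ _).1 (by rw [← cp e, ← e1]; group)⟩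
  obtain ⟨x, hx, xx, xf⟩ : ∃ x ∈ P, x * x = 1 ∧ x * f * x⁻¹ = f ^ 5 := by
    obtain ⟨n, e1, e2⟩ := sq x hx 5 xf rfl
    refine ⟨x * f ^ (n / 2), P.mul_mem hx (P.pow_mem hfP _), ?_, by rw [← xf]; group⟩
    calc _ = x * f ^ (n / 2) * x⁻¹ * (x * x) * f ^ (n / 2) := by group
      _ = f ^ 0 := by rw [cp xf, e1, ← pow_add, ← pow_add, md]; omega
      _ = 1 := pow_zero f
  obtain ⟨n, e1, e2⟩ := sq y hy 7 yf rfl
  have yy : y * y = 1 ∨ y * y = f ^ 4 := by
    rw [e1, ← pow_zero f, md, md]; omega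
  have xi : x⁻¹ = x := inv_eq_of_mul_eq_one_right xx
  obtain ⟨k, e3⟩ := ex (x * y * x⁻¹ * y⁻¹)
    (P.mul_mem (P.mul_mem (P.mul_mem hx hy) (P.inv_mem hx)) (P.inv_mem hy)) (by
      have a1 : y⁻¹ * f * y⁻¹⁻¹ = f ^ 7 := by
        have : y * f ^ 7 * y⁻¹ = f := by rw [cp yf, ← pow_one f, ← pow_mul, md]
        rw [inv_inv, mul_assoc, inv_mul_eq_iff_eq_mul, ← eq_mul_inv_iff_mul_eq, this]
      have a2 : x⁻¹ * f * x⁻¹⁻¹ = f ^ 5 := by rwa [xi]
      calc _ = x * (y * (x⁻¹ * (y⁻¹ * f * y⁻¹⁻¹) * x⁻¹⁻¹) * y⁻¹) * x⁻¹ := by group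
        _ = f ^ 1 := by rw [a1, cp a2, cp yf, cp xf, md]
        _ = f := pow_one f)
  have e4 : x * y * x⁻¹ = f ^ k * y := by rw [← e3]; group
  have e5 : f ^ (5 * k + k) = f ^ 0 := by
    have : x * (x * y * x⁻¹) * x⁻¹ = y := by
      calc _ = (x * x) * y * (x * x)⁻¹ := by group
        _ = y := by rw [xx]; group
    rw [e4, ← conj_mul, e4, cp xf, ← mul_assoc, ← pow_add] at this
    rw [pow_zero, ← mul_right_cancel_iff (a := y), this, one_mul]
  rw [md] at e5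
  by_cases h0 : k % 8 = 0
  · exact ⟨x, hx, y, hy, xx, xf, yf, by rw [e4, (md k 0).2 h0, pow_zero, one_mul], yy⟩
  · refine ⟨x, hx, f * y, P.mul_mem hfP hy, xx, xf, ?_, ?_, ?_⟩
    · calc _ = f * (y * f * y⁻¹) * f⁻¹ := by group
        _ = _ := by rw [yf]; group
    · rw [← conj_mul, e4, xf, ← mul_assoc, ← pow_add, (md _ 1).2 (by omega), pow_one]
    · have : f * y * (f * y) = y * y := by
        calc _ = f ^ 1 * (y * f * y⁻¹) * (y * y) := by group
          _ = _ := by rw [yf, ← pow_add, (md (1 + 7) 0).2 rfl, pow_zero, one_mul]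
      rwa [this]

theorem satN {f x y : G} (ws : List G) (f8 : f ^ 8 = 1) (xx : x * x = 1)
    (xf : x * f * x⁻¹ = f ^ 5) (yf : y * f * y⁻¹ = f⁻¹) (xy : x * y * x⁻¹ = y) :
    Sat (pr (f :: x :: y :: ws)) [[1, 2], [3, 4], [5, 6], [1, 1, 1, 1, 1, 1, 1, 1], [3, 3],
      [3, 1, 4, 1, 1, 1], [5, 1, 6, 1], [3, 5, 4, 6]] :=
  .cons (ev_pair _ 0) (.cons (ev_pair _ 1) (.cons (ev_pair _ 2) (.cons (by
    change f * (f * (f * (f * (f * (f * (f * (f * 1))))))) = 1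
    refine .trans ?_ f8; simp [pow_succ, mul_assoc]) (.cons (by
    change x * (x * 1) = 1
    rw [mul_one, xx]) (.cons (by
    change x * (f * (x⁻¹ * (f * (f * (f * 1))))) = 1
    rw [← mul_assoc, ← mul_assoc, xf]; refine .trans ?_ f8; group) (.cons (by
    change y * (f * (y⁻¹ * (f * 1))) = 1
    rw [← mul_assoc, ← mul_assoc, yf]; group) (.cons (by
    change x * (y * (x⁻¹ * (y⁻¹ * 1))) = 1
    rw [← mul_assoc, ← mul_assoc, xy]; group) fun _ h => by simp at h)))))))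

theorem satY {f x y : G} (ws : List G) (f8 : f ^ 8 = 1) (yy : y * y = 1 ∨ y * y = f ^ 4) :
    Sat (pr (f :: x :: y :: ws)) [[5, 5]] ∨ Sat (pr (f :: x :: y :: ws)) [[5, 5, 1, 1, 1, 1]] :=
  yy.imp (fun e => .cons (by
    change y * (y * 1) = 1
    rw [mul_one, e]) fun _ h => by simp at h) fun e => .cons (by
    change y * (y * (f * (f * (f * (f * 1))))) = 1
    rw [← mul_assoc, e]; refine .trans ?_ f8; group) fun _ h => by simp at h

theorem exists_r64 {P : Subgroup G} (hP : Nat.card P = 64) {f : G} (hfP : f ∈ P)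
    (hf : orderOf f = 8) (hC : ∀ x ∈ P, x * f = f * x → x ∈ zpowers f) {x y : G} (hx : x ∈ P)
    (hy : y ∈ P) (xf : x * f * x⁻¹ = f ^ 5) (yf : y * f * y⁻¹ = f ^ 7) :
    ∃ x ∈ P, ∃ y ∈ P, ∃ w ∈ P, R64 f x y w := by
  obtain ⟨x, hx, y, hy, xx, xf, yf, xy, yy⟩ := exists_xy hfP hf hC hx hy xf yf
  have f8 : f ^ 8 = 1 := hf ▸ pow_orderOf_eq_one f
  have f4 : f ^ 4 ≠ 1 := pow_ne_one_of_lt_orderOf (by norm_num) (by rw [hf]; norm_num)
  have yf' : y * f * y⁻¹ = f⁻¹ := by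
    rw [yf, eq_inv_iff_mul_eq_one, ← pow_succ, f8]
  have key : ∀ {T : Tab} [Fact T.OK] {c a b : El T} {ν : El T →* G}, Nat.card (El T) = 32 →
      gen (pr [c, a, b]) 6 = ⊤ → [c, a, b].map ν = [f, x, y] →
      (∀ u : El T, u ≠ 1 → u = c ^ 4 ∨ ∃ k, k * u * k⁻¹ * u⁻¹ = c ^ 4 ∨
        ∃ d, d * (k * u * k⁻¹ * u⁻¹) * d⁻¹ * (k * u * k⁻¹ * u⁻¹)⁻¹ = c ^ 4) →
      (Function.Injective ν → Idx2 ν.range P → (∀ p ∈ P, Commute p (ν c) → p ∈ ν.range) →
        ∃ w ∈ P, Cj ν w c (c * a) ∧ Cj ν w a a ∧ (Cj ν w b (a * b) ∨ Cj ν w b (c * c * a * b)) ∧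
          (w * w = 1 ∨ w * w = ν c ^ 4)) → ∃ w ∈ P, R64 f x y w := by
    intro T _ c a b ν h32 htop hl h1 h2
    simp only [List.map_cons, List.map_nil, List.cons.injEq, and_true] at hl
    obtain ⟨rfl, rfl, rfl⟩ := hl
    have hi : Function.Injective ν := inj_of_z (by rwa [map_pow]) h1
    obtain ⟨w, hw, a1, a2, a3, a4⟩ := h2 hi (Idx2.of_card (range_le_of_list htop (by simp [*])) (by
      rw [← Nat.card_congr (MonoidHom.ofInjective hi).toEquiv, h32, hP])) fun p hp e =>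
        (zpowers_le.2 ⟨c, rfl⟩ : zpowers (ν c) ≤ ν.range) (hC p hp e)
    simp only [Cj, map_mul] at a1 a2 a3
    exact ⟨w, hw, f8, xx, xf, yf', xy, yy, a1, a2, a3, a4⟩
  refine ⟨x, hx, y, hy, (satY (x := x) [] f8 yy).elim (fun e => ?_) fun e => ?_⟩
  · open NA in
    exact (exists_hom rfl (((satN [] f8 xx xf yf' xy).append e).mono (by decide +kernel))).elim
      fun _ h => key card top h (by hd)
        fun hi => exists_w (W := Wall) (by hd) sat (by hd) (by hd) (by hd) hi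
  · open NB in
    exact (exists_hom rfl (((satN [] f8 xx xf yf' xy).append e).mono (by decide +kernel))).elim
      fun _ h => key card top h (by hd)
        fun hi => exists_w (W := Wall) (by hd) sat (by hd) (by hd) (by hd) hi

end

namespace S

/-- A table of words. -/
def W64 : ℕ := nat_lit 0x8c000030b0000007000008c900002144000006100000130000001900002168000224900000c2400042d100000028000084900000228000084b0000003000000110000018800007090000112400002e10000008800002890000612400042490000002c000026100000324000010a00000464000004b00001c2800000cb00000010000064900001a2400008ca00000144000005a0000002400000210000c924000004900000068000070b0000017000000030000042c000000100000424000068a0000034400002d10000018c00000020000032800002490000194400000e100000224000008b000011440000000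

theorem top64 : gen (pr [c * t, a * b, b * t, a * c * d]) 8 = ⊤ :=
  gen_eq_top (W := W64) (by hd) le_rfl

theorem fr {G : Type*} [Group G] [Finite G] {P : Subgroup G} (hP : Syl P ⊤) (h64 : Nat.card P = 64)
    {l : List G} (hl : 4 = l.length) (hm : ∀ g ∈ l, g ∈ P) (h1 : nthD 1 l 0 ^ 4 ≠ 1)
    (hs : Sat (pr l) C64.P000.R) : ∃ ι : M →* G, Fr ι :=
  let ⟨_, h⟩ := exists_hom_list (l := [c * t, a * b, b * t, a * c * d]) top64 (by hd) card.ge
    (fun _ hg => (C64.P000.idxLe hg (H := ⊥) (by simp [C64.P000.S])).card_le bot_le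
      H44.finite_card_bot) hl hs
  ⟨_, fr_of_list (z := z) top64 h hP (card.trans h64.symm) hm h1 (by hd) (by hd)⟩

end S

namespace P001

theorem cls : ∀ u : M, u * u = 1 → u = 1 ∨ u = z ∨ Msk mY u ∨ ∃ k,
    k * u * k⁻¹ = (x) ∨ k * u * k⁻¹ = (c * y) ∨ k * u * k⁻¹ = (c * w * y) := by hd

theorem fr {G : Type*} [Group G] [Finite G] {P : Subgroup G} (hP : Syl P ⊤) (h64 : Nat.card P = 64)
    {l : List G} (hl : 4 = l.length) (hm : ∀ g ∈ l, g ∈ P) (h1 : nthD 1 l 0 ^ 4 ≠ 1)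
    (hs : Sat (pr l) C64.P001.R) : ∃ ι : M →* G, Fr ι :=
  let ⟨_, h⟩ := exists_hom hl hs
  ⟨_, fr_of_list (z := z) top h hP (card.trans h64.symm) hm h1 (by hd) (by hd)⟩

theorem no {G : Type*} [Group G] [Finite G] {ι : M →* G} (h : Fr ι) (u : M) (hu : InD ι z u) :
    u = z := by
  have zc : ∀ u, Commute u z := by hd
  refine h.isolated (x := x) (Y := Msk mY) zc (by hd) (by hd) (fun u hu => ?_) u hu
  rcases cls u (hu.elim fun _ e => (e.mul e).symm.eq_one h.inj (by hd)) with e | e | e | ⟨k, e | e | e⟩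
  · exact absurd e (hu.elim fun _ e => e.symm.ne_one h.inj (by hd))
  · exact Or.inl e
  · exact Or.inr e
  · exact absurd (hu.conj k e) (h.not_inD zc (r := (w)) (s := (c * c)) (by hd) (by hd)
      (ps := [(1179, 0)]) (qs := [(1235, 0), (1235, 1), (27, 0)]) (by hd) (by hd))
  · exact absurd (hu.conj k e) (h.not_inD zc (r := (w)) (s := (c * c * x)) (by hd) (by hd)
      (ps := [(1179, 0)]) (qs := [(1235, 0), (1235, 1), (27, 0)]) (by hd) (by hd))
  · exact absurd (hu.conj k e) (h.not_inD zc (r := (w)) (s := (c * c)) (by hd) (by hd)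
      (ps := [(1179, 0)]) (qs := [(1235, 0), (1235, 1), (27, 0)]) (by hd) (by hd))

end P001

namespace P010

theorem cls : ∀ u : M, u * u = 1 → u = 1 ∨ u = z ∨ Msk mY u ∨ ∃ k,
    k * u * k⁻¹ = (x) ∨ k * u * k⁻¹ = (c * y) := by hd

theorem fr {G : Type*} [Group G] [Finite G] {P : Subgroup G} (hP : Syl P ⊤) (h64 : Nat.card P = 64)
    {l : List G} (hl : 4 = l.length) (hm : ∀ g ∈ l, g ∈ P) (h1 : nthD 1 l 0 ^ 4 ≠ 1)
    (hs : Sat (pr l) C64.P010.R) : ∃ ι : M →* G, Fr ι :=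
  let ⟨_, h⟩ := exists_hom hl hs
  ⟨_, fr_of_list (z := z) top h hP (card.trans h64.symm) hm h1 (by hd) (by hd)⟩

theorem no {G : Type*} [Group G] [Finite G] {ι : M →* G} (h : Fr ι) (u : M) (hu : InD ι z u) :
    u = z := by
  have zc : ∀ u, Commute u z := by hd
  refine h.isolated (x := x) (Y := Msk mY) zc (by hd) (by hd) (fun u hu => ?_) u hu
  rcases cls u (hu.elim fun _ e => (e.mul e).symm.eq_one h.inj (by hd)) with e | e | e | ⟨k, e | e⟩
  · exact absurd e (hu.elim fun _ e => e.symm.ne_one h.inj (by hd))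
  · exact Or.inl e
  · exact Or.inr e
  · exact absurd (hu.conj k e) (h.not_inD zc (r := 1) (s := (y * w)) (by hd) (by hd)
      (ps := [(2, 0)]) (qs := [(1755, 0), (1755, 1)]) (by hd) (by hd))
  · exact absurd (hu.conj k e) (h.not_inD zc (r := 1) (s := (w * c)) (by hd) (by hd)
      (ps := [(2, 0)]) (qs := [(1755, 0), (1755, 1)]) (by hd) (by hd))

end P010

namespace P011

theorem cls : ∀ u : M, u * u = 1 → u = 1 ∨ u = z ∨ Msk mY u ∨ ∃ k,
    k * u * k⁻¹ = (x) ∨ k * u * k⁻¹ = (c * y) := by hd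

theorem fr {G : Type*} [Group G] [Finite G] {P : Subgroup G} (hP : Syl P ⊤) (h64 : Nat.card P = 64)
    {l : List G} (hl : 4 = l.length) (hm : ∀ g ∈ l, g ∈ P) (h1 : nthD 1 l 0 ^ 4 ≠ 1)
    (hs : Sat (pr l) C64.P011.R) : ∃ ι : M →* G, Fr ι :=
  let ⟨_, h⟩ := exists_hom hl hs
  ⟨_, fr_of_list (z := z) top h hP (card.trans h64.symm) hm h1 (by hd) (by hd)⟩

theorem no {G : Type*} [Group G] [Finite G] {ι : M →* G} (h : Fr ι) (u : M) (hu : InD ι z u) :
    u = z := by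
  have zc : ∀ u, Commute u z := by hd
  refine h.isolated (x := x) (Y := Msk mY) zc (by hd) (by hd) (fun u hu => ?_) u hu
  rcases cls u (hu.elim fun _ e => (e.mul e).symm.eq_one h.inj (by hd)) with e | e | e | ⟨k, e | e⟩
  · exact absurd e (hu.elim fun _ e => e.symm.ne_one h.inj (by hd))
  · exact Or.inl e
  · exact Or.inr e
  · exact absurd (hu.conj k e) (h.not_inD zc (r := 1) (s := (y * w)) (by hd) (by hd)
      (ps := [(2, 0)]) (qs := [(1755, 0), (1755, 1)]) (by hd) (by hd))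
  · exact absurd (hu.conj k e) (h.not_inD zc (r := 1) (s := (w * c)) (by hd) (by hd)
      (ps := [(2, 0)]) (qs := [(1755, 0), (1755, 1)]) (by hd) (by hd))

end P011

namespace P100

theorem cls : ∀ u : M, u * u = 1 → u = 1 ∨ u = z ∨ Msk mY u ∨ ∃ k,
    k * u * k⁻¹ = (x) ∨ k * u * k⁻¹ = (w) ∨ k * u * k⁻¹ = (c * c * w) ∨ k * u * k⁻¹ = (c * x * y) ∨ k * u * k⁻¹ = (c * w * y) := by hd

theorem fr {G : Type*} [Group G] [Finite G] {P : Subgroup G} (hP : Syl P ⊤) (h64 : Nat.card P = 64)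
    {l : List G} (hl : 4 = l.length) (hm : ∀ g ∈ l, g ∈ P) (h1 : nthD 1 l 0 ^ 4 ≠ 1)
    (hs : Sat (pr l) C64.P100.R) : ∃ ι : M →* G, Fr ι :=
  let ⟨_, h⟩ := exists_hom hl hs
  ⟨_, fr_of_list (z := z) top h hP (card.trans h64.symm) hm h1 (by hd) (by hd)⟩

theorem no {G : Type*} [Group G] [Finite G] {ι : M →* G} (h : Fr ι) (u : M) (hu : InD ι z u) :
    u = z := by
  have zc : ∀ u, Commute u z := by hd
  refine h.isolated (x := x) (Y := Msk mY) zc (by hd) (by hd) (fun u hu => ?_) u hu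
  rcases cls u (hu.elim fun _ e => (e.mul e).symm.eq_one h.inj (by hd)) with e | e | e | ⟨k, e | e | e | e | e⟩
  · exact absurd e (hu.elim fun _ e => e.symm.ne_one h.inj (by hd))
  · exact Or.inl e
  · exact Or.inr e
  · exact absurd (hu.conj k e) (h.not_inD zc (r := (y)) (s := (c * c)) (by hd) (by hd)
      (ps := [(1179, 0)]) (qs := [(1235, 0), (1235, 1), (27, 1)]) (by hd) (by hd))
  · exact absurd (hu.conj k e) (h.not_inD zc (r := (x)) (s := (c * y)) (by hd) (by hd)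
      (ps := [(18, 0), (1235, 0)]) (qs := [(27, 0), (27, 1)]) (by hd) (by hd))
  · exact absurd (hu.conj k e) (h.not_inD zc (r := (x)) (s := (c⁻¹ * y)) (by hd) (by hd)
      (ps := [(18, 0), (1235, 0)]) (qs := [(27, 0), (27, 1)]) (by hd) (by hd))
  · exact absurd (hu.conj k e) (h.not_inD zc (r := (w)) (s := (c⁻¹ * y)) (by hd) (by hd)
      (ps := [(18, 0), (1235, 0)]) (qs := [(27, 0), (27, 1)]) (by hd) (by hd))
  · exact absurd (hu.conj k e) (h.not_inD zc (r := (w)) (s := (c * c)) (by hd) (by hd)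
      (ps := [(18, 0), (1235, 0)]) (qs := [(27, 0), (27, 1)]) (by hd) (by hd))

end P100

namespace P101

theorem cls : ∀ u : M, u * u = 1 → u = 1 ∨ u = z ∨ Msk mY u ∨ ∃ k,
    k * u * k⁻¹ = (x) ∨ k * u * k⁻¹ = (c * x * y) ∨ k * u * k⁻¹ = (c * y * w) := by hd

theorem fr {G : Type*} [Group G] [Finite G] {P : Subgroup G} (hP : Syl P ⊤) (h64 : Nat.card P = 64)
    {l : List G} (hl : 4 = l.length) (hm : ∀ g ∈ l, g ∈ P) (h1 : nthD 1 l 0 ^ 4 ≠ 1)
    (hs : Sat (pr l) C64.P101.R) : ∃ ι : M →* G, Fr ι :=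
  let ⟨_, h⟩ := exists_hom hl hs
  ⟨_, fr_of_list (z := z) top h hP (card.trans h64.symm) hm h1 (by hd) (by hd)⟩

theorem no {G : Type*} [Group G] [Finite G] {ι : M →* G} (h : Fr ι) (u : M) (hu : InD ι z u) :
    u = z := by
  have zc : ∀ u, Commute u z := by hd
  refine h.isolated (x := x) (Y := Msk mY) zc (by hd) (by hd) (fun u hu => ?_) u hu
  rcases cls u (hu.elim fun _ e => (e.mul e).symm.eq_one h.inj (by hd)) with e | e | e | ⟨k, e | e | e⟩
  · exact absurd e (hu.elim fun _ e => e.symm.ne_one h.inj (by hd))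
  · exact Or.inl e
  · exact Or.inr e
  · exact absurd (hu.conj k e) (h.not_inD zc (r := (y)) (s := (c * c)) (by hd) (by hd)
      (ps := [(1179, 0)]) (qs := [(1235, 0), (1235, 1), (27, 1)]) (by hd) (by hd))
  · exact absurd (hu.conj k e) (h.not_inD zc (r := (w)) (s := (c⁻¹ * y)) (by hd) (by hd)
      (ps := [(1179, 0)]) (qs := [(1235, 0), (1235, 1), (27, 1)]) (by hd) (by hd))
  · exact absurd (hu.conj k e) (h.not_inD zc (r := (w)) (s := (c * c)) (by hd) (by hd)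
      (ps := [(1179, 0)]) (qs := [(1235, 0), (1235, 1), (27, 1)]) (by hd) (by hd))

end P101

namespace P110

theorem cls : ∀ u : M, u * u = 1 → u = 1 ∨ u = z ∨ Msk mY u ∨ ∃ k,
    k * u * k⁻¹ = (x) ∨ k * u * k⁻¹ = (c * x * y) := by hd

theorem fr {G : Type*} [Group G] [Finite G] {P : Subgroup G} (hP : Syl P ⊤) (h64 : Nat.card P = 64)
    {l : List G} (hl : 4 = l.length) (hm : ∀ g ∈ l, g ∈ P) (h1 : nthD 1 l 0 ^ 4 ≠ 1)
    (hs : Sat (pr l) C64.P110.R) : ∃ ι : M →* G, Fr ι :=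
  let ⟨_, h⟩ := exists_hom hl hs
  ⟨_, fr_of_list (z := z) top h hP (card.trans h64.symm) hm h1 (by hd) (by hd)⟩

theorem no {G : Type*} [Group G] [Finite G] {ι : M →* G} (h : Fr ι) (u : M) (hu : InD ι z u) :
    u = z := by
  have zc : ∀ u, Commute u z := by hd
  refine h.isolated (x := x) (Y := Msk mY) zc (by hd) (by hd) (fun u hu => ?_) u hu
  rcases cls u (hu.elim fun _ e => (e.mul e).symm.eq_one h.inj (by hd)) with e | e | e | ⟨k, e | e⟩
  · exact absurd e (hu.elim fun _ e => e.symm.ne_one h.inj (by hd))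
  · exact Or.inl e
  · exact Or.inr e
  · exact absurd (hu.conj k e) (h.not_inD zc (r := 1) (s := (y * w)) (by hd) (by hd)
      (ps := [(2, 0)]) (qs := [(1755, 0), (1755, 1)]) (by hd) (by hd))
  · exact absurd (hu.conj k e) (h.not_inD zc (r := 1) (s := (c * w)) (by hd) (by hd)
      (ps := [(2, 0)]) (qs := [(1755, 0), (1755, 1)]) (by hd) (by hd))

end P110

namespace P111

theorem cls : ∀ u : M, u * u = 1 → u = 1 ∨ u = z ∨ Msk mY u ∨ ∃ k,
    k * u * k⁻¹ = (x) ∨ k * u * k⁻¹ = (c * x * y) := by hd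

theorem fr {G : Type*} [Group G] [Finite G] {P : Subgroup G} (hP : Syl P ⊤) (h64 : Nat.card P = 64)
    {l : List G} (hl : 4 = l.length) (hm : ∀ g ∈ l, g ∈ P) (h1 : nthD 1 l 0 ^ 4 ≠ 1)
    (hs : Sat (pr l) C64.P111.R) : ∃ ι : M →* G, Fr ι :=
  let ⟨_, h⟩ := exists_hom hl hs
  ⟨_, fr_of_list (z := z) top h hP (card.trans h64.symm) hm h1 (by hd) (by hd)⟩

theorem no {G : Type*} [Group G] [Finite G] {ι : M →* G} (h : Fr ι) (u : M) (hu : InD ι z u) :
    u = z := by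
  have zc : ∀ u, Commute u z := by hd
  refine h.isolated (x := x) (Y := Msk mY) zc (by hd) (by hd) (fun u hu => ?_) u hu
  rcases cls u (hu.elim fun _ e => (e.mul e).symm.eq_one h.inj (by hd)) with e | e | e | ⟨k, e | e⟩
  · exact absurd e (hu.elim fun _ e => e.symm.ne_one h.inj (by hd))
  · exact Or.inl e
  · exact Or.inr e
  · exact absurd (hu.conj k e) (h.not_inD zc (r := 1) (s := (y * w)) (by hd) (by hd)
      (ps := [(2, 0)]) (qs := [(1755, 0), (1755, 1)]) (by hd) (by hd))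
  · exact absurd (hu.conj k e) (h.not_inD zc (r := 1) (s := (c * w)) (by hd) (by hd)
      (ps := [(2, 0)]) (qs := [(1755, 0), (1755, 1)]) (by hd) (by hd))

end P111

theorem R64.main {G : Type*} [Group G] [Finite G] [IsSimpleGroup G] {p q : G} (hp : orderOf p = 2)
    (hq : orderOf q = 2) (hpq : ¬ IsConj p q) {P : Subgroup G} (hP : Syl P ⊤)
    (h64 : Nat.card P = 64) {f x y w : G} (hm : ∀ g ∈ [f, x, y, w], g ∈ P) (f4 : f ^ 4 ≠ 1)
    (h : R64 f x y w) : Spor.IsoM12 G := by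
  have s0 := (satN [w] h.f8 h.xx h.xf h.yf h.xy).append (R' := [[7, 8], [7, 1, 8, 4, 2], [7, 3, 8, 4]])
    (.cons (ev_pair _ 3) (.cons (by
      change w * (f * (w⁻¹ * (x⁻¹ * (f⁻¹ * 1)))) = 1
      rw [← mul_assoc, ← mul_assoc, h.wf]; group) (.cons (by
      change w * (x * (w⁻¹ * (x⁻¹ * 1))) = 1
      rw [← mul_assoc, ← mul_assoc, h.wx]; group) fun _ h => by simp at h)))
  have s2 : Sat (pr [f, x, y, w]) [[7, 5, 8, 6, 4]] ∨ Sat (pr [f, x, y, w]) [[7, 5, 8, 6, 4, 2, 2]] :=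
    h.wy.imp (fun e => .cons (by
      change w * (y * (w⁻¹ * (y⁻¹ * (x⁻¹ * 1)))) = 1
      rw [← mul_assoc, ← mul_assoc, e]; group) fun _ h => by simp at h) fun e => .cons (by
      change w * (y * (w⁻¹ * (y⁻¹ * (x⁻¹ * (f⁻¹ * (f⁻¹ * 1)))))) = 1
      rw [← mul_assoc, ← mul_assoc, e]; group) fun _ h => by simp at h
  have s3 : Sat (pr [f, x, y, w]) [[7, 7]] ∨ Sat (pr [f, x, y, w]) [[7, 7, 1, 1, 1, 1]] :=
    h.ww.imp (fun e => .cons (by
      change w * (w * 1) = 1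
      rw [mul_one, e]) fun _ h => by simp at h) fun e => .cons (by
      change w * (w * (f * (f * (f * (f * 1))))) = 1
      rw [← mul_assoc, e]; refine .trans ?_ h.f8; group) fun _ h => by simp at h
  have key : ∀ {M : Type} [Group M] {z : M}, z * z = 1 → z ≠ 1 → (∃ ι : M →* G, Fr ι) →
      (∀ {ι : M →* G}, Fr ι → ∀ u, InD ι z u → u = z) → Spor.IsoM12 G :=
    fun h1 h2 ⟨_, h3⟩ h4 => let ⟨u, a1, a2⟩ := h3.exists_inD hp hq hpq h1 h2; absurd (h4 h3 u a2) a1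
  rcases satY (x := x) [w] h.f8 h.yy with s1 | s1 <;> rcases s2 with s2 | s2 <;>
    rcases s3 with s3 | s3 <;> have s := ((s0.append s1).append s2).append s3
  · exact (S.fr hP h64 rfl hm f4 (s.mono (by decide +kernel))).elim fun _ => S.main hp hq hpq
  · open P001 in exact key (by hd) (by hd) (fr hP h64 rfl hm f4 (s.mono (by decide +kernel))) no
  · open P010 in exact key (by hd) (by hd) (fr hP h64 rfl hm f4 (s.mono (by decide +kernel))) no
  · open P011 in exact key (by hd) (by hd) (fr hP h64 rfl hm f4 (s.mono (by decide +kernel))) no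
  · open P100 in exact key (by hd) (by hd) (fr hP h64 rfl hm f4 (s.mono (by decide +kernel))) no
  · open P101 in exact key (by hd) (by hd) (fr hP h64 rfl hm f4 (s.mono (by decide +kernel))) no
  · open P110 in exact key (by hd) (by hd) (fr hP h64 rfl hm f4 (s.mono (by decide +kernel))) no
  · open P111 in exact key (by hd) (by hd) (fr hP h64 rfl hm f4 (s.mono (by decide +kernel))) no

end Cfsg.Agent.H89
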