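import Cfsg.Agent.H17.KnDef2
import Cfsg.Agent.H10.BB2
import Cfsg.Agent.H63.BG1

/-!
# The signalizer group is trivial or of order three
-/

set_option autoImplicit false

namespace Cfsg.Agent.H89.KnW3

open Equiv Subgroup Cfsg.Agent.H63 Cfsg.Agent.H8.GD Cfsg.Agent.H17.Kn Cfsg.Agent.H67
open Cfsg.Agent.H11.A16 hiding z2
open scoped commutatorElement

universe u

section Abs

variable {G : Type u} [Group G] [Finite G]

omit [Finite G] in
theorem odd_of {Y : Subgroup G} (h : IsOdd Y) : Odd (Nat.card Y) := by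
  rwa [IsOdd, isPi_compl_singleton_iff Nat.prime_two, ← even_iff_two_dvd,
    Nat.not_even_iff_odd] at h

theorem core {W W0 D O : Subgroup G} (hW : IsOdd W) (hD : IsPGroup 2 D) (h0 : W0 ≤ W)
    (hD0 : D ≤ N[W0]) (hO : O ≤ W0) (hOC : O ≤ C[D]) (hN : N[D] ≤ N[O])
    (h3 : O.relIndex (W ⊓ C[D]) ∣ 3) (dec : ∀ a ∈ W, ∃ b ∈ W0, ∃ c ∈ W ⊓ C[D], a = b * c)
    (hne : ¬ W ≤ W0) : N[W] ⊓ N[D] ≤ N[W0] ∧ W ≤ N[W0] ∧ (W0 = ⊥ → Nat.card W = 3) := by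
  have h1 : ¬ W ⊓ C[D] ≤ W0 := fun h => hne fun a ha => by
    obtain ⟨b, hb, c, hc, rfl⟩ := dec a ha
    exact mul_mem hb (h hc)
  have h2 : O ≤ W0 ⊓ C[D] := le_inf hO hOC
  have h4 : W0 ⊓ C[D] ≤ W ⊓ C[D] := inf_le_inf_right _ h0
  have h5 := relIndex_mul_relIndex O (W0 ⊓ C[D]) (W ⊓ C[D]) h2 h4
  have h6 : (W0 ⊓ C[D]).relIndex (W ⊓ C[D]) ≠ 1 := fun h =>
    h1 ((relIndex_eq_one.1 h).trans inf_le_left)
  have h7 : (W0 ⊓ C[D]).relIndex (W ⊓ C[D]) = 3 :=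
    ((Nat.dvd_prime Nat.prime_three).1 ((Dvd.intro_left _ h5).trans h3)).resolve_left h6
  have h8 : W0 ⊓ C[D] ≤ O := by
    rw [← h5, h7] at h3
    exact relIndex_eq_one.1 (Nat.dvd_one.1 (Nat.dvd_of_mul_dvd_mul_right (k := 3) (by norm_num)
      (by rwa [one_mul])))
  have h9 : ⁅W, D⁆ ≤ W0 := commutator_le.2 fun a ha d hd => by
    obtain ⟨b, hb, c, hc, rfl⟩ := dec a ha
    have e : d * c = c * d := hc.2 d hd
    have : ⁅b * c, d⁆ = b * (d * b⁻¹ * d⁻¹) := by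
      rw [commutatorElement_def, mul_assoc b c d, ← e]; group
    rw [this]
    exact mul_mem hb ((mem_normalizer_iff.1 (hD0 hd) _).1 (inv_mem hb))
  have e : W0 = ⁅W, D⁆ ⊔ O := le_antisymm
    ((coprime_cent_prod hD0 (H10.Bender.coprime_of_two_of_odd hD (odd_of (isPi_of_le hW h0)))
      (.inl (isSolvable_of_isPGroup Nat.prime_two hD))).le_of_le
      ((commutator_mono h0 le_rfl).trans le_sup_left) (h8.trans le_sup_right)) (sup_le h9 hO)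
  have k : N[W] ⊓ N[D] ≤ N[W0] := by
    rw [e]
    exact le_normalizer_sup (le_normalizer_commutator inf_le_left inf_le_right)
      (inf_le_right.trans hN)
  refine ⟨k, fun a ha => ?_, fun hb => ?_⟩
  · obtain ⟨b, hb, c, hc, rfl⟩ := dec a ha
    exact mul_mem (le_normalizer hb)
      (k ⟨le_normalizer hc.1, le_normalizer_of_le_centralizer le_rfl hc.2⟩)
  · have e2 : W ⊓ C[D] = W := inf_eq_left.2 fun a ha => by
      obtain ⟨b, hb', c, hc, rfl⟩ := dec a ha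
      rw [hb, mem_bot] at hb'
      rw [hb', one_mul]
      exact hc.2
    rwa [hb, bot_inf_eq, e2, relIndex_bot_left] at h7

omit [Finite G] in
theorem norm_ne_top (hs : IsSimpleGroup G) {Y : Subgroup G} (hY : IsOdd Y) (h0 : Y ≠ ⊥) {z : G}
    (hz : orderOf z = 2) : N[Y] ≠ ⊤ := fun h => by
  rcases (normalizer_eq_top_iff.1 h).eq_bot_or_eq_top with e | e
  · exact h0 e
  · have := (odd_of hY).of_dvd_nat (Y.orderOf_dvd_natCard (e ▸ mem_top z))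
    rw [hz] at this
    exact absurd this (by decide)

end Abs

/-- the product of the three central involutions -/
def uu : N2 := wb 0 0 * wb 1 0 * wb 2 0

theorem fin1 : uu ∈ DP ∧ z2 = uu * (dl 6 * dl 7) ∧ ty z2 = 8 ∧ z2 ∈ FF ∧ f0 ∈ FF ∧ z2 ≠ 1 ∧
    dl 6 ∈ S2 ∧ dl 7 ∈ S2 ∧ dl 7 * dl 7 = 1 ∧ wb 3 0 ≠ wb 3 1 ∧
    (∀ i, (th i)⁻¹ (6, 0) = (6, 0) ∧ th i (6, 0) = (6, 0)) ∧
    ∀ v ∈ [wb 3 0, wb 3 1, wb 3 0 * wb 3 1], v ∈ FF ∧ v ≠ 1 ∧ ty (uu * v) = 8 := by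
  decide +kernel

theorem fix7 {m : N2} (h : m.σ 7 = 7) : m * dl 7 * m⁻¹ = dl 7 := by
  refine N2.ext (by simp [dl]) (funext fun p => ?_)
  simp only [N2.mul_f, N2.inv_f, N2.inv_σ, dl, Perm.coe_one, id]
  rw [add_comm, add_assoc, z2add, add_zero]
  simp only [Perm.inv_eq_iff_eq, h]

theorem w3 (hB : Base.{u}) (h7 : G7Stmt.{u}) (ho : HoStmt.{u}) : W3Stmt.{u} := by
  intro G _ _ J φ s ρ n W hF hb hw hx
  obtain ⟨f1, f2, f3, f4, f5, f6, f7, f8, f9, f10, f11, f12⟩ := fin1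
  have em := hF.em2
  have FS : FF ≤ S2 := hB.m2.le.2.2.2.2.2.2.2.2.2.2.2.2.1.trans inf_le_left
  have FJ : ∀ i, FF ≤ JI i := hB.m2.le.2.2.2.2.2.2.2.2.2.2.2.2.2.2.2.2.2.2.2.2.2.2.2.2
  have DF : DP ≤ FF := inf_le_left
  have ab := hB.m2.ab.2.1
  have sq := hB.m2.ab.2.2.2.2.1
  have zS := FS f4
  have ord : ∀ v ∈ FF, v ≠ 1 → orderOf (J v) = 2 := fun v hv h1 =>
    orderOf_eq_prime (by rw [pow_two, ← em.mul _ (FS hv) _ (FS hv), sq v hv, em.one])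
      fun h => h1 (em.inj _ (FS hv) _ (one_mem _) (h.trans em.one.symm))
  have com : ∀ u ∈ FF, ∀ v ∈ FF, J u * J v = J v * J u := fun u hu v hv => by
    rw [← em.mul _ (FS hu) _ (FS hv), ← em.mul _ (FS hv) _ (FS hu), (ab u hu v hv).eq]
  have FC : ∀ v ∈ FF, J v ∈ C[im J DP] := fun v hv a ha => mem_centralizer_singleton_iff.1
    (im_le (K := C1[J v]) (fun u hu => mem_centralizer_singleton_iff.2 (com u (DF hu) v hv)) ha)
  have D2 : IsPGroup 2 (im J DP) := (em.mono (DF.trans FS)).two (hB.m1.two.to_le (DF.trans FS))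
  have NO : N[im J DP] ≤ N[Oc C[im J DP]] :=
    (le_normalizer_centralizer le_rfl).trans (normalizer_le_normalizer_piCoreOf _ _)
  have CN : C[im J DP] ≤ N[im J DP] := le_normalizer_of_le_centralizer le_rfl
  have OC : Oc C[im J DP] ≤ C[im J DP] := piCoreOf_le _ _
  have OW : Oc C[im J DP] ≤ W := by
    have k : ∀ v ∈ [wb 3 0, wb 3 1, wb 3 0 * wb 3 1], Oc C[im J DP] ⊓ C1[J v] ≤ W := by
      intro v hv a ha
      obtain ⟨v1, v2, v3⟩ := f12 v hv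
      have yF := mul_mem (DF f1) v1
      obtain ⟨g, hg⟩ := (hF.cl _ zS _ (FS yF) (sq _ f4) (sq _ yF)).2 (by rw [f3, v3])
      have b := hb.bal g (im J DP) D2
      rw [show g * J z2 * g⁻¹ = _ from hg] at b
      refine hw.full _ yF v3 (b (im_le fun u hu =>
        mem_centralizer_singleton_iff.2 (com u (DF hu) _ yF)) ⟨ha.1, ?_⟩)
      refine mem_centralizer_singleton_iff.2 ?_
      rw [em.mul _ (FS (DF f1)) _ (FS v1), ← mul_assoc, ← OC ha.1 _ (mem_im f1), mul_assoc,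
        mem_centralizer_singleton_iff.1 ha.2, mul_assoc]
    obtain ⟨a1, a2, -⟩ := f12 (wb 3 0) (by simp)
    obtain ⟨b1, b2, -⟩ := f12 (wb 3 1) (by simp)
    refine (H10.Bender.le_sup_cent_four (odd_of (isPi_piCoreOf _ _)) (ord _ a1 a2) (ord _ b1 b2)
      (fun h => f10 (em.inj _ (FS a1) _ (FS b1) h)) (com _ a1 _ b1) (NO (CN (FC _ a1)))
      (NO (CN (FC _ b1)))).trans (sup_le (sup_le (k _ (by simp)) (k _ (by simp))) ?_)
    rw [← em.mul _ (FS a1) _ (FS b1)]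
    exact k _ (by simp)
  have O0 : Oc C[im J DP] ≤ W ⊓ cj n W :=
    le_inf OW (by rw [← cj_eq_self (NO (CN hF.nD))]; exact cj_mono OW)
  have tht : ∀ i, ∃ θ ∈ N[W] ⊓ N[im J DP], Ey J θ (th i) (JI i) (JI i) := fun i => by
    obtain ⟨θ, -, hθ⟩ := hF.tht i
    have k : ∀ u ∈ FF, ∃ v ∈ FF, R J θ u v ∧ (u ∈ DP → v ∈ DP) := fun u hu => by
      obtain ⟨v, hv, e⟩ := (hB.m2.thm i).1 u hu
      refine ⟨v, hv, hθ u (FJ i hu) v (FJ i hv) e, fun h => ⟨hv, ?_⟩⟩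
      have e2 : pm2 v (6, 0) = (6, 0) := by
        rw [← e, Perm.mul_apply, Perm.mul_apply, (f11 i).1, pm2_apply, h.2.1, h.2.2, add_zero,
          (f11 i).2]
      rw [pm2_apply, zero_add] at e2
      exact ⟨congrArg Prod.fst e2, congrArg Prod.snd e2⟩
    refine ⟨θ, ⟨hw.nF (mem_normalizer_of_cj_le ?_), mem_normalizer_of_cj_le ?_⟩, hθ⟩
    · refine cj_le_iff_le_cj_inv.2 (im_le fun u hu => ?_)
      obtain ⟨v, hv, e, -⟩ := k u hu
      rw [mem_cj, inv_inv, show θ * J u * θ⁻¹ = _ from e]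
      exact mem_im hv
    · refine cj_le_iff_le_cj_inv.2 (im_le fun u hu => ?_)
      obtain ⟨v, -, e, hv⟩ := k u (DF hu)
      rw [mem_cj, inv_inv, show θ * J u * θ⁻¹ = _ from e]
      exact mem_im (hv hu)
  have fin : ∀ Y : Subgroup G, Y ≤ W → Y ≠ ⊥ → C1[J z2] ≤ N[Y] → N[W] ⊓ N[im J DP] ≤ N[Y] →
      n ∈ N[Y] → ConA G 19 := fun Y h1 h2 h3 h4 h5 =>
    ho J φ s ρ n hF _ (norm_ne_top hF.simple (isPi_of_le hw.odd h1) h2 (ord _ f4 f6)) h3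
      (fun i => let ⟨θ, a, b⟩ := tht i; ⟨θ, h4 a, b⟩) h5
  by_cases h0 : W ≤ W ⊓ cj n W
  · by_cases h1 : W = ⊥
    · exact .inr (.inl h1)
    refine .inl (fin W le_rfl h1 hw.nC inf_le_left (inv_mem_iff.1 (mem_normalizer_of_cj_le ?_)))
    exact le_cj_iff_cj_inv_le.1 (h0.trans inf_le_right)
  have nn : ∀ g ∈ N[W], n⁻¹ * g * n ∈ N[W] → g ∈ N[W ⊓ cj n W] := fun g a b =>
    le_normalizer_inf (A := N[W] ⊓ N[cj n W]) inf_le_left inf_le_right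
      ⟨a, by rw [← cj_normalizer]; exact mem_cj.2 b⟩
  have SW : ∀ u ∈ S2, J u ∈ N[W] := fun u hu => hw.nC (hF.mo.le u hu)
  have DW : im J DP ≤ N[W] := im_le fun u hu => SW u (FS (DF hu))
  obtain ⟨c1, c2, c3⟩ := core hw.odd D2 inf_le_left
    (fun d hd => nn d (DW hd) (by
      rw [mul_assoc, hF.nD d hd, inv_mul_cancel_left]; exact DW hd))
    O0 OC NO (h7 J φ s ρ n W hF hw) hx.dec h0
  by_cases h1 : W ⊓ cj n W = ⊥
  · exact .inr (.inr ⟨c3 h1, h1⟩)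
  have uS := FS (DF f1)
  have nz : n * J z2 * n⁻¹ = J z2 * J (dl 7) := by
    have e1 : J z2 = J uu * J (dl 6 * dl 7) := by rw [f2, em.mul _ uS _ (mul_mem f7 f8)]
    have e2 := hF.np 6 (by decide)
    have e3 := hF.n7
    unfold R at e2 e3
    calc n * J z2 * n⁻¹ = n * J uu * n⁻¹ * (n * J (dl 6) * n⁻¹) * (n * J (dl 7) * n⁻¹) := by
          rw [e1, em.mul _ f7 _ f8]; group
      _ = _ := by rw [e2, e3, ← hF.nD _ (mem_im f1), mul_inv_cancel_right, e1]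
  have n2 : n * n ∈ C1[J z2] := mem_centralizer_singleton_iff.2 (by
    have e3 := hF.n7
    unfold R at e3
    have : n * (n * J z2 * n⁻¹) * n⁻¹ = J z2 := by
      rw [nz]
      calc _ = n * J z2 * n⁻¹ * (n * J (dl 7) * n⁻¹) := by group
        _ = _ := by rw [nz, e3, mul_assoc, ← em.mul _ f8 _ f8, f9, em.one, mul_one]
    conv_rhs => rw [← this]
    group)
  refine .inl (fin _ inf_le_left h1 ?_ c1 (cj_eq_self_iff.1 ?_))
  swap
  · rw [cj_inf, cj_cj, cj_eq_self (hw.nC n2), inf_comm]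
  let r : C1[J z2] →* N2 := MonoidHom.mk' (fun g => ρ g) fun a b => hF.mo.mul a a.2 b b.2
  have top : ((N[W ⊓ cj n W]).subgroupOf C1[J z2]).map r = ⊤ := by
    refine hB.m2.gN7 _ (fun m hm => ?_) ⟨⟨J f0, hF.mo.le _ (FS f5)⟩,
      c1 ⟨SW _ (FS f5), CN (FC _ f5)⟩, hF.mo.res _ (FS f5)⟩
    have k : ∀ u ∈ zpowers (dl 7), m * u * m⁻¹ = u := fun u hu => by
      obtain ⟨i, rfl⟩ := hu
      simp only [← conj_zpow, fix7 hm]
    obtain ⟨g, g1, g2, g3⟩ := hF.lift m (zpowers (dl 7)) (zpowers_le.2 f8)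
      fun u hu => (k u hu).symm ▸ zpowers_le.2 f8 hu
    refine ⟨⟨g, g1⟩, nn g (hw.nC g1) (hw.nC (mem_centralizer_singleton_iff.2 ?_)), g2⟩
    have e := g3 _ (mem_zpowers _)
    rw [fix7 hm, R, mul_inv_eq_iff_eq_mul] at e
    have e2 : g * (n * J z2 * n⁻¹) = n * J z2 * n⁻¹ * g := by
      rw [nz, ← mul_assoc, mem_centralizer_singleton_iff.1 g1, mul_assoc, e, mul_assoc]
    calc _ = n⁻¹ * (g * (n * J z2 * n⁻¹)) * n := by group
      _ = _ := by rw [e2]; group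
  intro g hg
  obtain ⟨a, a1, a2⟩ := top.ge (mem_top (r ⟨g, hg⟩))
  have a3 : r (a⁻¹ * ⟨g, hg⟩) = 1 := by rw [map_mul, map_inv, a2, inv_mul_cancel]
  have a4 := c2 (hw.full _ f4 f3 ((hF.kerO _ (mul_mem (inv_mem a.2) hg)).1 a3))
  exact (mul_mem_cancel_left (inv_mem (mem_subgroupOf.1 a1))).1 a4

end Cfsg.Agent.H89.KnW3
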