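import Cfsg.Agent.H38.FieldMaps

/-! Binary digit lemma for large subgroups of the multiplicative group of a field of order `2 ^ n`,
and its consequences for equivariant additive maps. -/

set_option autoImplicit false

namespace Cfsg.Agent.H89.Shaw

theorem two_pow_inj' {a b c e : ℕ} (hab : a ≤ b) (hce : c ≤ e)
    (h : 2 ^ a + 2 ^ b = 2 ^ c + 2 ^ e) : a = c ∧ b = e := by
  have h1 : ∀ {a b c e : ℕ}, a ≤ b → 2 ^ a + 2 ^ b = 2 ^ c + 2 ^ e → ¬ b < e := by
    intro a b c e hab h hlt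
    have e1 : 2 ^ a ≤ 2 ^ b := Nat.pow_le_pow_right two_pos hab
    have e2 : 2 ^ (b + 1) ≤ 2 ^ e := Nat.pow_le_pow_right two_pos hlt
    have e3 : 0 < 2 ^ c := Nat.two_pow_pos c
    rw [pow_succ] at e2
    omega
  have h2 : b = e := by
    have := h1 hab h
    have := h1 hce h.symm
    omega
  subst h2
  exact ⟨Nat.pow_right_injective le_rfl (Nat.add_right_cancel h), rfl⟩

theorem two_pow_inj {a b c e : ℕ} (h : 2 ^ a + 2 ^ b = 2 ^ c + 2 ^ e) :
    a + b = c + e ∧ (c = e → a = b) := by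
  rcases le_total a b with h1 | h1 <;> rcases le_total c e with h2 | h2
  · have := two_pow_inj' h1 h2 h; omega
  · have := two_pow_inj' h1 h2 (h.trans (add_comm _ _)); omega
  · have := two_pow_inj' h1 h2 ((add_comm _ _).trans h); omega
  · have := two_pow_inj' h1 h2 ((add_comm _ _).trans (h.trans (add_comm _ _))); omega

theorem card_bad (n w x : ℕ) :
    ((Finset.range n).filter fun t => n - w ≤ (x + t) % n).card ≤ w := by
  have : ((Finset.range n).filter fun t => n - w ≤ (x + t) % n).card ≤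
      (Finset.Ico (n - w) n).card := by
    refine Finset.card_le_card_of_injOn (fun t => (x + t) % n) (fun t ht => ?_) ?_
    · simp only [Finset.coe_filter, Finset.mem_range, Set.mem_ofPred_eq] at ht
      simp only [Finset.coe_Ico, Set.mem_Ico]
      exact ⟨ht.2, Nat.mod_lt _ (by omega)⟩
    · intro s hs t ht e
      simp only [Finset.coe_filter, Finset.mem_range, Set.mem_ofPred_eq] at hs ht
      exact Nat.ModEq.eq_of_lt_of_lt (Nat.ModEq.add_left_cancel' x e) hs.1 ht.1
  rw [Nat.card_Ico] at this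
  omega

theorem exists_shift {n w : ℕ} (h : 4 * w < n) (a b c e : ℕ) :
    ∃ t, (a + t) % n < n - w ∧ (b + t) % n < n - w ∧ (c + t) % n < n - w ∧
      (e + t) % n < n - w := by
  by_contra hne
  push Not at hne
  let B := fun x => (Finset.range n).filter fun t => n - w ≤ (x + t) % n
  have hsub : Finset.range n ⊆ B a ∪ B b ∪ B c ∪ B e := by
    intro t ht
    simp only [B, Finset.mem_union, Finset.mem_filter, ht, true_and]
    have := hne t
    omega
  have h1 := Finset.card_le_card hsub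
  have h2 := Finset.card_union_le (B a ∪ B b ∪ B c) (B e)
  have h3 := Finset.card_union_le (B a ∪ B b) (B c)
  have h4 := Finset.card_union_le (B a) (B b)
  have h5 : ∀ x, (B x).card ≤ w := card_bad n w
  have := h5 a
  have := h5 b
  have := h5 c
  have := h5 e
  rw [Finset.card_range] at h1
  omega

theorem two_pow_mod {n d m : ℕ} (hd : d * m = 2 ^ n - 1) (x : ℕ) :
    2 ^ (x % n) ≡ 2 ^ x [MOD d] := by
  have h1 : 1 ≡ 2 ^ n [MOD d] :=
    (Nat.modEq_iff_dvd' Nat.one_le_two_pow).2 ⟨m, hd.symm⟩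
  conv_rhs => rw [← Nat.mod_add_div x n, pow_add, pow_mul]
  simpa using (Nat.ModEq.refl (2 ^ (x % n))).mul (h1.pow (x / n))

theorem small_lt (w : ℕ) (hw : 5 ≤ w) : 4 * w + 4 < 2 ^ w := by
  induction w, hw using Nat.le_induction with
  | base => norm_num
  | succ w _ ih => rw [pow_succ]; omega

theorem small_cases {n d m : ℕ} (hn : 0 < n) (hd : d * m = 2 ^ n - 1) (hm : m ∣ n) :
    m < 2 ^ ((n - 1) / 4) ∨ (n ≤ 4 ∧ m = 1) ∨ (n = 6 ∧ m = 3) := by
  have h1 := Nat.le_of_dvd hn hm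
  by_cases h : 21 ≤ n
  · have := small_lt ((n - 1) / 4) (by omega)
    omega
  have h2 : m ∣ 2 ^ n - 1 := Dvd.intro_left d hd
  clear hd
  push Not at h
  interval_cases n <;> interval_cases m <;> simp_all

set_option synthInstance.maxSize 2000 in
set_option synthInstance.maxHeartbeats 200000 in
theorem arith {n d m : ℕ} (hn : 0 < n) (hd : d * m = 2 ^ n - 1) (hm : m ∣ n) {a b c e : ℕ}
    (h : 2 ^ a + 2 ^ b ≡ 2 ^ c + 2 ^ e [MOD d]) :
    a + b ≡ c + e [MOD n] ∧ (c = e → a ≡ b [MOD n]) := by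
  have key : ∀ t, 2 ^ ((a + t) % n) + 2 ^ ((b + t) % n) ≡
      2 ^ ((c + t) % n) + 2 ^ ((e + t) % n) [MOD d] := fun t => by
    refine (((two_pow_mod hd _).add (two_pow_mod hd _)).trans ?_).trans
      ((two_pow_mod hd _).add (two_pow_mod hd _)).symm
    simpa only [pow_add, ← add_mul] using h.mul_right (2 ^ t)
  have fin : ∀ t, ((a + t) % n + (b + t) % n ≡ (c + t) % n + (e + t) % n [MOD n] ∧
      ((c + t) % n = (e + t) % n → (a + t) % n = (b + t) % n)) →
      a + b ≡ c + e [MOD n] ∧ (c = e → a ≡ b [MOD n]) := by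
    rintro t ⟨h1, h2⟩
    refine ⟨Nat.ModEq.add_right_cancel' (t + t) ?_, fun e => Nat.ModEq.add_right_cancel' t
      (h2 (by rw [e]))⟩
    have := (((Nat.mod_modEq (a + t) n).add (Nat.mod_modEq (b + t) n)).symm.trans h1).trans
      ((Nat.mod_modEq (c + t) n).add (Nat.mod_modEq (e + t) n))
    rwa [add_add_add_comm, add_add_add_comm c] at this
  rcases small_cases hn hd hm with h1 | h1
  · obtain ⟨t, h2, h3, h4, h5⟩ := exists_shift (n := n) (w := (n - 1) / 4) (by omega) a b c e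
    generalize hw : (n - 1) / 4 = w at *
    obtain ⟨k, rfl⟩ : ∃ k, n = w + (k + 1) := ⟨n - w - 1, by omega⟩
    rw [Nat.add_sub_cancel_left] at h2 h3 h4 h5
    have h6 : 2 ^ (k + 1) < d := by
      by_contra h6
      have e1 : d * (m + 1) ≤ 2 ^ (k + 1) * 2 ^ w := Nat.mul_le_mul (by omega) h1
      have e2 : 2 ^ (k + 1) * m + 2 ^ (k + 1) ≤ 2 ^ (k + 1) * 2 ^ w := by
        rw [← mul_add_one]; exact Nat.mul_le_mul le_rfl h1
      have e3 : d * m ≤ 2 ^ (k + 1) * m := Nat.mul_le_mul (by omega) le_rfl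
      have e4 : 2 ≤ 2 ^ (k + 1) := by
        have := Nat.two_pow_pos k
        rw [pow_succ]; omega
      rw [pow_add, mul_comm (2 ^ w)] at hd
      omega
    have h7 : ∀ x y, x < k + 1 → y < k + 1 → 2 ^ x + 2 ^ y < d := fun x y hx hy => by
      have e1 : 2 ^ x ≤ 2 ^ k := Nat.pow_le_pow_right two_pos (by omega)
      have e2 : 2 ^ y ≤ 2 ^ k := Nat.pow_le_pow_right two_pos (by omega)
      rw [pow_succ] at h6
      omega
    have := two_pow_inj ((key t).eq_of_lt_of_lt (h7 _ _ h2 h3) (h7 _ _ h4 h5))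
    exact fin t ⟨by rw [this.1], this.2⟩
  · refine fin 0 ?_
    have h0 := key 0
    have h2 := Nat.mod_lt (a + 0) hn
    have h3 := Nat.mod_lt (b + 0) hn
    have h4 := Nat.mod_lt (c + 0) hn
    have h5 := Nat.mod_lt (e + 0) hn
    generalize (a + 0) % n = a at *
    generalize (b + 0) % n = b at *
    generalize (c + 0) % n = c at *
    generalize (e + 0) % n = e at *
    clear key fin h hm
    rcases h1 with ⟨h1, rfl⟩ | ⟨rfl, rfl⟩
    · rw [mul_one] at hd
      subst hd
      revert h0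
      interval_cases n
      all_goals
        revert e; revert c; revert b; revert a
        decide
    · obtain rfl : d = 21 := by omega
      revert h0
      revert e; revert c; revert b; revert a
      decide +kernel

variable {F : Type*} [Field F]

/-- the conclusion of the digit lemma for the element `l` -/
def NT (l : F) : Prop := l ≠ 0 ∧ ∀ σ₁ σ₂ τ₁ τ₂ : F ≃+* F, σ₁ l * σ₂ l = τ₁ l * τ₂ l →
  (∀ x, σ₁ (σ₂ x) = τ₁ (τ₂ x)) ∧ (τ₁ = τ₂ → σ₁ = σ₂)

variable [Fintype F] [CharP F 2]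

theorem exists_pow (σ : F ≃+* F) : ∃ i, ∀ x, σ x = x ^ 2 ^ i := by
  have : Fact (Nat.Prime 2) := ⟨Nat.prime_two⟩
  let _ : Algebra (ZMod 2) F := ZMod.algebra F 2
  obtain ⟨i, hi⟩ := FiniteField.exists_forall_apply_eq_pow (ZMod 2) 2 F
    (AlgEquiv.ofRingEquiv (f := σ) (fun x => by
      have := RingHom.ext_zmod ((σ : F →+* F).comp (algebraMap (ZMod 2) F))
        (algebraMap (ZMod 2) F)
      exact DFunLike.congr_fun this x))
  rw [Nat.card_zmod] at hi
  exact ⟨i, hi⟩

theorem aut_comm (σ τ : F ≃+* F) (x : F) : σ (τ x) = τ (σ x) := by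
  obtain ⟨i, hi⟩ := exists_pow τ
  rw [hi, hi, map_pow]

omit [CharP F 2] in
theorem pow_congr {n : ℕ} (hn : Fintype.card F = 2 ^ n) {i j : ℕ} (h : i ≡ j [MOD n]) (x : F) :
    x ^ 2 ^ i = x ^ 2 ^ j := by
  have : ∀ i, x ^ 2 ^ i = x ^ 2 ^ (i % n) := fun i => by
    conv_lhs => rw [← Nat.div_add_mod i n, pow_add, pow_mul, pow_mul 2, ← hn,
      FiniteField.pow_card_pow]
  rw [this i, this j, h]

theorem nt_of {n m : ℕ} (hn : Fintype.card F = 2 ^ n) (l : Fˣ) (hd : orderOf l * m = 2 ^ n - 1)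
    (hm : m ∣ n) : NT (l : F) := by
  have hn0 : 0 < n := by
    have := Fintype.one_lt_card (α := F)
    rcases n with _ | n
    · omega
    · omega
  refine ⟨l.ne_zero, fun σ₁ σ₂ τ₁ τ₂ h => ?_⟩
  obtain ⟨a, ha⟩ := exists_pow σ₁
  obtain ⟨b, hb⟩ := exists_pow σ₂
  obtain ⟨c, hc⟩ := exists_pow τ₁
  have key : ∀ e, (∀ x, τ₂ x = x ^ 2 ^ e) → a + b ≡ c + e [MOD n] ∧ (c = e → a ≡ b [MOD n]) := by
    intro e he
    rw [ha, hb, hc, he, ← pow_add, ← pow_add, ← Units.val_pow_eq_pow_val,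
      ← Units.val_pow_eq_pow_val, Units.val_inj, pow_eq_pow_iff_modEq] at h
    exact arith hn0 hd hm h
  refine ⟨fun x => ?_, fun e => RingEquiv.ext fun x => ?_⟩
  · obtain ⟨e, he⟩ := exists_pow τ₂
    rw [ha, hb, hc, he, ← pow_mul, ← pow_mul, ← pow_add, ← pow_add, add_comm b, add_comm e]
    exact pow_congr hn (key e he).1 x
  · rw [ha, hb]
    exact pow_congr hn ((key c (e ▸ hc)).2 rfl) x

theorem card_aut_dvd {n : ℕ} (hn : Fintype.card F = 2 ^ n) : Nat.card (RingAut F) ∣ n := by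
  have : Fact (Nat.Prime 2) := ⟨Nat.prime_two⟩
  let φ : RingAut F := frobeniusEquiv F 2
  have h1 : ∀ (i : ℕ) (x : F), (φ ^ i) x = x ^ 2 ^ i := by
    intro i
    induction i with
    | zero => simp
    | succ i ih =>
      intro x
      rw [pow_succ', RingAut.mul_apply, ih, pow_succ, pow_mul]
      rfl
  have h2 : Subgroup.zpowers φ = ⊤ := (Subgroup.eq_top_iff' _).2 fun σ => by
    obtain ⟨i, hi⟩ := exists_pow σ
    exact ⟨(i : ℤ), RingEquiv.ext fun x => by simp only [zpow_natCast, h1, hi]⟩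
  rw [← Subgroup.card_top, ← h2, Nat.card_zpowers, orderOf_dvd_iff_pow_eq_one]
  exact RingEquiv.ext fun x => by rw [h1, ← hn, FiniteField.pow_card]; rfl

/-- a transitive semilinear group contains a large scalar -/
theorem exists_nt {X V : Type*} [Group X] [Finite X] [MulAction X V] (e : V ≃ F)
    (h : ∀ g : X, ∃ (a : F) (σ : F ≃+* F), ∀ v, e (g • v) = a * σ (e v))
    (ht : ∀ v w : V, e v ≠ 0 → e w ≠ 0 → ∃ g : X, g • v = w) :
    ∃ (g : X) (l : F), NT l ∧ ∀ v, e (g • v) = l * e v := by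
  classical
  have : Fact (Nat.Prime 2) := ⟨Nat.prime_two⟩
  obtain ⟨n, -, hn⟩ := FiniteField.card F 2
  choose a τ h using h
  have ha : ∀ g, a g ≠ 0 := fun g h0 => by
    have e1 := h g (e.symm 0)
    have e2 := h g (e.symm 1)
    rw [h0, zero_mul] at e1 e2
    exact zero_ne_one (e.symm.injective (MulAction.injective g (e.injective (e1.trans e2.symm))))
  have hm : ∀ g k y, a (g * k) * τ (g * k) y = a g * τ g (a k) * τ g (τ k y) := fun g k y => by
    have := h (g * k) (e.symm y)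
    rw [mul_smul, h, h, e.apply_symm_apply, map_mul, ← mul_assoc] at this
    exact this.symm
  have hm1 : ∀ g k, a (g * k) = a g * τ g (a k) := fun g k => by simpa using hm g k 1
  let T : X →* RingAut F := MonoidHom.mk' τ fun g k => RingEquiv.ext fun y => by
    have := hm g k y
    rw [← hm1] at this
    exact mul_left_cancel₀ (ha _) this
  have hT : ∀ g : T.ker, ∀ y, τ g y = y := fun g y => DFunLike.congr_fun (g.2 : T g = 1) y
  let α : T.ker →* Fˣ := MonoidHom.mk' (fun g => Units.mk0 (a g) (ha g)) fun g k => by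
    ext
    simp only [Subgroup.coe_mul, Units.val_mk0, Units.val_mul, hm1, hT]
  obtain ⟨⟨_, g, rfl⟩, hg⟩ := IsCyclic.exists_generator (α := α.range)
  have hd : orderOf (α g) = Nat.card α.range := by
    rw [← orderOf_eq_card_of_forall_mem_zpowers hg, ← Subgroup.orderOf_coe]
  let S := MulAction.stabilizer X (e.symm 1)
  have h1 : S.index = 2 ^ (n : ℕ) - 1 := by
    rw [MulAction.index_stabilizer, ← hn, ← Fintype.card_units, ← Nat.card_eq_fintype_card,
      ← Nat.card_coe_set_eq]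
    refine Nat.card_congr (Equiv.ofBijective (fun v => Units.mk0 (e v) ?_) ⟨fun v w hvw => ?_,
      fun u => ?_⟩)
    · obtain ⟨_, k, rfl⟩ := v
      simpa [h] using ha k
    · exact Subtype.ext (e.injective (congrArg Units.val hvw))
    · obtain ⟨k, hk⟩ := ht (e.symm 1) (e.symm u) (by simp) (by simp)
      exact ⟨⟨e.symm u, k, hk⟩, by ext; simp⟩
  have h2 : S.subgroupOf T.ker = α.ker := by
    ext k
    rw [Subgroup.mem_subgroupOf, MonoidHom.mem_ker, MulAction.mem_stabilizer_iff,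
      ← e.injective.eq_iff, h, e.apply_symm_apply, map_one, mul_one, Units.ext_iff]
    rfl
  have h3 : 2 ^ (n : ℕ) - 1 ∣ orderOf (α g) * n := by
    rw [← h1, hd, ← Subgroup.index_ker, ← h2]
    refine (Subgroup.index_dvd_of_le (inf_le_left : S ⊓ T.ker ≤ S)).trans ?_
    rw [← Subgroup.relIndex_mul_index (inf_le_right : S ⊓ T.ker ≤ T.ker),
      Subgroup.inf_relIndex_right, Subgroup.index_ker]
    have := Finite.of_injective (fun σ : RingAut F => (σ : F → F)) DFunLike.coe_injective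
    exact Nat.mul_dvd_mul_left _ ((Subgroup.card_subgroup_dvd_card _).trans (card_aut_dvd hn))
  obtain ⟨m, hm2⟩ : orderOf (α g) ∣ 2 ^ (n : ℕ) - 1 := by
    rw [← hn, ← Fintype.card_units]; exact orderOf_dvd_card
  refine ⟨g, α g, nt_of hn _ hm2.symm ?_, fun v => by rw [h, hT]; rfl⟩
  rw [hm2] at h3
  exact Nat.dvd_of_mul_dvd_mul_left (orderOf_pos _) h3

end Cfsg.Agent.H89.Shaw
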