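import Mathlib

/-! Small lemmas on conjugates `H.map (MulAut.conj g).toMonoidHom` of subgroups. -/

set_option autoImplicit false

namespace Cfsg.Agent.H89

variable {G : Type*} [Group G]

theorem mem_conj_iff {H : Subgroup G} {g y : G} :
    y ∈ H.map (MulAut.conj g).toMonoidHom ↔ g⁻¹ * y * g ∈ H := by
  constructor
  · rintro ⟨h, hh, rfl⟩
    simpa [mul_assoc] using hh
  · intro h
    exact ⟨_, h, by simp [mul_assoc]⟩

theorem conj_mem_conj {H : Subgroup G} {y : G} (g : G) (hy : y ∈ H) :
    g * y * g⁻¹ ∈ H.map (MulAut.conj g).toMonoidHom :=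
  ⟨y, hy, rfl⟩

theorem conj_mul (H : Subgroup G) (a b : G) :
    H.map (MulAut.conj (a * b)).toMonoidHom =
      (H.map (MulAut.conj b).toMonoidHom).map (MulAut.conj a).toMonoidHom := by
  ext y
  simp only [mem_conj_iff, mul_inv_rev, mul_assoc]

theorem conj_one (H : Subgroup G) : H.map (MulAut.conj (1 : G)).toMonoidHom = H := by
  ext y
  simp only [mem_conj_iff, inv_one, one_mul, mul_one]

theorem conj_eq_self_iff {H : Subgroup G} {g : G} :
    H.map (MulAut.conj g).toMonoidHom = H ↔ g ∈ Subgroup.normalizer (H : Set G) := by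
  rw [Subgroup.mem_normalizer_iff'']
  constructor
  · intro h y
    rw [← mem_conj_iff, h]
  · intro h
    ext y
    rw [mem_conj_iff, ← h]

theorem conj_eq_conj_iff {H : Subgroup G} {g x : G} :
    H.map (MulAut.conj g).toMonoidHom = H.map (MulAut.conj x).toMonoidHom ↔
      x⁻¹ * g ∈ Subgroup.normalizer (H : Set G) := by
  rw [← conj_eq_self_iff, conj_mul]
  constructor
  · intro h
    rw [h, ← conj_mul, inv_mul_cancel, conj_one]
  · intro h
    have := congrArg (Subgroup.map (MulAut.conj x).toMonoidHom) h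
    rwa [← conj_mul, ← conj_mul, mul_inv_cancel, one_mul] at this

theorem conj_le_of_mem {H L : Subgroup G} {g : G} (hH : H ≤ L) (hg : g ∈ L) :
    H.map (MulAut.conj g).toMonoidHom ≤ L := by
  rintro _ ⟨h, hh, rfl⟩
  exact L.mul_mem (L.mul_mem hg (hH hh)) (L.inv_mem hg)

theorem conj_le_of_normal {H L : Subgroup G} [hL : L.Normal] (hH : H ≤ L) (g : G) :
    H.map (MulAut.conj g).toMonoidHom ≤ L := by
  rintro _ ⟨h, hh, rfl⟩
  exact hL.conj_mem _ (hH hh) g

theorem card_conj (H : Subgroup G) (g : G) :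
    Nat.card (H.map (MulAut.conj g).toMonoidHom) = Nat.card H :=
  Subgroup.card_map_of_injective (MulAut.conj g).injective

theorem index_conj (H : Subgroup G) (g : G) :
    (H.map (MulAut.conj g).toMonoidHom).index = H.index :=
  Subgroup.index_map_of_bijective (MulAut.conj g).bijective H

end Cfsg.Agent.H89
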