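import Mathlib
import Cfsg.Agent.H92.ClassSize
import Cfsg.Agent.H7.PPCore
import Cfsg.Agent.H55.Cores
import Cfsg.Agent.H3.Frattini

/-!
Groups in which `p ^ 2` divides no class size; solvable groups with abelian Sylow subgroups.
-/

set_option autoImplicit false

namespace Cfsg.Agent.H89

open Subgroup H92 Pointwise
open scoped commutatorElement

variable {G : Type*} [Group G] [Finite G] {p : ℕ} [hp : Fact p.Prime]

/-- Some conjugate of `C` meets the Sylow subgroup `P` with index dividing the index of `C`. -/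
theorem exists_conj_relIndex_dvd_index (P : Sylow p G) (C : Subgroup G) :
    ∃ g : G, (MulAut.conj g • C).relIndex P ∣ C.index := by
  obtain ⟨Q⟩ : Nonempty (Sylow p C) := inferInstance
  obtain ⟨g, hg⟩ := H1.exists_conj_le_of_not_dvd_index (Q.isPGroup'.map C.subtype) P.not_dvd_index
  refine ⟨g, ?_⟩
  have h1 : ¬ p ∣ (P : Subgroup G).relIndex (MulAut.conj g • C) := by
    intro h
    have h2 := h.trans (relIndex_dvd_of_le_left (MulAut.conj g • C) hg)
    rw [relIndex_pointwise_smul, relIndex, subgroupOf, comap_map_eq_self_of_injective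
      C.subtype_injective] at h2
    exact Q.not_dvd_index h2
  obtain ⟨k, hk⟩ := IsPGroup.iff_card.1 P.isPGroup'
  obtain ⟨j, -, hj⟩ := (Nat.dvd_prime_pow hp.out).1
    (hk ▸ relIndex_dvd_card (MulAut.conj g • C) (P : Subgroup G))
  have h2 := relIndex_mul_index (inf_le_right : MulAut.conj g • C ⊓ P ≤ P)
  have h3 := relIndex_mul_index (inf_le_left : MulAut.conj g • C ⊓ P ≤ _)
  rw [inf_relIndex_right, ← h3, inf_relIndex_left, index_conj_smul] at h2
  refine Nat.Coprime.dvd_of_dvd_mul_left ?_ (Dvd.intro _ h2)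
  rw [hj]
  exact Nat.Coprime.pow_left _ (hp.out.coprime_iff_not_dvd.2 h1)

theorem exists_conj_relIndex_dvd (P : Sylow p G) {x : G} (h : ¬ p ^ 2 ∣ cs[x]) :
    ∃ g : G, (Ce[g * x * g⁻¹]).relIndex P ∣ p := by
  obtain ⟨g, hg⟩ := exists_conj_relIndex_dvd_index P (Ce[x])
  refine ⟨g, ?_⟩
  rw [C_conj]
  obtain ⟨k, hk⟩ := IsPGroup.iff_card.1 P.isPGroup'
  obtain ⟨j, -, hj⟩ := (Nat.dvd_prime_pow hp.out).1
    (hk ▸ relIndex_dvd_card (MulAut.conj g • Ce[x]) (P : Subgroup G))
  rw [hj] at hg ⊢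
  have : j ≤ 1 := by
    by_contra h1
    exact h ((pow_dvd_pow p (not_le.1 h1)).trans hg)
  simpa using pow_dvd_pow p this

/-- If `p ^ 2` divides no class size, an element in all subgroups of index at most `p` in a Sylow
`p`-subgroup is central. -/
theorem mem_center_of_forall_relIndex_dvd (h : ∀ x : G, ¬ p ^ 2 ∣ cs[x]) (P : Sylow p G) {z : G}
    (hz : ∀ T : Subgroup G, T.relIndex P ∣ p → z ∈ T) : z ∈ center G := by
  rw [← C_eq_top_iff]
  refine eq_top_of_forall_conj_mem fun x => ?_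
  obtain ⟨g, hg⟩ := exists_conj_relIndex_dvd P (h x)
  exact ⟨g, mem_C_comm.1 (hz _ hg)⟩

theorem normal_subgroupOf_of_relIndex_dvd {P T : Subgroup G} (hP : IsPGroup p P)
    (h : T.relIndex P ∣ p) : (T.subgroupOf P).Normal := by
  rcases (Nat.dvd_prime hp.out).1 h with h | h
  · rw [relIndex, index_eq_one] at h
    rw [h]
    infer_instance
  · have := hP.isNilpotent
    exact NormalizerCondition.normal_of_coatom _ Group.normalizerCondition_of_isNilpotent
      (H3.isCoatom_of_index_prime (M := T.subgroupOf P) (h.symm ▸ hp.out : (T.relIndex P).Prime))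

theorem pow_mem_center_of_not_sq_dvd (h : ∀ x : G, ¬ p ^ 2 ∣ cs[x]) (P : Sylow p G) {s : G}
    (hs : s ∈ (P : Subgroup G)) : s ^ p ∈ center G := by
  refine mem_center_of_forall_relIndex_dvd h P fun T hT => ?_
  have := normal_subgroupOf_of_relIndex_dvd P.isPGroup' hT
  obtain ⟨m, hm⟩ := hT
  have h1 : s ^ T.relIndex P ∈ T := pow_index_mem (T.subgroupOf P) ⟨s, hs⟩
  rw [hm, pow_mul]
  exact pow_mem h1 m

theorem commutator_mem_center_of_not_sq_dvd (h : ∀ x : G, ¬ p ^ 2 ∣ cs[x]) (P : Sylow p G)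
    {s t : G} (hs : s ∈ (P : Subgroup G)) (ht : t ∈ (P : Subgroup G)) : ⁅s, t⁆ ∈ center G := by
  refine mem_center_of_forall_relIndex_dvd h P fun T hT => ?_
  have := normal_subgroupOf_of_relIndex_dvd P.isPGroup' hT
  have h1 : IsCyclic (P ⧸ T.subgroupOf P) := isCyclic_of_card_dvd_prime hT
  have h2 : commutator P ≤ T.subgroupOf P :=
    Normal.quotient_commutative_iff_commutator_le.1 h1.isMulCommutative
  exact h2 (commutator_mem_commutator (mem_top (⟨s, hs⟩ : P)) (mem_top (⟨t, ht⟩ : P)))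

/-- With abelian Sylow `p`-subgroups the hypothesis passes to centralizers of `p`-elements. -/
theorem not_sq_dvd_centralizer (h : ∀ x : G, ¬ p ^ 2 ∣ cs[x]) (P : Sylow p G)
    [IsMulCommutative P] {D : Subgroup G} (hD : IsPGroup p D) (y : centralizer (D : Set G)) :
    ¬ p ^ 2 ∣ cs[y] := by
  intro h1
  have h2 : D ≤ Ce[(y : G)] := le_C_iff.2 y.2
  obtain ⟨Q, hQ⟩ := (hD.comap_subtype (K := Ce[(y : G)])).exists_le_sylow
  set T := (Q : Subgroup (Ce[(y : G)])).map (Ce[(y : G)]).subtype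
  have h3 : D ≤ T := by
    rw [← map_subgroupOf_eq_of_le h2]
    exact map_mono hQ
  obtain ⟨g, hg⟩ := H1.exists_conj_le_of_not_dvd_index (Q.isPGroup'.map (Ce[(y : G)]).subtype)
    P.not_dvd_index
  have h4 : T ≤ centralizer (D : Set G) := fun t ht d hd => by
    have h5 := setLike_mul_comm (s := (P : Subgroup G))
      (hg (smul_mem_pointwise_smul _ (MulAut.conj g) _ (h3 hd)))
      (hg (smul_mem_pointwise_smul _ (MulAut.conj g) _ ht))
    simp only [MulAut.smul_def, ← map_mul] at h5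
    exact (MulAut.conj g).injective h5
  rw [cs_subgroup, ← inf_relIndex_right] at h1
  have h5 := (h1.trans (relIndex_dvd_index_of_le inf_le_right)).trans
    (index_dvd_of_le (le_inf (map_subtype_le _) h4 : T ≤ _))
  rw [index_map_subtype] at h5
  exact h y ((Nat.Coprime.pow_left 2 (hp.out.coprime_iff_not_dvd.2
    Q.not_dvd_index)).dvd_of_dvd_mul_left h5)

/-- A solvable group with abelian Sylow `p`-subgroup `P` is `N(P) O_{p'}(G)`. -/
theorem exists_normalizer_mul_of_comm [Group.IsSolvable G] (P : Sylow p G) [IsMulCommutative P]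
    (g : G) : ∃ n ∈ normalizer ((P : Subgroup G) : Set G), ∃ k ∈ pPrimeCore p G, g = n * k := by
  have h1 := H7.isSylowIn_inf_pPrimePCore P
  have h2 := H55.isPConstrained_of_solvable p G h1.toSylow
  rw [h1.map_toSylow] at h2
  have h3 : (P : Subgroup G) ≤ pPrimePCore p G :=
    ((le_centralizer (P : Subgroup G)).trans (centralizer_le inf_le_left)).trans h2
  rw [inf_eq_left.2 h3] at h1
  exact H7.exists_normalizer_mul_pPrimeCore h1 g

end Cfsg.Agent.H89
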