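import Mathlib
import Cfsg.Agent.H89.ClassSq
import Cfsg.Agent.H8.Tate
import Cfsg.Agent.H3.Fitting
import Cfsg.Agent.H24.PSolv

/-!
Normal subgroups on which every element has a centralizer of index at most `p`.
-/

set_option autoImplicit false

namespace Cfsg.Agent.H89

open Subgroup H92 Pointwise
open scoped commutatorElement

theorem ker_eq_or_range_eq {X Y : Type*} [Group X] [Group Y] [Finite X] {p : ℕ} (hp : p.Prime)
    {f g : X →* Y} (hf : f.ker.index = p) (hg : g.ker.index = p) {K : Subgroup X}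
    (hK : K.index ∣ p) (h : ∀ x ∈ K, f x = g x) : f.ker = g.ker ∨ f.range = g.range := by
  by_cases h1 : f.range = g.range
  · exact Or.inr h1
  left
  have hf' : Nat.card f.range = p := by rw [← index_ker, hf]
  have hg' : Nat.card g.range = p := by rw [← index_ker, hg]
  have : Finite f.range := Nat.finite_of_card_ne_zero (hf' ▸ hp.ne_zero)
  have : Finite g.range := Nat.finite_of_card_ne_zero (hg' ▸ hp.ne_zero)
  have h2 : f.range ⊓ g.range = ⊥ := by
    rcases (Nat.dvd_prime hp).1 (hf' ▸ card_dvd_of_le (inf_le_left : f.range ⊓ g.range ≤ _)) with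
      h2 | h2
    · exact card_eq_one.1 h2
    · refine absurd ((eq_of_le_of_card_ge inf_le_left (hf'.trans h2.symm).le).symm.trans
        (eq_of_le_of_card_ge inf_le_right (hg'.trans h2.symm).le)) h1
  have h3 : ∀ x ∈ K, f x = 1 := fun x hx => mem_bot.1 (h2 ▸ ⟨⟨x, rfl⟩, ⟨x, (h x hx).symm⟩⟩)
  have h4 : K = f.ker := eq_of_le_of_index_le h3 (hf ▸ Nat.le_of_dvd hp.pos hK)
  have h5 : K = g.ker := eq_of_le_of_index_le (fun x hx => (h x hx).symm.trans (h3 x hx))
    (hg ▸ Nat.le_of_dvd hp.pos hK)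
  rw [← h4, ← h5]

variable {G : Type*} [Group G]

/-- The map `x ↦ ⁅g, x⁆` on `P`, when `P` centralizes these commutators. -/
def brHom (P : Subgroup G) (g : G) (h : ∀ x ∈ P, ∀ y ∈ P, Commute x ⁅g, y⁆) : P →* G :=
  MonoidHom.mk' (fun x => ⁅g, (x : G)⁆) fun x y => by
    have := (h x x.2 y y.2).eq
    simp only [coe_mul, commutatorElement_def] at this ⊢
    calc _ = g * x * g⁻¹ * (x : G)⁻¹ * (x * (g * y * g⁻¹ * (y : G)⁻¹)) * (x : G)⁻¹ := by group
      _ = _ := by rw [this]; group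

theorem brHom_ker (P : Subgroup G) (g : G) (h : ∀ x ∈ P, ∀ y ∈ P, Commute x ⁅g, y⁆) :
    (brHom P g h).ker = (Ce[g]).subgroupOf P := by
  ext x
  rw [MonoidHom.mem_ker, mem_subgroupOf, mem_C']
  exact commutatorElement_eq_one_iff_commute

theorem card_brHom_range (P : Subgroup G) (g : G) (h : ∀ x ∈ P, ∀ y ∈ P, Commute x ⁅g, y⁆) :
    Nat.card (brHom P g h).range = (Ce[g]).relIndex P := by
  rw [← index_ker, brHom_ker, relIndex]

variable [Finite G]

/-- If every element has a centralizer of index at most `p` in `P` (and the commutator maps are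
homomorphisms), then either all commutators `⁅g, x⁆` lie in a subgroup of order at most `p`, or
the centre has index at most `p` in `P`. -/
theorem breadth_dichotomy {p : ℕ} (hp : p.Prime) (P : Subgroup G)
    (hc : ∀ g : G, ∀ x ∈ P, ∀ y ∈ P, Commute x ⁅g, y⁆) (h : ∀ g : G, (Ce[g]).relIndex P ∣ p) :
    (∃ R : Subgroup G, Nat.card R ∣ p ∧ ∀ g : G, ∀ x ∈ P, ⁅g, x⁆ ∈ R) ∨
      (center G).relIndex P ∣ p := by
  have h1 : ∀ g : G, ¬ P ≤ Ce[g] → (brHom P g (hc g)).ker.index = p := fun g hg => by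
    rw [brHom_ker]
    exact ((Nat.dvd_prime hp).1 (h g)).resolve_left fun h2 => hg (relIndex_eq_one.1 h2)
  have h2 : ∀ g g' : G, ¬ P ≤ Ce[g] → ¬ P ≤ Ce[g'] →
      (brHom P g (hc g)).ker = (brHom P g' (hc g')).ker ∨
        (brHom P g (hc g)).range = (brHom P g' (hc g')).range := by
    intro g g' hg hg'
    refine ker_eq_or_range_eq hp (h1 g hg) (h1 g' hg') (h (g⁻¹ * g')) fun x hx => ?_
    have h3 := (mem_C.1 (mem_subgroupOf.1 hx)).eq
    change ⁅g, (x : G)⁆ = ⁅g', (x : G)⁆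
    simp only [commutatorElement_def]
    calc _ = g * (x * (g⁻¹ * g')) * g'⁻¹ * (x : G)⁻¹ := by group
      _ = _ := by rw [h3]; group
  by_cases h3 : ∀ g : G, P ≤ Ce[g]
  · exact Or.inl ⟨⊥, by simp, fun g x hx =>
      mem_bot.2 (commutatorElement_eq_one_iff_commute.2 (mem_C'.1 (h3 g hx)))⟩
  push Not at h3
  obtain ⟨g, hg⟩ := h3
  by_cases h4 : ∀ g', ¬ P ≤ Ce[g'] → (brHom P g (hc g)).range = (brHom P g' (hc g')).range
  · refine Or.inl ⟨(brHom P g (hc g)).range, by rw [card_brHom_range]; exact h g,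
      fun g' x hx => ?_⟩
    by_cases h5 : P ≤ Ce[g']
    · rw [commutatorElement_eq_one_iff_commute.2 (mem_C'.1 (h5 hx))]
      exact one_mem _
    · rw [h4 g' h5]
      exact ⟨⟨x, hx⟩, rfl⟩
  push Not at h4
  obtain ⟨g₁, hg₁, h4⟩ := h4
  have h5 := (h2 g g₁ hg hg₁).resolve_right h4
  right
  refine (index_dvd_of_le (show (Ce[g]).subgroupOf P ≤ (center G).subgroupOf P from
    fun x hx => mem_center_iff.2 fun g₂ => ?_)).trans (h g)
  by_cases h6 : P ≤ Ce[g₂]
  · exact (mem_C'.1 (h6 x.2)).eq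
  · have h7 : (brHom P g (hc g)).ker = (brHom P g₂ (hc g₂)).ker := by
      rcases h2 g g₂ hg h6 with h7 | h7
      · exact h7
      · exact h5.trans ((h2 g₁ g₂ hg₁ h6).resolve_right fun h8 => h4 (h7.trans h8.symm))
    rw [brHom_ker, brHom_ker] at h7
    exact (mem_C'.1 (mem_subgroupOf.1 (h7 ▸ hx))).eq

variable {p : ℕ} [hp : Fact p.Prime]

theorem dvd_prime_of_dvd_card {P : Subgroup G} (hP : IsPGroup p P) {a : ℕ} (h1 : a ∣ Nat.card P)
    (h2 : ¬ p ^ 2 ∣ a) : a ∣ p := by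
  obtain ⟨k, hk⟩ := IsPGroup.iff_card.1 hP
  obtain ⟨j, -, rfl⟩ := (Nat.dvd_prime_pow hp.out).1 (hk ▸ h1)
  have : j ≤ 1 := by
    by_contra h3
    exact h2 (pow_dvd_pow p (not_le.1 h3))
  simpa using pow_dvd_pow p this

theorem relIndex_dvd_prime_of_normal {P : Subgroup G} [P.Normal] (hP : IsPGroup p P) {g : G}
    (h : ¬ p ^ 2 ∣ cs[g]) : (Ce[g]).relIndex P ∣ p :=
  dvd_prime_of_dvd_card hP (relIndex_dvd_card _ _) fun h1 =>
    h (h1.trans (relIndex_normal_dvd_index _ _))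

/-- An abelian minimal normal `p`-subgroup has order `p` if `p ^ 2` divides no class size. -/
theorem card_dvd_of_minimal_normal (h : ∀ x : G, ¬ p ^ 2 ∣ cs[x]) {N : Subgroup G} [hN : N.Normal]
    [IsMulCommutative N] (hP : IsPGroup p N)
    (hmin : ∀ K : Subgroup G, K.Normal → K ≤ N → K = ⊥ ∨ K = N) (hexp : ∀ x ∈ N, x ^ p = 1) :
    Nat.card N ∣ p := by
  have h0 : ∀ g : G, ∀ y ∈ N, ⁅g, y⁆ ∈ N := fun g y hy =>
    commutator_le_right ⊤ N (commutator_mem_commutator (mem_top g) hy)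
  have h1 : N ≤ center G → Nat.card N ∣ p := by
    intro h1
    by_cases h2 : N = ⊥
    · simp [h2]
    obtain ⟨⟨x, hx⟩, hx1⟩ := ne_bot_iff_exists_ne_one.1 h2
    have h4 : (zpowers x).Normal := ⟨fun y hy g => by
      rwa [mem_center_iff.1 (zpowers_le.2 (h1 hx) hy) g, mul_inv_cancel_right]⟩
    rcases hmin (zpowers x) h4 (zpowers_le.2 hx) with h3 | h3
    · exact absurd (Subtype.ext (zpowers_eq_bot.1 h3)) hx1
    · rw [← h3, Nat.card_zpowers]
      exact orderOf_dvd_of_pow_eq_one (hexp x hx)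
  rcases breadth_dichotomy hp.out N (fun g x hx y hy => setLike_mul_comm hx (h0 g y hy))
    (fun g => relIndex_dvd_prime_of_normal hP (h g)) with ⟨R, hR, h2⟩ | h2
  · rcases hmin ⁅⊤, N⁆ inferInstance (commutator_le_right _ _) with h3 | h3
    · refine h1 fun x hx => mem_center_iff.2 fun g => commutatorElement_eq_one_iff_mul_comm.1 ?_
      exact mem_bot.1 (h3 ▸ commutator_mem_commutator (mem_top g) hx)
    · rw [← h3]
      exact (card_dvd_of_le (commutator_le.2 fun g _ x hx => h2 g x hx)).trans hR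
  · rcases hmin (center G ⊓ N) inferInstance inf_le_right with h3 | h3
    · rwa [← inf_relIndex_right, h3, relIndex_bot_left] at h2
    · exact h1 (h3 ▸ inf_le_left)

theorem commutator_le_of_sylow (P : Sylow p G) (hP : commutator G ≤ P) {N : Subgroup G}
    [N.Normal] (h : ∀ g : G, ∀ x ∈ (P : Subgroup G), ⁅g, x⁆ ∈ N) : commutator G ≤ N := by
  intro x hx
  have h1 := H8.center_inf_commutator_inf_sylow_le
    (P.mapSurjective (QuotientGroup.mk'_surjective N)) (x := (x : G ⧸ N)) ⟨⟨?_, ?_⟩, x, hP hx, rfl⟩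
  · rw [Sylow.coe_mapSurjective, ← map_commutator] at h1
    obtain ⟨y, hy, h2⟩ := h1
    have h3 : y ∈ N := commutator_le.2 (fun a _ b hb => h a b hb) hy
    rwa [← QuotientGroup.eq_one_iff, ← show (y : G ⧸ N) = x from h2, QuotientGroup.eq_one_iff]
  · refine mem_center_iff.2 fun g => ?_
    obtain ⟨g, rfl⟩ := QuotientGroup.mk_surjective g
    rw [← commutatorElement_eq_one_iff_mul_comm]
    exact (QuotientGroup.eq_one_iff ⁅g, x⁆).2 (h g x (hP hx))
  · rw [commutator_def, ← map_top_of_surjective _ (QuotientGroup.mk'_surjective N),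
      ← map_commutator]
    exact mem_map_of_mem _ hx

theorem le_of_relIndex_dvd_prime {M D P : Subgroup G} (h : M.relIndex P ∣ p) (hMD : M ≤ D)
    {x : G} (hx : x ∈ P) (hxD : x ∈ D) (hxM : x ∉ M) : P ≤ D := by
  rcases (Nat.dvd_prime hp.out).1 ((relIndex_dvd_of_le_left P hMD).trans h) with h1 | h1
  · exact relIndex_eq_one.1 h1
  · have h2 : M.subgroupOf P = D.subgroupOf P := eq_of_le_of_index_le (comap_mono hMD)
      ((Nat.le_of_dvd hp.out.pos h).trans h1.ge)
    exact absurd (mem_subgroupOf.1 (h2 ▸ (mem_subgroupOf.2 hxD : (⟨x, hx⟩ : P) ∈ _))) hxM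

/-- If `p ^ 2` divides no class size, a normal Sylow `p`-subgroup not centralized by some
`p'`-element is abelian. -/
theorem comm_of_not_le_C (h : ∀ x : G, ¬ p ^ 2 ∣ cs[x]) (P : Sylow p G)
    [hN : (P : Subgroup G).Normal] {g : G} (hg : ¬ p ∣ orderOf g) (hP : ¬ (P : Subgroup G) ≤ Ce[g]) :
    IsMulCommutative P := by
  have h1 := fun x => relIndex_dvd_prime_of_normal P.isPGroup' (h x)
  have hcop : ∀ y ∈ (P : Subgroup G), (orderOf y).Coprime (orderOf g) := fun y hy => by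
    obtain ⟨k, hk⟩ := IsPGroup.iff_orderOf.1 P.isPGroup' ⟨y, hy⟩
    exact coprime_of_pow_of_not_dvd hp.out ⟨k, by rw [← hk, orderOf_mk]⟩ hg
  obtain ⟨x, hx, hxg⟩ := SetLike.not_le_iff_exists.1 hP
  have h2 : ∀ y ∈ (P : Subgroup G), y ∈ Ce[g] → ∀ z ∈ (P : Subgroup G), z ∈ Ce[g] → z ∈ Ce[y] := by
    intro y hy hyg z hz hzg
    by_contra h3
    have h4 := C_mul_of_coprime (mem_C.1 hyg) (hcop y hy)
    exact hP (le_of_relIndex_dvd_prime (h1 (y * g)) (h4 ▸ inf_le_right) hz hzg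
      fun h5 => h3 (h4 ▸ h5).1)
  have hc : x⁻¹ * (g * x * g⁻¹) ∈ (P : Subgroup G) := mul_mem (inv_mem hx) (hN.conj_mem x hx g)
  have hcg : x⁻¹ * (g * x * g⁻¹) ∉ Ce[g] := by
    intro h3
    have h4 := (mem_C.1 h3).orderOf_mul_eq_mul_orderOf_of_coprime (hcop _ hc)
    rw [show x⁻¹ * (g * x * g⁻¹) * g = x⁻¹ * g * x by group, orderOf_conj'] at h4
    have h5 : x⁻¹ * (g * x * g⁻¹) = 1 :=
      orderOf_eq_one_iff.1 ((Nat.mul_eq_right (orderOf_pos g).ne').1 h4.symm)
    rw [inv_mul_eq_one, eq_mul_inv_iff_mul_eq] at h5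
    exact hxg (mem_C.2 h5)
  have h3 : ∀ y ∈ (P : Subgroup G), y ∈ Ce[g] → (P : Subgroup G) ≤ Ce[y] := by
    intro y hy hyg
    refine le_of_relIndex_dvd_prime (p := p) (M := Ce[g] ⊓ P) (by rw [inf_relIndex_right]; exact h1 g)
      (fun z hz => h2 y hy hyg z hz.2 hz.1) hc (mem_C'.2 ?_) fun h4 => hcg h4.1
    have h4 := mem_center_iff.1 (commutator_mem_center_of_not_sq_dvd h P hy hx)
    have h5 : y * x * y⁻¹ = ⁅y, x⁆ * x := by rw [commutatorElement_def]; group
    have h6 := (mem_C.1 hyg).eq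
    generalize ⁅y, x⁆ = c at h4 h5
    change y * _ = _ * y
    rw [← mul_inv_eq_iff_eq_mul]
    calc _ = (y * x * y⁻¹)⁻¹ * ((y * g) * x * (y * g)⁻¹) := by group
      _ = (y * x * y⁻¹)⁻¹ * (g * (y * x * y⁻¹) * g⁻¹) := by rw [h6]; group
      _ = x⁻¹ * c⁻¹ * (g * c) * x * g⁻¹ := by rw [h5]; group
      _ = _ := by rw [h4 g]; group
  have h4 : ∀ y ∈ (P : Subgroup G), (P : Subgroup G) ≤ Ce[y] := by
    intro y hy
    by_cases hyg : y ∈ Ce[g]
    · exact h3 y hy hyg
    · exact le_of_relIndex_dvd_prime (p := p) (M := Ce[g] ⊓ P) (by rw [inf_relIndex_right]; exact h1 g)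
        (fun z hz => mem_C_comm.1 (h3 z hz.2 hz.1 hy)) hy (self_mem_C y) fun h4 => hyg h4.1
  exact ⟨⟨fun a b => Subtype.ext (mem_C.1 (h4 b b.2 a.2)).eq⟩⟩

/-- If `p ^ 2` divides no class size and `G'` is a `p`-group, then `|G'| ≤ p`. -/
theorem card_commutator_dvd (h : ∀ x : G, ¬ p ^ 2 ∣ cs[x]) (hG : IsPGroup p (commutator G)) :
    Nat.card (commutator G) ∣ p := by
  obtain ⟨P, hP⟩ := hG.exists_le_sylow
  have hN : (P : Subgroup G).Normal := Normal.of_commutator_le G hP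
  by_cases hc : IsMulCommutative P
  · have h0 : ∀ g : G, ∀ x ∈ (P : Subgroup G), ∀ y ∈ (P : Subgroup G), Commute x ⁅g, y⁆ :=
      fun g x hx y _ => setLike_mul_comm (s := (P : Subgroup G)) hx
        (hP (commutator_mem_commutator (mem_top g) (mem_top y)))
    rcases breadth_dichotomy hp.out (P : Subgroup G) h0
      (fun g => relIndex_dvd_prime_of_normal P.isPGroup' (h g)) with ⟨R, hR, h2⟩ | h2
    · have h3 : commutator G ≤ ⁅(⊤ : Subgroup G), (P : Subgroup G)⁆ :=
        commutator_le_of_sylow P hP fun g x hx => commutator_mem_commutator (mem_top g) hx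
      have h4 : ⁅(⊤ : Subgroup G), (P : Subgroup G)⁆ ≤ R :=
        commutator_le.2 fun g _ x hx => h2 g x hx
      exact (card_dvd_of_le (h3.trans h4)).trans hR
    · have h3 := H8.center_inf_commutator_inf_sylow_le P
      rw [commutator_self_eq_bot_iff.2 hc, inf_assoc, inf_eq_left.2 hP, le_bot_iff] at h3
      rw [← relIndex_bot_left, ← h3, inf_relIndex_right]
      exact (H24.relIndex_dvd_of_le_right_of_normal _ hP).trans h2
  have h1 : commutator G ≤ center G := by
    refine commutator_le_of_sylow P hP fun g x hx => ?_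
    obtain ⟨a, b, -, -, rfl, ha, hb⟩ := exists_p_parts hp.out g
    have h2 : x ∈ Ce[b] := by
      by_contra h2
      exact hc (comm_of_not_le_C h P hb fun h3 => h2 (h3 hx))
    have h3 : ⁅a * b, x⁆ = ⁅a, x⁆ := by
      simp only [commutatorElement_def]
      calc _ = a * (b * x) * b⁻¹ * a⁻¹ * x⁻¹ := by group
        _ = _ := by rw [← (mem_C.1 h2).eq]; group
    rw [h3]
    exact commutator_mem_center_of_not_sq_dvd h P (mem_sylow_of_normal P ha) hx
  have h2 : ∀ g : G, ∀ x ∈ (⊤ : Subgroup G), ∀ y ∈ (⊤ : Subgroup G), Commute x ⁅g, y⁆ :=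
    fun g x _ y _ => mem_center_iff.1 (h1 (commutator_mem_commutator (mem_top g) (mem_top y))) x
  rcases breadth_dichotomy hp.out ⊤ h2 (fun g => dvd_prime_of_dvd_card hG (by
      rw [← card_brHom_range ⊤ g (h2 g)]
      refine card_dvd_of_le ?_
      rintro _ ⟨y, rfl⟩
      exact commutator_mem_commutator (mem_top g) (mem_top _))
    (by rw [relIndex_top_right]; exact h g)) with ⟨R, hR, h3⟩ | h3
  · exact (card_dvd_of_le (commutator_le.2 fun g _ x hx => h3 g x hx)).trans hR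
  · rw [relIndex_top_right] at h3
    have h4 : IsCyclic (G ⧸ center G) := isCyclic_of_card_dvd_prime h3
    have h5 := commutative_of_cyclic_center_quotient (QuotientGroup.mk' (center G)) (by simp)
    exact absurd ⟨⟨fun a b => Subtype.ext (h5 a b)⟩⟩ hc

end Cfsg.Agent.H89
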