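import Mathlib
import Cfsg.Agent.H2.Hall
import Cfsg.Agent.S0205

/-!
Consequences of the odd order theorem for Hall subgroups and coprime actions.
-/

set_option autoImplicit false

namespace Cfsg.Agent.H89

open Subgroup H2
open scoped Pointwise

universe u

/-- One of two finite groups of coprime orders is solvable. -/
theorem isSolvable_or_of_coprime {A B : Type*} [Group A] [Group B] [Finite A] [Finite B]
    (h : (Nat.card A).Coprime (Nat.card B)) : Group.IsSolvable A ∨ Group.IsSolvable B := by
  rcases Nat.even_or_odd (Nat.card A) with hA | hA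
  · right
    refine S0205.result (Nat.not_even_iff_odd.1 fun hB => ?_)
    exact absurd (Nat.eq_one_of_dvd_coprimes h hA.two_dvd hB.two_dvd) (by norm_num)
  · exact Or.inl (S0205.result hA)

theorem isSolvable_of_not_two_dvd {A : Type*} [Group A] [Finite A] (h : ¬ 2 ∣ Nat.card A) :
    Group.IsSolvable A :=
  S0205.result (Nat.not_even_iff_odd.1 fun hA => h hA.two_dvd)

/-- `D_π` for `π`-separable groups. -/
theorem le_conj_of_piSeparable {π : Set ℕ} {G : Type u} [Group G] [Finite G]
    (hG : PiSeparable π G) {H K : Subgroup G} (hH : IsPiHall π H) (hK : IsPiNum π (Nat.card K)) :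
    ∃ g : G, K ≤ MulAut.conj g • H := by
  by_cases h2 : 2 ∈ π
  · refine PiSolvSeparable.le_conj (fun Q _ f hf hQ => ?_) hH hK
    obtain ⟨M, h1, h3, h4⟩ := hG Q f hf hQ
    have : Finite Q := Finite.of_surjective f hf
    exact ⟨M, h1, h3, h4.imp id fun h =>
      ⟨h, isSolvable_of_not_two_dvd fun h5 => h 2 Nat.prime_two h5 h2⟩⟩
  · exact hG.le_conj_of_isSolvable hH hK
      (isSolvable_of_not_two_dvd fun h5 => h2 (hK 2 Nat.prime_two h5))

theorem conj_of_piSeparable {π : Set ℕ} {G : Type u} [Group G] [Finite G]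
    (hG : PiSeparable π G) {H K : Subgroup G} (hH : IsPiHall π H) (hK : IsPiHall π K) :
    ∃ g : G, MulAut.conj g • H = K := by
  obtain ⟨g, hg⟩ := le_conj_of_piSeparable hG hH (isPiHall_iff.1 hK).1
  exact ⟨g, (eq_of_isPiHall_of_le hK (isPiHall_iff.1 (isPiHall_conj_smul hH g)).1 hg).symm⟩

end Cfsg.Agent.H89
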