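import Cfsg.Agent.S2045
import Cfsg.Agent.H80.KSpC
import Cfsg.Agent.H46.TDefs
import Cfsg.Agent.H52.FStar

/-!
# A standard subgroup of type `Co3` is the image of the model
-/

set_option autoImplicit false
open Subgroup

namespace Cfsg.Agent.H89.S93Phi
open Cfsg.Agent.H80.KS

universe u

theorem inj_of_perfect {K : Type u} {T : Type} [Group K] [Finite K] [Group T]
    (hM : HasCyclicSchurMultiplier T 1) (hp : commutator K = ⊤) (σ : K →* T)
    (hs : Function.Surjective σ) (hz : σ.ker ≤ center K) : Function.Injective σ := by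
  let e : Shrink.{0} K ≃* K := Shrink.mulEquiv
  haveI : Finite (Shrink.{0} K) := Finite.of_equiv _ e.symm.toEquiv
  have hc : commutator (Shrink.{0} K) = ⊤ := by
    have h1 := map_commutator_eq K e.symm.toMonoidHom
    rw [hp, ← MonoidHom.range_eq_map, MonoidHom.range_eq_top.2 e.symm.surjective] at h1
    exact h1.symm
  obtain ⟨π, hπ⟩ := hM.2 (Shrink.{0} K) (σ.comp e.toMonoidHom) ⟨hs.comp e.surjective,
    fun x hx => mem_center_iff.2 fun g => e.injective (by
      rw [map_mul, map_mul]; exact mem_center_iff.1 (hz hx) _), hc ▸ le_top⟩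
  refine (injective_iff_map_eq_one _).2 fun x hx => ?_
  obtain ⟨a, ha⟩ := hπ ⟨e.symm x, by
    rw [MonoidHom.mem_ker]
    show σ (e (e.symm x)) = 1
    rw [e.apply_symm_apply, hx]⟩
  rw [Subsingleton.elim a 1, map_one] at ha
  have h2 : (1 : Shrink.{0} K) = e.symm x := congrArg Subtype.val ha
  rw [← e.apply_symm_apply x, ← h2, map_one]

theorem exists_phi {G : Type u} [Group G] [Finite G] {K : Subgroup G} (hK : IsStandardSubgroup K)
    (h : Spor.IsoCo3 (K ⧸ Subgroup.center K)) :
    ∃ φ : Γ3 →* G, Function.Injective φ ∧ φ.range = K := by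
  obtain ⟨e0⟩ := h
  let σ : K →* Spor.Co3 := e0.toMonoidHom.comp (QuotientGroup.mk' _)
  have hs : Function.Surjective σ := e0.surjective.comp (QuotientGroup.mk'_surjective _)
  have hi : Function.Injective σ := inj_of_perfect S2045.result hK.1.1.commutator_eq_top σ hs
    fun x hx => (QuotientGroup.eq_one_iff x).1 (e0.injective (hx.trans (map_one e0).symm))
  let e : K ≃* Γ3 := (MulEquiv.ofBijective σ ⟨hi, hs⟩).trans H43.Co3M.equiv
  exact ⟨K.subtype.comp e.symm.toMonoidHom, K.subtype_injective.comp e.symm.injective, by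
    rw [MonoidHom.range_comp, MonoidHom.range_eq_top.2 e.symm.surjective,
      ← MonoidHom.range_eq_map, range_subtype]⟩

theorem as_fstar {G : Type u} [Group G] [Finite G]
    (hs : IsSimpleGroup (generalizedFittingSubgroup G))
    (hn : ¬ IsMulCommutative (generalizedFittingSubgroup G)) :
    Cfsg.Agent.H46.S94.AS (generalizedFittingSubgroup G) := by
  refine ⟨H52.fstar_normal, hs, hn, eq_bot_iff.2 fun c hc => ?_⟩
  rcases (inferInstance : (center (generalizedFittingSubgroup G)).Normal).eq_bot_or_eq_top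
    with h | h
  · have : (⟨c, H52.centralizer_fstar_le hc⟩ : generalizedFittingSubgroup G) ∈ center _ :=
      mem_center_iff.2 fun g => Subtype.ext (hc g g.2)
    rw [h, mem_bot] at this
    exact congrArg Subtype.val this
  · exact (hn ⟨⟨fun a b => mem_center_iff.1 (h ▸ mem_top b) a⟩⟩).elim

end Cfsg.Agent.H89.S93Phi
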