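import Cfsg.Agent.H53.FMDefs
import Cfsg.Agent.H85.FPDih

/-! Project FPM, piece M6: the subgroup `Y` serves for the extension of `G` by `O₂(A)`. -/

set_option autoImplicit false

namespace Cfsg.Agent.H89.FMU

open Subgroup Cfsg Cfsg.Agent.H83 Cfsg.Agent.H85.FP Cfsg.Agent.FPK
open Cfsg.Agent.H53.OC (factTwo)
open Cfsg.Agent.H63 (quo coset cosetpre)
open scoped commutatorElement

universe u

variable {Γ : Type u} [Group Γ] [Finite Γ] {A S Y O H K : Subgroup Γ}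

omit [Finite Γ] in
theorem pi_iff : IsPiSubgroup {2}ᶜ O ↔ Odd (Nat.card O) :=
  (H67.isPi_compl_singleton_iff_coprime Nat.prime_two).trans odd_iff_cop.symm

theorem fr (hY : IsPGroup 2 Y) (YH : Y ≤ H) (hO : Odd (Nat.card O))
    (HO : H ≤ normalizer (O : Set Γ)) (h : H ≤ normalizer ((Y ⊔ O : Subgroup Γ) : Set Γ)) :
    OFac H Y := by
  have k := pi_iff.1 (H67.isPi_of_le (pi_iff.2 hO) (inf_le_left : O ⊓ H ≤ O))
  have k2 := le_norm_inf HO (le_normalizer (H := H))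
  refine ⟨O ⊓ H, inf_le_right, k2, k, fun n hn => frattini_odd hY k (YH.trans k2) ?_⟩
  rw [← dedekind (YH.trans HO) YH]
  exact le_norm_inf h le_normalizer hn

omit [Finite Γ] in
theorem nrm (HO : H ≤ normalizer (O : Set Γ))
    (h : ∀ n ∈ H, ∃ o ∈ O, o⁻¹ * n ∈ normalizer (Y : Set Γ)) :
    H ≤ normalizer ((Y ⊔ O : Subgroup Γ) : Set Γ) := fun n hn => by
  obtain ⟨o, h1, h2⟩ := h n hn
  rw [← mul_inv_cancel_left o n]
  exact mul_mem (le_norm_of_le le_sup_right h1) (normalizer_inf_normalizer_le_normalizer_sup _ _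
    ⟨h2, Subgroup.mul_mem _ (Subgroup.inv_mem _ (le_normalizer h1)) (HO hn)⟩)

omit [Finite Γ] in
theorem ch (h : OFac H Y) : H ≤ normalizer ((Y ⊔ piCoreOf {2}ᶜ H : Subgroup Γ) : Set Γ) := by
  obtain ⟨O, h1, h2, h3, h4⟩ := h
  exact nrm (H67.piCoreOf_normalIn _ H).2 fun n hn => (h4 n hn).imp fun o k =>
    ⟨H67.le_piCoreOf ⟨h1, h2⟩ (pi_iff.2 h3) k.1, k.2⟩

theorem fin (hY : IsPGroup 2 Y) (h : H ≤ normalizer ((Y ⊔ piCoreOf {2}ᶜ H : Subgroup Γ) : Set Γ))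
    (AH : A ≤ normalizer (H : Set Γ)) (AY : A ≤ normalizer (Y : Set Γ)) (YK : Y ≤ K)
    (KH : K ≤ A ⊔ H) : OFac K Y :=
  have k := H67.le_normalizer_piCoreOf (π := {2}ᶜ) AH
  fr hY YK (pi_iff.1 (H67.isPi_piCoreOf _ H)) (KH.trans (sup_le k (H67.piCoreOf_normalIn _ H).2))
    (KH.trans (sup_le (le_norm_sup AY k) h))

/-- A solvable invariant overgroup of `S` normalizes `Y` modulo its core. -/
theorem solv {G : Subgroup Γ} (hS : IsSylowIn 2 S G) (AS : A ≤ normalizer (S : Set Γ))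
    (hy : YD G A S Y) (SH : S ≤ H) (HG : H ≤ G) (AH : A ≤ normalizer (H : Set Γ))
    (hs : Group.IsSolvable H) : H ≤ normalizer ((Y ⊔ piCoreOf {2}ᶜ H : Subgroup Γ) : Set Γ) := by
  have o0 := H63.piCoreOf_quo_self {2}ᶜ H
  have o1 := H67.piCoreOf_normalIn {2}ᶜ H
  have o2 := H67.le_normalizer_piCoreOf (π := {2}ᶜ) AH
  have o3 := H67.isPi_piCoreOf {2}ᶜ H
  have o4 : ∀ N : Subgroup Γ, N ≤ H → H ≤ normalizer (N : Set Γ) → IsPiSubgroup {2}ᶜ N →
    N ≤ piCoreOf {2}ᶜ H := fun N a b c => H67.le_piCoreOf ⟨a, b⟩ c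
  generalize piCoreOf {2}ᶜ H = O at o0 o1 o2 o3 o4
  have hch : CharP 2 (quo H O) := by
    have := H3.charP'_of_solvable (p := 2) (H63.quo_isSolvable O hs) o0
    rwa [H3.CharP', ← H67.map_pCore_subtype Nat.prime_two] at this
  set L := cosetpre O (pCoreOf 2 (quo H O)) with hL
  have LH : L ≤ H := (H63.cosetpre_le_iff o1).2 (pCoreOf_le _)
  have HL : H ≤ normalizer (L : Set Γ) := H63.le_norm_cosetpre o1.2 (le_norm_pCoreOf _)
  have AL : A ≤ normalizer (L : Set Γ) :=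
    H63.le_norm_cosetpre o2 (norm_pCoreOf (H63.quo_norms O AH))
  have syl := (hS.mono SH HG).inf_normal LH HL
  have l1 : L = S ⊓ L ⊔ O := by
    refine le_antisymm ?_ (sup_le inf_le_right (H63.le_cosetpre _))
    rw [sup_comm]
    refine syl.le_sup_of_pMod (LH.trans o1.2) fun x hx => ?_
    obtain ⟨k, hk⟩ := isPGroup_iff.1 (pCoreOf_isPGroup _) _ (H63.mem_cosetpre.1 hx).2
    exact ⟨k, (H63.coset_eq_one_iff (o1.2 (LH (pow_mem hx _)))).1
      (by rw [H63.coset_pow (o1.2 (LH hx)), hk])⟩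
  have Q0 : S ⊓ L ≠ ⊥ := fun e => by
    rw [e, bot_sup_eq] at l1
    have k : pCoreOf 2 (quo H O) = ⊥ := by
      rw [← H63.cosetpre_quo (pCoreOf 2 (quo H O)), ← hL, l1, H63.quo_self]
    have k2 : H ≤ O := (H63.quo_eq_bot_iff o1.2).1 (eq_bot_iff.2 fun x hx => k ▸ hch ⟨hx, by
      rw [k]; intro y hy; rw [mem_bot.1 hy, one_mul, mul_one]⟩)
    exact hy.ne (eq_bot_iff.2 fun x hx => mem_bot.2 (eq_one_of_mem_pgroup hS.isPGroup (hy.le hx)
      (coprime_orderOf_of_mem (odd_iff_cop.1 (pi_iff.1 o3)) (k2 (SH (hy.le hx))))))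
  have SQ := le_norm_inf (le_normalizer (H := S)) (SH.trans HL)
  obtain ⟨O₁, a1, a2, a3, a4⟩ := hy.loc (S ⊓ L) inf_le_left Q0 SQ (le_norm_inf AS AL)
  have NG : H ⊓ normalizer ((S ⊓ L : Subgroup Γ) : Set Γ) ≤ _ := inf_le_inf_right _ HG
  obtain ⟨O₂, b1, b2, b3, b4⟩ := fr (EA_isPGroup hy.ea) (hy.le.trans (le_inf SH SQ)) a3
    (NG.trans a2) (NG.trans (nrm a2 a4))
  have fra : ∀ n ∈ H, ∃ o ∈ O, o⁻¹ * n ∈ H ⊓ normalizer ((S ⊓ L : Subgroup Γ) : Set Γ) :=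
    fun n hn => (frattini_odd syl.isPGroup (pi_iff.1 o3) (inf_le_right.trans (LH.trans o1.2))
      (l1 ▸ HL hn)).imp fun o k => ⟨k.1, H.mul_mem (H.inv_mem (o1.1 k.1)) hn, k.2⟩
  have b5 : O₂ ≤ O := le_sup_left.trans (o4 (O₂ ⊔ O) (sup_le (b1.trans inf_le_left) o1.1)
    (nrm o1.2 fun n hn => (fra n hn).imp fun o k => ⟨k.1, b2 k.2⟩)
    (H67.isPi_sup (pi_iff.2 b3) o3 (Or.inl (b1.trans (inf_le_left.trans o1.2)))))
  refine nrm o1.2 fun n hn => ?_
  obtain ⟨o, k1, k2⟩ := fra n hn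
  obtain ⟨o', k3, k4⟩ := b4 _ k2
  exact ⟨o * o', mul_mem k1 (b5 k3), by rwa [mul_inv_rev, mul_assoc]⟩

theorem up : H53.FM.UpStmt.{u} := by
  intro Γ _ _ G A S Y e hS AS hy AY
  obtain ⟨T, hT⟩ := exists_isSylowIn 2 A
  have BT : resOf 2 A ≤ centralizer (T : Set Γ) := resOf_le_iff.2 fun x hx ho y hy =>
    H53.OpK.dec_of_nilpotent e.nil y (hT.le hy) x hx (isPGroup_iff.1 hT.isPGroup y hy)
      (odd_iff_cop.2 ho)
  have AT := hT.resOf_sup
  rw [← hT.eq_pCoreOf (AT.ge.trans (sup_le (le_norm_of_le_cent BT) le_normalizer))]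
  generalize resOf 2 A = B at BT AT
  have BA : B ≤ A := le_sup_left.trans AT.le
  have TG := hT.le.trans e.AG
  have TS := hT.le.trans AS
  have SG : (S ⊔ T) ⊓ G = S := hS.max _ inf_le_right
    (sup_comm T S ▸ isPGroup_sup hT.isPGroup hS.isPGroup TS).to_inf_left (le_inf le_sup_left hS.le)
  have dec : ∀ X : Subgroup Γ, T ≤ X → (G ⊔ T) ⊓ X ≤ A ⊔ G ⊓ X := fun X h => by
    rw [sup_comm G, dedekind TG h]
    exact sup_le_sup_right hT.le _
  have Y2 := EA_isPGroup hy.ea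
  refine ⟨hy.le.trans le_sup_left, hy.ne, hy.ea, (dec _ (le_norm_of_le le_sup_right)).trans
    (sup_le AY (le_trans (le_inf inf_le_left ?_) hy.nS)), fun U h1 h2 h3 h4 => ?_⟩
  · conv_rhs => rw [← SG]
    exact le_norm_inf inf_le_right (le_norm_of_le inf_le_left)
  have SU := le_sup_left.trans h3
  have TU := le_sup_right.trans h3
  have AU : A ≤ normalizer (U : Set Γ) := AT.ge.trans (sup_le h4 TU)
  have YK : Y ≤ (G ⊔ T) ⊓ normalizer (U : Set Γ) :=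
    hy.le.trans (le_inf (hS.le.trans le_sup_left) SU)
  by_cases h0 : U ⊓ G = ⊥
  · have AH := le_norm_inf e.AG (le_norm_norm AU)
    refine fin Y2 (solv hS AS hy (le_inf hS.le SU) inf_le_left AH
      (e.sol _ (lt_of_le_of_ne inf_le_left fun k => h2 ?_) AH)) AH AY YK (dec _ TU)
    have SB : S ⊓ centralizer (B : Set Γ) = ⊥ := by_contra fun k2 =>
      inf_centralizer_ne_bot hS.isPGroup.to_inf_left hT.isPGroup (le_norm_inf TS
        (le_norm_cent (le_norm_of_le_cent (le_centralizer_iff.1 BT)))) k2 (eq_bot_iff.2 (by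
          rw [← e.fpf, ← AT, H83.centralizer_sup, inf_assoc]
          exact inf_le_inf_right _ hS.le))
    have UG : U ≤ normalizer (G : Set Γ) := h1.trans (sup_le (le_norm_of_le hS.le) TG)
    refine eq_bot_iff.2 fun x hx => ?_
    obtain ⟨s, hs, t, ht, rfl⟩ := (mem_sup_left_norm TS).1 (h1 hx)
    have k3 : s ∈ centralizer (B : Set Γ) := fun b hb => by
      have k4 := BT hb t ht
      have k5 : b * (s * t) * b⁻¹ * (s * t)⁻¹ ∈ U ⊓ G := ⟨U.mul_mem (conj_mem h4 hb hx) (U.inv_mem hx), by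
        rw [show b * (s * t) * b⁻¹ * (s * t)⁻¹ = b * s * b⁻¹ * (b * t * (t * b)⁻¹ * t * b * b⁻¹ *
          t⁻¹) * s⁻¹ by group, k4]
        simpa using mul_mem (conj_mem (BA.trans e.AG) hb (hS.le hs)) (inv_mem (hS.le hs))⟩
      rw [h0, mem_bot, mul_inv_eq_one, mul_inv_eq_iff_eq_mul, mul_assoc, k4] at k5
      exact mul_right_cancel (b := t) (by simpa only [mul_assoc] using k5)
    rw [mem_bot.1 (SB.le ⟨hs, k3⟩), one_mul] at hx ⊢
    refine e.faith.le ⟨hT.le ht, fun g hg => ?_⟩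
    have k5 : g * t * g⁻¹ * t⁻¹ ∈ U ⊓ G := ⟨U.mul_mem (conj_mem (k.ge.trans inf_le_right) hg hx)
      (U.inv_mem hx), by
        rw [mul_assoc, mul_assoc, ← mul_assoc t]
        exact mul_mem hg (conj_mem TG ht (inv_mem hg))⟩
    rwa [h0, mem_bot, mul_inv_eq_one, mul_inv_eq_iff_eq_mul] at k5
  · have AU0 := le_norm_inf AU e.AG
    exact fin Y2 (ch (hy.loc (U ⊓ G) ((inf_le_inf_right G h1).trans SG.le) h0
      (le_norm_inf SU (le_norm_of_le hS.le)) AU0)) (le_norm_inf e.AG (le_norm_norm AU0)) AY YK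
      ((dec _ TU).trans (sup_le_sup_left (le_inf inf_le_left
        (le_norm_inf inf_le_right (le_norm_of_le inf_le_left))) _))

end Cfsg.Agent.H89.FMU
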