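import Cfsg.Agent.H93.LT4Defs
import Cfsg.Agent.H44.HeM
import Cfsg.Agent.H44.Glue
import Cfsg.Agent.H95.AutAlt
import Cfsg.Agent.H5.Sp4Syl
import Cfsg.Agent.S1754

/-! The Sylow `3`-subgroups of the Held group are not abelian; `A₇` is not standard in it. -/

set_option autoImplicit false
set_option maxRecDepth 100000

namespace Cfsg.Agent.H89.He3

open Subgroup Equiv Cfsg.Agent.H43 Cfsg.Agent.H44 Cfsg.Agent.H85 Cfsg.Agent.H93.LT

universe u

theorem pz {G : Type*} [Group G] {p k : ℕ} {x : G} (e : x ^ p ^ k = 1) : IsPGroup p (zpowers x) :=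
  fun y => ⟨k, by
    obtain ⟨_, n, rfl⟩ := y
    refine Subtype.ext (show (x ^ n) ^ p ^ k = 1 from ?_)
    rw [← zpow_natCast, ← zpow_mul, mul_comm, zpow_mul, zpow_natCast, e, one_zpow]⟩

theorem heis {G : Type*} [Group G] [Finite G] {g h k : G} (hg : g ^ 3 = 1) (hh : h ^ 3 = 1)
    (hk : k ^ 3 = 1) (c1 : Commute g k) (c2 : Commute h k) (e : h * g * h⁻¹ = k⁻¹ * g) (k1 : k ≠ 1)
    (P : Sylow 3 G) : ¬ IsMulCommutative (P : Subgroup G) := fun hP => by
  have : Fact (Nat.Prime 3) := ⟨by norm_num⟩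
  have h0 : zpowers k ⊔ zpowers g ≤ comap (MulAut.conj h).toMonoidHom (zpowers k ⊔ zpowers g) := by
    refine sup_le (zpowers_le_of_mem (show h * k * h⁻¹ ∈ zpowers k ⊔ zpowers g from ?_))
      (zpowers_le_of_mem (show h * g * h⁻¹ ∈ zpowers k ⊔ zpowers g from ?_))
    · rw [c2.eq, mul_inv_cancel_right]
      exact mem_sup_left (mem_zpowers k)
    · exact e ▸ mul_mem (inv_mem (mem_sup_left (mem_zpowers k))) (mem_sup_right (mem_zpowers g))
  obtain ⟨Q, hQ⟩ := (((pz (p := 3) (k := 1) hk).to_sup_of_normal_left' (pz (k := 1) hg) (zpowers_le_of_mem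
    (centralizer_le_normalizer _ (by
      rintro _ ⟨n, rfl⟩
      exact (c1.symm.zpow_left n).eq)))).to_sup_of_normal_left' (pz (k := 1) hh)
    (zpowers_le_of_mem (mem_normalizer_fintype fun n hn => h0 hn))).exists_le_sylow
  have := congrArg (fun x => (((P.equiv Q) x : Q) : G)) (mul_comm' ((P.equiv Q).symm
    ⟨h, hQ (mem_sup_right (mem_zpowers h))⟩)
    ((P.equiv Q).symm ⟨g, hQ (mem_sup_left (mem_sup_right (mem_zpowers g)))⟩))
  simp only [map_mul, MulEquiv.apply_symm_apply, coe_mul] at this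
  rw [this, mul_inv_cancel_right, eq_inv_mul_iff_mul_eq, mul_eq_right] at e
  exact k1 e

/-- words: two elements of order three -/
def W : List (List ℕ) := [[], [4, 6], [5, 4, 6, 3, 4, 2, 3, 4, 5, 3, 2, 4, 3, 6, 4, 5]]

/-- the relators -/
def R : List (List ℕ) := [[1, 1, 1], [2, 2, 2],
  [1, 2, 1, 1, 2, 2, 1, 2, 1, 1, 2, 2, 1, 2, 1, 1, 2, 2],
  [1, 1, 2, 1, 1, 2, 2, 1, 1, 2, 1, 2, 2, 1, 1], [2, 1, 2, 1, 1, 2, 2, 2, 2, 2, 1, 2, 2, 1, 1]]

theorem eqns : True := by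
  have := @W.eq_1
  have := @R.eq_1
  trivial

theorem sat : Sat (wt He.gm W) R :=
  Gl.sat_wt (HeM.model.sat HeM.inj (by decide +kernel)
    (sat_of_satB (k := 12) (L := lab 2058 12) HeM.m_hn (det_lab HeM.m_hk _) HeM.E_ok le_rfl
      (by decide +kernel)))

theorem ne : ev (wt He.gm W) [1, 2, 1, 1, 2, 2] ≠ 1 := by
  rw [Gl.ev_wt]
  exact Gl.ne_one HeM.model (a := 9) (b := 589) (by decide +kernel) (by decide) (by decide)
    (by decide) (by decide +kernel)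

theorem he3 : He3Stmt := by
  have := HeM.finite
  have h1 := sat [1, 1, 1] (by decide)
  have h2 := sat [2, 2, 2] (by decide)
  have h3 := sat [1, 2, 1, 1, 2, 2, 1, 2, 1, 1, 2, 2, 1, 2, 1, 1, 2, 2] (by decide)
  have h4 := sat [1, 1, 2, 1, 1, 2, 2, 1, 1, 2, 1, 2, 2, 1, 1] (by decide)
  have h5 := sat [2, 1, 2, 1, 1, 2, 2, 2, 2, 2, 1, 2, 2, 1, 1] (by decide)
  have h6 := ne
  generalize wt He.gm W = h at *
  simp only [ev_cons, ev_nil, mul_one] at h1 h2 h3 h4 h5 h6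
  have j1 := (eq_inv_of_mul_eq_one_right h1).symm
  have j2 := (eq_inv_of_mul_eq_one_right h2).symm
  have k1 : ∀ x, h 1 * (h 1 * (h 1 * x)) = x := fun x => by
    rw [← mul_assoc _ _ x, ← mul_assoc _ _ x, h1, one_mul]
  have k2 : ∀ x, h 2 * (h 2 * (h 2 * x)) = x := fun x => by
    rw [← mul_assoc _ _ x, ← mul_assoc _ _ x, h2, one_mul]
  refine heis (g := h 1) (h := h 2) (k := h 1 * (h 2 * (h 1 * (h 1 * (h 2 * h 2)))))
    (by simpa only [pow_succ', pow_zero, mul_one] using h1)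
    (by simpa only [pow_succ', pow_zero, mul_one] using h2)
    (by simpa only [pow_succ', pow_zero, mul_one, mul_assoc] using h3) ?_ ?_ ?_ h6
  · rw [← commutatorElement_eq_one_iff_commute, commutatorElement_def]
    simp only [mul_inv_rev, j1, j2, mul_assoc, k1, k2] at h4 ⊢
    exact h4
  · rw [← commutatorElement_eq_one_iff_commute, commutatorElement_def]
    simp only [mul_inv_rev, j1, j2, mul_assoc, k1, k2] at h5 ⊢
    exact h5
  · simp only [mul_inv_rev, j1, j2, mul_assoc, k2, h1, mul_one]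

/-- `(0 1 2)` -/
def p1 : A7 := ⟨c[0, 1, 2], Perm.mem_alternatingGroup.2 (by decide)⟩
/-- `(3 4 5)` -/
def p2 : A7 := ⟨c[3, 4, 5], Perm.mem_alternatingGroup.2 (by decide)⟩

theorem c12 : Commute p1 p2 := show p1 * p2 = p2 * p1 by decide

theorem cen {σ : Perm (Fin 7)} (h1 : σ * p1 * σ⁻¹ = p1) (h2 : σ * p2 * σ⁻¹ = p2) : σ ^ 3 = 1 := by
  have a1 : ∀ x, σ (p1.1 x) = p1.1 (σ x) := fun x => congrFun (congrArg DFunLike.coe
    (mul_inv_eq_iff_eq_mul.1 h1)) x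
  have a2 : ∀ x, σ (p2.1 x) = p2.1 (σ x) := fun x => congrFun (congrArg DFunLike.coe
    (mul_inv_eq_iff_eq_mul.1 h2)) x
  have e1 : σ 1 = p1.1 (σ 0) := a1 0
  have e2 : σ 2 = p1.1 (σ 1) := a1 1
  have e4 : σ 4 = p2.1 (σ 3) := a2 3
  have e5 : σ 5 = p2.1 (σ 4) := a2 4
  have e6 : σ 6 = 6 := (by decide : ∀ x, x = p1.1 x → x = p2.1 x → x = 6) _ (a1 6) (a2 6)
  have e0 := (by decide : ∀ x, p1.1 x ≠ x → x = 0 ∨ x = 1 ∨ x = 2) (σ 0)
    fun e => absurd (σ.injective (e1.trans e)) (by decide)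
  have e3 := (by decide : ∀ x, p2.1 x ≠ x → x = 3 ∨ x = 4 ∨ x = 5) (σ 3)
    fun e => absurd (σ.injective (e4.trans e)) (by decide)
  have key : ∀ τ : Perm (Fin 7), τ * p1.1 = p1.1 * τ → τ * p2.1 = p2.1 * τ → τ 0 = σ 0 →
      τ 3 = σ 3 → τ 6 = 6 → σ = τ := fun τ b1 b2 c0 c3 c6 => by
    have b1 : ∀ x, τ (p1.1 x) = p1.1 (τ x) := fun x => congrFun (congrArg DFunLike.coe b1) x
    have b2 : ∀ x, τ (p2.1 x) = p2.1 (τ x) := fun x => congrFun (congrArg DFunLike.coe b2) x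
    have c1 : τ 1 = σ 1 := (b1 0).trans (c0 ▸ e1.symm)
    have c4 : τ 4 = σ 4 := (b2 3).trans (c3 ▸ e4.symm)
    ext x
    fin_cases x
    exacts [congrArg _ c0.symm, congrArg _ c1.symm, congrArg _ (e2.trans (c1 ▸ (b1 1).symm)),
      congrArg _ c3.symm, congrArg _ c4.symm, congrArg _ (e5.trans (c4 ▸ (b2 4).symm)),
      congrArg _ (e6.trans c6.symm)]
  obtain ⟨i, hi⟩ : ∃ i : Fin 3, (p1.1 ^ i.1) 0 = σ 0 := by
    rcases e0 with e | e | e <;> rw [e] <;> decide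
  obtain ⟨j, hj⟩ : ∃ j : Fin 3, (p2.1 ^ j.1) 3 = σ 3 := by
    rcases e3 with e | e | e <;> rw [e] <;> decide
  obtain ⟨b1, b2, b3, b4, b5, b6⟩ := (by decide : ∀ i j : Fin 3,
    p1.1 ^ i.1 * p2.1 ^ j.1 * p1.1 = p1.1 * (p1.1 ^ i.1 * p2.1 ^ j.1) ∧
    p1.1 ^ i.1 * p2.1 ^ j.1 * p2.1 = p2.1 * (p1.1 ^ i.1 * p2.1 ^ j.1) ∧
    (p1.1 ^ i.1 * p2.1 ^ j.1) 0 = (p1.1 ^ i.1) 0 ∧ (p1.1 ^ i.1 * p2.1 ^ j.1) 3 = (p2.1 ^ j.1) 3 ∧
    (p1.1 ^ i.1 * p2.1 ^ j.1) 6 = 6 ∧ (p1.1 ^ i.1 * p2.1 ^ j.1) ^ 3 = 1) i j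
  rwa [key _ b1 b2 (b3.trans hi) (b4.trans hj) b5]

/-- a Sylow `3`-subgroup of `A₇` -/
def Pa : Subgroup A7 := zpowers p1 ⊔ zpowers p2

theorem card_Pa : Nat.card Pa = 3 ^ 2 := by
  have : Fact (Nat.Prime 3) := ⟨by norm_num⟩
  have o : orderOf p1 = 3 := orderOf_eq_prime (by decide) (by decide)
  refine H5.card_sup_zpowers (k := 1) (by rw [Nat.card_zpowers, o, pow_one]) ?_ (by decide) fun e => ?_
  · rintro _ ⟨n, rfl⟩
    rw [commutatorElement_eq_one_iff_commute.2 (c12.zpow_left n)]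
    exact one_mem _
  · obtain ⟨k, hk, e⟩ := Finset.mem_image.1 (mem_zpowers_iff_mem_range_orderOf.1 e)
    rw [o, Finset.mem_range] at hk
    exact (by decide : ∀ k < 3, p1 ^ k ≠ p2) k hk e

theorem Pa_cen {g : A7} (h1 : Commute g p1) (h2 : Commute g p2) : ∀ x ∈ Pa, Commute g x :=
  fun _ hx => mem_centralizer_singleton_iff.1 ((sup_le
    (zpowers_le_of_mem (mem_centralizer_singleton_iff.2 h1.symm))
    (zpowers_le_of_mem (mem_centralizer_singleton_iff.2 h2.symm)) : Pa ≤ centralizer {g}) hx) |>.symm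

theorem Pa_comm {x y : A7} (hx : x ∈ Pa) (hy : y ∈ Pa) : Commute x y :=
  Pa_cen (Pa_cen (Commute.refl _) c12 x hx).symm (Pa_cen c12.symm (Commute.refl _) x hx).symm y hy

theorem mem_Pa {σ : Perm (Fin 7)} (h : ∀ x ∈ Pa.map (alternatingGroup _).subtype,
    σ * x * σ⁻¹ ∈ Pa.map (alternatingGroup _).subtype) (h9 : σ ^ 3 ^ 2 = 1) :
    σ ∈ Pa.map (alternatingGroup _).subtype := by
  have h1 : Nat.card (Pa.map (alternatingGroup _).subtype) = 3 ^ 2 :=
    (card_map_of_injective (subtype_injective _)).trans card_Pa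
  have h2 := (Pa.map (alternatingGroup _).subtype).card_mul_index
  rw [h1, Nat.card_perm, Nat.card_fin] at h2
  exact (isSyl_of_not_dvd_relIndex le_top (IsPGroup.of_card h1) (by
    rw [relIndex_top_right]; simp [Nat.factorial] at h2; omega)).ge_of_le_normalizer' (pz h9) le_top
    (zpowers_le_of_mem (mem_normalizer_fintype h)) (mem_zpowers σ)

theorem comm_of_norm {G : Type*} [Group G] [Finite G] {t u : G} (ht : orderOf t = 2)
    (hu : u ∈ normalizer (zpowers t : Set G)) : u ∈ centralizer ({t} : Set G) := by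
  classical
  obtain ⟨k, hk, e⟩ := Finset.mem_image.1 (mem_zpowers_iff_mem_range_orderOf.1
    ((mem_normalizer_iff.1 hu t).1 (mem_zpowers t)))
  rw [ht, Finset.mem_range] at hk
  interval_cases k
  · rw [pow_zero, eq_comm, conj_eq_one_iff] at e
    simp [e] at ht
  · exact mem_centralizer_singleton_iff.2 (mul_inv_eq_iff_eq_mul.1 ((pow_one t).symm.trans e).symm)

variable {G : Type u} [Group G] {A : Subgroup G}

/-- the embedding of `A₇` -/
abbrev em (e : A ≃* A7) : A7 →* G := A.subtype.comp e.symm.toMonoidHom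

theorem em_inj (e : A ≃* A7) : Function.Injective (em e) :=
  (subtype_injective _).comp e.symm.injective

theorem act (e : A ≃* A7) {n : G} (hn : n ∈ normalizer (A : Set G)) : ∃ σ : Perm (Fin 7),
    ∀ (k : ℕ) (g g' : A7), n ^ k * em e g * (n ^ k)⁻¹ = em e g' ↔ σ ^ k * g * (σ ^ k)⁻¹ = g' := by
  obtain ⟨σ, hσ⟩ := H95.AutAlt.exists_conj (α := Fin 7) (by simp) (by simp)
    (MulAut.congr e (A.normalizerMonoidHom ⟨n, hn⟩))
  have h1 : ∀ g, em e (MulAut.congr e (A.normalizerMonoidHom ⟨n, hn⟩) g) = n * em e g * n⁻¹ :=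
    fun g => by simp [em]
  generalize MulAut.congr e (A.normalizerMonoidHom ⟨n, hn⟩) = ψ at hσ h1
  have h2 : ∀ (k : ℕ) g, n ^ k * em e g * (n ^ k)⁻¹ = em e ((ψ ^ k) g) ∧
      σ ^ k * g * (σ ^ k)⁻¹ = (ψ ^ k) g := fun k g => by
    induction k with
    | zero => simp
    | succ k ih =>
      rw [pow_succ' ψ, MulAut.mul_apply, h1, hσ, ← ih.1, ← ih.2]
      constructor <;> group
  refine ⟨σ, fun k g g' => ?_⟩
  rw [(h2 k g).1, (h2 k g).2, (em_inj e).eq_iff, Subtype.coe_inj]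

theorem m1 : p1 ∈ Pa := mem_sup_left (mem_zpowers _)
theorem m2 : p2 ∈ Pa := mem_sup_right (mem_zpowers _)

theorem cube (e : A ≃* A7) {u : G} (hn : u ∈ normalizer (A : Set G))
    (hu : u ∈ centralizer (Pa.map (em e) : Set G)) : u ^ 3 ∈ centralizer (A : Set G) := by
  obtain ⟨σ, h⟩ := act e hn
  have h1 : ∀ g ∈ Pa, σ * g * σ⁻¹ = g := fun g hg => by
    simpa only [pow_one] using (h 1 g g).1 (by
      rw [pow_one, ← hu _ (mem_map_of_mem _ hg), mul_inv_cancel_right])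
  intro a ha
  have := (h 3 (e ⟨a, ha⟩) _).2 (by rw [cen (h1 _ m1) (h1 _ m2), one_mul, inv_one, mul_one])
  rw [mul_inv_eq_iff_eq_mul, eq_comm] at this
  simpa [em] using this

theorem fin (e : A ≃* A7) {n : G} (hn : n ∈ normalizer (A : Set G))
    (h1 : ∀ x ∈ Pa.map (em e), n * x * n⁻¹ ∈ Pa.map (em e))
    (h3 : ∀ x ∈ Pa.map (em e), n ^ 3 * x * (n ^ 3)⁻¹ = x) :
    ∀ x ∈ Pa.map (em e), n * x * n⁻¹ = x := by
  obtain ⟨σ, h⟩ := act e hn
  obtain ⟨s, hs, rfl⟩ := mem_Pa (σ := σ) (by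
    rintro _ ⟨g, hg, rfl⟩
    obtain ⟨g', hg', e'⟩ := h1 _ (mem_map_of_mem _ hg)
    have := (h 1 g g').1 (by rw [pow_one, e'])
    rw [pow_one] at this
    exact ⟨g', hg', this.symm⟩) (by
    rw [sq, pow_mul]
    exact cen ((h 3 _ _).1 (h3 _ (mem_map_of_mem _ m1))) ((h 3 _ _).1 (h3 _ (mem_map_of_mem _ m2))))
  rintro _ ⟨g, hg, rfl⟩
  simpa only [pow_one] using (h 1 g g).2 (by
    rw [pow_one, mul_inv_eq_iff_eq_mul]
    exact congrArg Subtype.val (Pa_comm hs hg).eq)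

theorem heZ (h3 : He3Stmt) : HeZStmt.{u} := by
  rintro G _ _ X A hAX hA ⟨e⟩ h4 ⟨f⟩
  have : Fact (Nat.Prime 3) := ⟨by norm_num⟩
  obtain ⟨⟨t, htA⟩, ht⟩ := exists_prime_orderOf_dvd_card' 2 (even_iff_two_dvd.1 hA.2.1.1)
  rw [orderOf_mk] at ht
  have hN := (S1754.result A hA t ht htA).1
  have hPA : Pa.map (em e) ≤ A := by
    rintro _ ⟨g, -, rfl⟩
    exact (e.symm g).2
  have hP : Nat.card (Pa.map (em e)) = 3 ^ 2 := (card_map_of_injective (em_inj e)).trans card_Pa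
  have s2 : IsSyl 2 (zpowers t) (centralizer (Pa.map (em e) : Set G)) := by
    refine ⟨zpowers_le_of_mem (centralizer_le hPA htA),
      pz (k := 1) (by rw [pow_one, ← ht, pow_orderOf_eq_one]), fun Q hQ h1 h2 => ?_⟩
    by_contra hne
    have h5 := lt_inf_normalizer_of_lt hQ (lt_of_le_of_ne h1 (Ne.symm hne))
    have h6 : Q ⊓ normalizer (zpowers t : Set G) ≤ centralizer (A : Set G) := fun u hu => by
      obtain ⟨k, hk⟩ := IsPGroup.iff_orderOf.1 hQ ⟨u, hu.1⟩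
      rw [orderOf_mk] at hk
      exact mem_of_pow_mem_of_coprime (n := 3) (hk ▸ Nat.Coprime.pow_left k (by norm_num))
        (cube e (hN (comm_of_norm ht hu.2)) (h2 hu.1))
    obtain ⟨k, hk⟩ := IsPGroup.iff_card.1 (hQ.to_inf_left (K := normalizer (zpowers t : Set G)))
    have h7 := Set.Finite.card_lt_card (Set.toFinite _) (SetLike.coe_ssubset_coe.2 h5)
    rw [SetLike.coe_sort_coe, SetLike.coe_sort_coe, Nat.card_zpowers, ht, hk] at h7
    refine h4 (dvd_trans ?_ (card_dvd_of_le h6))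
    rw [hk]
    exact pow_dvd_pow 2 (show 2 ≤ k from (Nat.pow_lt_pow_iff_right (a := 2) (n := 1) one_lt_two).1 h7)
  obtain ⟨T, hT, hPT⟩ := exists_isSyl_ge (IsPGroup.of_card hP) (hPA.trans hAX)
  have hi : (Pa.map (em e)).relIndex T ∣ 3 := by
    obtain ⟨k, hk⟩ := IsPGroup.iff_card.1 hT.isPGroup
    have h1 := card_dvd_of_le hT.le
    rw [Nat.card_congr f.toEquiv, HeM.card, hk] at h1
    have h2 := (Nat.Coprime.pow_left k (by norm_num : Nat.Coprime 3 149273600)).dvd_of_dvd_mul_right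
      (m := 3 ^ 2 * 3) h1
    rw [← hk, ← ((Pa.map (em e)).subgroupOf T).card_mul_index,
      Nat.card_congr (subgroupOfEquivOfLe hPT).toEquiv, hP] at h2
    exact Nat.dvd_of_mul_dvd_mul_left (by norm_num) h2
  have hTN := H5.le_normalizer_of_relIndex_dvd hT.isPGroup hPT hi
  have := normal_subgroupOf_of_le_normalizer hTN
  have := HeM.finite
  refine h3 (hT.toSylow.mapSurjective (f := f.toMonoidHom) f.surjective) ?_
  have : IsCyclic (T ⧸ (Pa.map (em e)).subgroupOf T) := isCyclic_of_card_dvd_prime hi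
  suffices IsMulCommutative T by
    change IsMulCommutative ((T.subgroupOf X).map f.toMonoidHom)
    infer_instance
  refine (QuotientGroup.mk' ((Pa.map (em e)).subgroupOf T)).isMulCommutative_of_isCyclic_of_ker_le_center
    fun x hx => mem_center_iff.2 fun p => Subtype.ext ?_
  rw [QuotientGroup.ker_mk', mem_subgroupOf] at hx
  have hp := hTN p.2
  obtain ⟨c, hc, e1⟩ := s2.exists_cj_eq
    (s2.cj_of_mem_normalizer (normalizer_le_normalizer_centralizer _ hp))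
  have a1 : ∀ y ∈ Pa.map (em e), p * y * (p : G)⁻¹ ∈ Pa.map (em e) :=
    fun y => (mem_normalizer_iff.1 hp y).1
  have a2 : ∀ y ∈ Pa.map (em e), c⁻¹ * p * y * (c⁻¹ * p)⁻¹ = p * y * (p : G)⁻¹ := fun y hy => by
    rw [← inv_mul_cancel_left c (p * y * (p : G)⁻¹), ← hc _ (a1 y hy)]
    group
  have a3 : (p : G) ^ 3 ∈ Pa.map (em e) := by
    obtain ⟨m, hm⟩ := hi
    rw [hm, pow_mul]
    exact pow_mem (((Pa.map (em e)).subgroupOf T).pow_index_mem p) m
  have := fin e (n := c⁻¹ * p) (hN (comm_of_norm ht (cj_eq_iff_mem_normalizer.1 (by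
    rw [cj_mul, ← e1, cj_inv_cj])))) (fun y hy => a2 y hy ▸ a1 y hy) (fun y hy => by
      have b : ∀ q : G, q ^ 3 * y * (q ^ 3)⁻¹ = q * (q * (q * y * q⁻¹) * q⁻¹) * q⁻¹ :=
        fun q => by simp only [pow_three, mul_inv_rev, mul_assoc]
      rw [b, a2 _ hy, a2 _ (a1 _ hy), a2 _ (a1 _ (a1 _ hy)), ← b, mul_inv_eq_iff_eq_mul]
      obtain ⟨g, hg, e2⟩ := a3
      obtain ⟨g', hg', rfl⟩ := hy
      exact e2 ▸ ((Pa_comm hg hg').map (em e)).eq) x hx
  rwa [a2 _ hx, mul_inv_eq_iff_eq_mul] at this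

end Cfsg.Agent.H89.He3
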