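import Cfsg.Agent.H71.FSDefs

/-! Project FS2, piece G2: central reflections and fixed vectors. -/

set_option autoImplicit false

namespace Cfsg.Agent.H89.FS2

open Cfsg Subgroup H30 QuadraticMap Module H71.FS2

universe u

section Kit

variable {F V : Type u} [Field F] [AddCommGroup V] [Module F V] {Q : QuadraticForm F V}
  {X : Subgroup (O Q)} {T : Set V}

theorem gen_mem {x : O Q} (hx : x ∈ X) {t : V} (ht : t ∈ T) : x.1 t ∈ DD X T :=
  Submodule.subset_span ⟨x, hx, t, ht, rfl⟩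

theorem self_mem {t : V} (ht : t ∈ T) : t ∈ DD X T := gen_mem X.one_mem ht

theorem DD_mono {T' : Set V} (h : T ⊆ T') : DD X T ≤ DD X T' :=
  Submodule.span_mono fun _ ⟨x, hx, t, ht, e⟩ => ⟨x, hx, t, h ht, e⟩

theorem DD_ind {W : Submodule F V} (h : ∀ x ∈ X, ∀ t ∈ T, x.1 t ∈ W) : DD X T ≤ W :=
  Submodule.span_le.2 fun _ ⟨x, hx, t, ht, e⟩ => e ▸ h x hx t ht

theorem mem_insert {v u : V} (hv : v ∈ Fx X) (hu : u ∈ DD X (insert v T)) :
    ∃ d ∈ DD X T, ∃ c : F, u = d + c • v := by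
  have : DD X (insert v T) ≤ DD X T ⊔ F ∙ v := DD_ind fun x hx t ht => by
    rcases ht with rfl | ht
    · exact Submodule.mem_sup_right ((hv x hx).symm ▸ Submodule.mem_span_singleton_self t)
    · exact Submodule.mem_sup_left (gen_mem hx ht)
  obtain ⟨d, hd, _, h2, rfl⟩ := Submodule.mem_sup.1 (this hu)
  obtain ⟨c, rfl⟩ := Submodule.mem_span_singleton.1 h2
  exact ⟨d, hd, c, rfl⟩

theorem mem_single {v u : V} (hv : v ∈ Fx X) (hu : u ∈ DD X {v}) : ∃ c : F, u = c • v := by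
  have : DD X {v} ≤ F ∙ v := DD_ind fun x hx t ht => by
    rw [show t = v from ht, hv x hx]; exact Submodule.mem_span_singleton_self v
  exact (Submodule.mem_span_singleton.1 (this hu)).imp fun _ => Eq.symm

theorem X_DD {x : O Q} (hx : x ∈ X) {d : V} (hd : d ∈ DD X T) : x.1 d ∈ DD X T :=
  DD_ind (W := (DD X T).comap (x.1 : V →ₗ[F] V))
    (fun _ hy _ ht => gen_mem (X.mul_mem hx hy) ht) hd

theorem X_perp {x : O Q} (hx : x ∈ X) {d : V} (hd : d ∈ perp Q (DD X T)) : x.1 d ∈ perp Q (DD X T) :=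
  mem_perp'.2 fun w hw => by rw [O_polar_inv, mem_perp'.1 hd _ (X_DD (X.inv_mem hx) hw)]

variable {l : O Q × ℤˣ}

theorem Gam_DD (hl : l ∈ Gam X T) {d : V} (hd : d ∈ DD X T) : l.1.1 d ∈ DD X T :=
  DD_ind (W := (DD X T).comap (l.1.1 : V →ₗ[F] V)) (fun x hx t ht => by
    have := gen_mem (zpow_mem hx ((l.2 : ℤˣ) : ℤ)) ht
    rwa [← hl.1 x hx, O_mul_apply, O_mul_apply, O_inv_apply_eq.2 (hl.2 t ht).symm] at this) hd

theorem Gam_perp (hl : l ∈ Gam X T) {d : V} (hd : d ∈ perp Q (DD X T)) :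
    l.1.1 d ∈ perp Q (DD X T) :=
  mem_perp'.2 fun _ hw => (O_polar_inv ..).trans (mem_perp'.1 hd _ (Gam_DD (inv_mem hl) hw))

theorem Gam_Fx (hl : l ∈ Gam X T) {v : V} (hv : v ∈ Fx X) : l.1.1 v ∈ Fx X := fun x hx => by
  have := hv _ (zpow_mem hx ((l⁻¹.2 : ℤˣ) : ℤ))
  rw [← (inv_mem hl).1 x hx, O_mul_apply, O_mul_apply, Prod.fst_inv, inv_inv] at this
  exact O_inv_apply_eq.1 this

theorem polar_X {x : O Q} (hx : x ∈ X) {v : V} (hv : v ∈ Fx X) (u : V) :
    polar Q (x.1 u) v = polar Q u v := by rw [O_polar_inv, hv _ (X.inv_mem hx)]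

theorem sub_perp (hl : l ∈ Gam X T) {v : V} (hv : v ∈ Fx X) : l.1.1 v - v ∈ perp Q (DD X T) :=
  mem_perp_span.2 fun _ ⟨x, hx, t, ht, e⟩ => by
    rw [e, polar_X hx (sub_mem (Gam_Fx hl hv) hv), polar_sub_right, ← O_polar l.1 t v, hl.2 t ht,
      sub_self]

theorem scal {r : End F V} (hr : r ∈ RR X) : ∃ c : F, ∀ v ∈ Fx X, r v = c • v := by
  induction hr using Submodule.span_induction with
  | mem r hr =>
    obtain ⟨x, hx, rfl⟩ := hr
    exact ⟨1, fun v hv => (hv x hx).trans (one_smul F v).symm⟩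
  | zero => exact ⟨0, fun v _ => (zero_smul F v).symm⟩
  | add r s _ _ hr hs =>
    obtain ⟨c, hc⟩ := hr
    obtain ⟨d, hd⟩ := hs
    exact ⟨c + d, fun v hv => by rw [LinearMap.add_apply, hc v hv, hd v hv, add_smul]⟩
  | smul a r _ hr =>
    obtain ⟨c, hc⟩ := hr
    exact ⟨a * c, fun v hv => by rw [LinearMap.smul_apply, hc v hv, mul_smul]⟩

theorem RR_gen {x : O Q} (hx : x ∈ X) : (x.1 : V →ₗ[F] V) ∈ RR X :=
  Submodule.subset_span ⟨x, hx, rfl⟩

theorem Kl_eq {w : V} (hw : w ∈ Fx X) (h0 : w ≠ 0) : Kl X w = Fx X := by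
  ext y
  refine ⟨fun hy x hx => sub_eq_zero.1 (hy _ (sub_mem (RR_gen hx) (RR_gen X.one_mem))
    (sub_eq_zero.2 (hw x hx))), fun hy r hr e => ?_⟩
  obtain ⟨c, hc⟩ := scal hr
  rw [hc w hw] at e
  rw [hc y hy, (smul_eq_zero.1 e).resolve_right h0, zero_smul]

variable [CharP F 2]

theorem pself (v : V) : polar Q v v = 0 := by rw [polar_self', CharTwo.two_eq_zero, zero_mul]

theorem rad_fix (h : Base X T) (hl : l ∈ Gam X T) {d : V} (hd : d ∈ DD X T)
    (hd' : d ∈ perp Q (DD X T)) : l.1.1 d = d :=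
  sub_eq_zero.1 ((h.rad _ (sub_mem (Gam_DD hl hd) hd) (sub_mem (Gam_perp hl hd') hd')).2 (by
    rw [Q_sub, O_map, mem_perp.1 hd' _ (Gam_DD hl hd), CharTwo.add_self_eq_zero, sub_zero]))

theorem rad_one [Finite F] (h : Base X T) {w u : V} (hw : w ∈ DD X T) (hw' : w ∈ perp Q (DD X T))
    (h0 : w ≠ 0) (hu : u ∈ DD X T) (hu' : u ∈ perp Q (DD X T)) : ∃ c : F, u = c • w := by
  have h1 : Q w ≠ 0 := fun e => h0 ((h.rad w hw hw').2 e)
  obtain ⟨c, hc⟩ := FiniteField.isSquare_of_char_two (ringChar.eq F 2) (Q u / Q w)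
  refine ⟨c, sub_eq_zero.1 ((h.rad _ (sub_mem hu (Submodule.smul_mem _ c hw))
    (sub_mem hu' (Submodule.smul_mem _ c hw'))).2 ?_)⟩
  rw [Q_sub, Q_smul, ← hc, div_mul_cancel₀ _ h1, mem_perp.1 (Submodule.smul_mem _ c hw') _ hu,
    CharTwo.add_self_eq_zero, sub_zero]

/-- the projection onto the fixed space -/
theorem exists_av [Finite X] (hX : Odd (Nat.card X)) : ∃ e : V →ₗ[F] V, (∀ v, e v ∈ Fx X) ∧
    (∀ v ∈ Fx X, e v = v) ∧ (∀ u, ∀ v ∈ Fx X, polar Q (e u) v = polar Q u v) ∧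
    ∀ W : Submodule F V, (∀ x ∈ X, ∀ v ∈ W, x.1 v ∈ W) → ∀ v ∈ W, e v ∈ W := by
  have := Fintype.ofFinite X
  have h1 : (Fintype.card X : F) = 1 := by
    obtain ⟨k, hk⟩ := hX
    rw [← Nat.card_eq_fintype_card, hk]
    push_cast
    rw [CharTwo.two_eq_zero, zero_mul, zero_add]
  refine ⟨∑ x : X, (x.1.1 : V →ₗ[F] V), fun v x hx => ?_, fun v hv => ?_, fun u v hv => ?_,
    fun W hW v hv => ?_⟩ <;> rw [LinearMap.sum_apply]
  · rw [map_sum]
    exact Fintype.sum_equiv (Equiv.mulLeft ⟨x, hx⟩) _ _ fun _ => rfl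
  · refine (Finset.sum_congr rfl fun (x : X) _ => hv x.1 x.2).trans ?_
    rw [Finset.sum_const, Finset.card_univ, ← Nat.cast_smul_eq_nsmul F, h1, one_smul]
  · rw [← polarBilin_apply_apply, map_sum, LinearMap.sum_apply]
    refine (Finset.sum_congr rfl fun (x : X) _ => polar_X x.2 hv u).trans ?_
    rw [Finset.sum_const, Finset.card_univ, nsmul_eq_mul, h1, one_mul]
  · exact W.sum_mem fun x _ => hW x.1 x.2 v hv

end Kit

theorem finO {F V : Type u} [Field F] [Finite F] [AddCommGroup V] [Module F V]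
    [FiniteDimensional F V] (Q : QuadraticForm F V) : Finite (O Q) := by
  have := Module.finite_of_finite F (M := V)
  exact Finite.of_injective (fun g : O Q => (g.1 : V → V)) fun _ _ e => O_ext (congrFun e)

theorem exists_M {G : Type u} [Group G] {π : G →* ℤˣ} {L M : Subgroup G} (h : ∀ l, l ∈ M ↔ l ∈ L)
    (hL : NB π L) : NB π M := (Subgroup.ext h : M = L) ▸ hL

theorem refl_of (pb : PB.{u}) : REFL.{u} := by
  intro F V _ _ _ _ _ _ Q hQ X T v w h hv hw hw' hvw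
  have := finO Q
  have h0 : w ≠ 0 := fun e => hvw (by rw [e, polar_zero_right])
  obtain ⟨hF, hq⟩ := h.rad w hw hw'
  refine ⟨⟨h.comm, h.odd, fun u hu hu' => ?_⟩, lt_of_le_of_ne (DD_mono (Set.subset_insert _ _))
    fun e => hvw (mem_perp.1 hw' v (e ▸ self_mem (Set.mem_insert _ _))), fun M hM hL => ?_⟩
  · obtain ⟨d, hd, c, rfl⟩ := mem_insert hv hu
    have h1 := mem_perp'.1 hu' w (DD_mono (Set.subset_insert _ _) hw)
    rw [polar_add_left, mem_perp.1 hw' d hd, zero_add, polar_smul_left'] at h1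
    rw [(mul_eq_zero.1 h1).resolve_right hvw, zero_smul, add_zero] at hu' ⊢
    exact h.rad d hd (perp_anti (DD_mono (Set.subset_insert _ _)) hu')
  set ρ : O Q × ℤˣ := (refl Q w, 1)
  have ρρ : ρ * ρ = 1 := Prod.ext (refl_mul_self Q w) rfl
  have cm : ∀ g : O Q, g.1 w = w → Commute g (refl Q w) := fun g e =>
    mul_inv_eq_iff_eq_mul.1 (by rw [refl_conj, e])
  have ρG : ρ ∈ Gam X T := ⟨fun x hx => by
    rw [← (cm x (hF x hx)).eq, mul_inv_cancel_right]; simp [ρ],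
    fun t ht => refl_apply_of_orth (mem_perp.1 hw' t (self_mem ht))⟩
  have cm' : ∀ k ∈ M, Commute k ρ := fun k hk =>
    Prod.ext (cm k.1 (rad_fix h ((hM k).1 hk).1 hw hw')) (mul_comm _ _)
  have LM : Gam X (insert v T) ≤ M := fun l hl => (hM l).2 ⟨⟨hl.1, fun t ht => hl.2 t (.inr ht)⟩,
    by rw [hl.2 v (.inl rfl), sub_self]; exact zero_mem _⟩
  refine pb _ M (zpowers ρ) (Gam X (insert v T)) (zpowers_le_of_mem ⟨(hM ρ).2 ⟨ρG, ?_⟩, rfl⟩)
    (fun k hk => centralizer_le_normalizer _ ?_) LM (fun k hk => ?_) ?_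
    fun lam M' hM' => exists_M (fun l => (hM' l).trans (and_iff_left_of_imp fun hl a a' e => ?_)) hL
  · rw [refl_apply, sub_sub_cancel_left]
    exact neg_mem (Submodule.smul_mem _ _ hw)
  · rintro _ ⟨n, rfl⟩
    exact ((cm' k hk).zpow_right n).symm.eq
  · obtain ⟨h1, h2⟩ := (hM k).1 hk
    obtain ⟨c, hc⟩ := rad_one h hw hw' h0 h2 (sub_perp h1 hv)
    rw [sub_eq_iff_eq_add'] at hc
    have h3 := O_map k.1 v
    rw [hc, Q_add, Q_smul, polar_smul_right', add_assoc, add_eq_left, mul_assoc, ← mul_add] at h3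
    have k1 : ∀ l ∈ Gam X T, l.1.1 v = v → l ∈ Gam X (insert v T) := fun l hl e =>
      ⟨hl.1, fun t ht => ht.elim (fun e' => e' ▸ e) (hl.2 t)⟩
    rcases mul_eq_zero.1 h3 with e | e
    · exact ⟨1, one_mem _, k, k1 k h1 (by rw [hc, e, zero_smul, add_zero]), (one_mul k).symm⟩
    · refine ⟨ρ, mem_zpowers ρ, ρ * k, k1 _ (mul_mem ρG h1) ?_, by rw [← mul_assoc, ρρ, one_mul]⟩
      show (refl Q w).1 (k.1.1 v) = v
      rw [← refl_inv, O_inv_apply_eq, hc, refl_apply, sub_eq_add_neg, ← neg_smul]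
      congr 2
      have := mt hq h0
      field_simp
      linear_combination e
  · rintro _ ⟨n, rfl⟩ _ ⟨m, rfl⟩
    exact ((Commute.refl ρ).zpow_zpow n m).eq
  · obtain ⟨_, n, rfl⟩ := a
    obtain rfl : a' = ⟨ρ ^ n, n, rfl⟩ :=
      Subtype.ext (e.trans (by rw [((cm' l (LM hl)).zpow_right n).eq, mul_inv_cancel_right]))
    rcases Int.units_eq_one_or (pr Q l) with e1 | e1 <;> rw [e1]
    · simp
    · rw [Units.val_neg, Units.val_one, zpow_neg_one, eq_inv_iff_mul_eq_one, ← map_mul]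
      convert map_one lam
      exact Subtype.ext (show ρ ^ n * ρ ^ n = 1 by rw [← (Commute.refl ρ).mul_zpow, ρρ, one_zpow])

theorem pf_sing (fr : FR.{u}) (pb : PB.{u}) (rf : REFL.{u}) {F V : Type u} [Field F] [Finite F]
    [CharP F 2] [AddCommGroup V] [Module F V] [FiniteDimensional F V] {Q : QuadraticForm F V}
    (hQ : (polarBilin Q).Nondegenerate) {X : Subgroup (O Q)} {T : Set V} {w : V} (h : Base X T)
    (hw : w ∈ perp Q (DD X T)) (hF : w ∈ Fx X) (hD : w ∉ DD X T) (ih : IH X T) (hq : Q w = 0) :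
    NB (pr Q) (Gam X (insert w T)) := by
  have := finO Q
  have h0 : w ≠ 0 := fun e => hD (e ▸ zero_mem _)
  obtain ⟨e, e1, e2, e3, e4⟩ := exists_av (X := X) h.odd
  obtain ⟨w0, a1, a2⟩ := exists_orth_not_orth (Q := Q) (DD X T) (u := w)
    (by rwa [ker_polarBilin_eq_bot hQ, sup_bot_eq])
  have b1 : e w0 ∈ perp Q (DD X T) := e4 _ (fun _ hx _ => X_perp hx) _ (mem_perp.2 a1)
  have b2 : polar Q (e w0) w ≠ 0 := by rwa [e3 _ _ hF, polar_comm]
  have b3 := e1 w0
  generalize e w0 = w' at b1 b2 b3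
  have b4 : polar Q w w' ≠ 0 := by rwa [polar_comm]
  have hK := Kl_eq hF h0
  have f := fr hQ X T w w' h ⟨h0, hw, b1, fun r hr => ?_, hK.ge b3, fun r hr => ?_, fun s hs hs' => ?_⟩
  rotate_left
  · obtain ⟨c, hc⟩ := scal hr
    rw [hc w hF, Q_smul, hq, mul_zero]
  · obtain ⟨c, hc⟩ := scal hr
    rw [hc w hF, hc w' b3, polar_smul_left', polar_smul_right']
  · obtain ⟨c, hc⟩ := scal hs
    have := hs' _ (RR_gen X.one_mem)
    rw [hc w hF, polar_smul_left'] at this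
    rw [hc w hF, (mul_eq_zero.1 this).resolve_right b4, zero_smul]
  set T' := insert w' (insert w T)
  have TT : T ⊆ T' := fun _ ht => .inr (.inr ht)
  have wT : w ∈ DD X T' := self_mem (.inr (.inl rfl))
  have wT' : w' ∈ DD X T' := self_mem (.inl rfl)
  have Z1 : ∀ z ∈ ZZ X T w, z = 1 := fun z hz => by
    obtain ⟨c, hc⟩ := mem_single hF ((f.yzero z hz.1).2 hz).2
    rw [sub_zero, sub_eq_iff_eq_add'] at hc
    have h3 := O_map z.1 w'
    rw [hc, Q_add, Q_smul, hq, mul_zero, add_zero, add_eq_left, polar_smul_right'] at h3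
    rw [(mul_eq_zero.1 h3).resolve_right b2, zero_smul, add_zero] at hc
    exact mem_bot.1 (f.shape.NL.le ⟨hz.1, hz.1.1.1.1, fun t ht =>
      ht.elim (fun e' => e' ▸ hc) (hz.1.1.1.2 t)⟩)
  refine pb _ _ (NN X T w) (Gam X T') f.shape.NK f.shape.nN f.shape.LK f.shape.fac
    (fun a ha b hb => commutatorElement_eq_one_iff_mul_comm.1 (Z1 _ (f.shape.ab a ha b hb)))
    fun lam M hM => ?_
  obtain ⟨y, ⟨-, hy⟩, hs⟩ := f.stab (fun y hy => by
    obtain ⟨y1, y2⟩ := hy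
    have y3 := hK.le y2
    have y4 : w' + y + (-(Q y) / polar Q w' w) • w ∈ Fx X :=
      add_mem (add_mem b3 y3) (Submodule.smul_mem _ _ hF)
    obtain ⟨n, hn, e⟩ := f.con _ ⟨add_mem (add_mem b1 (perp_anti (DD_mono TT) y1))
      (Submodule.smul_mem _ _ hw), hK.ge y4⟩ (fun r hr => by
        obtain ⟨c, hc⟩ := scal hr
        rw [hc w hF, polar_smul_left', polar_smul_left', polar_add_right, polar_add_right,
          polar_smul_right', pself, mem_perp.1 y1 w wT, mul_zero, add_zero, add_zero]) (fun r hr => by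
        obtain ⟨c, hc⟩ := scal hr
        rw [hc _ y4, hc w' b3, polar_smul_left', polar_smul_left', pself, pself]) (fun r hr => by
        obtain ⟨c, hc⟩ := scal hr
        rw [hc _ y4, hc w' b3, Q_smul, Q_smul, Q_add, Q_add, Q_smul, hq, mem_perp.1 y1 w' wT',
          polar_smul_right', polar_add_left, mem_perp'.1 y1 w wT, add_zero, add_zero,
          div_mul_cancel₀ _ b2]
        ring)
    exact ⟨n, hn, ⟨y1, y2⟩, by
      rw [e, add_assoc, add_sub_cancel_left, add_sub_cancel_left]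
      exact Submodule.smul_mem _ _ (self_mem rfl)⟩) lam fun z hz => by
        rw [show z = 1 from Subtype.ext (Z1 _ hz), map_one]
  replace hy := hK.le hy
  have hM' : ∀ l, l ∈ M ↔ l ∈ Gam X T' ∧ l.1.1 y - y ∈ DD X T' := fun l => by
    refine (hM l).trans (and_congr_right fun hl => (hs l hl).trans ⟨fun k => DD_mono TT k, fun k => ?_⟩)
    have k1 := sub_perp hl hy
    obtain ⟨d', hd', c', k2⟩ := mem_insert b3 k
    obtain ⟨d, hd, c, rfl⟩ := mem_insert hF hd'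
    have k3 := mem_perp'.1 k1 w wT
    have k4 := mem_perp'.1 k1 w' wT'
    rw [k2, polar_add_left, polar_add_left, polar_smul_left', polar_smul_left', pself, mul_zero,
      add_zero] at k3 k4
    rw [mem_perp.1 hw d hd, zero_add] at k3
    rw [mem_perp.1 b1 d hd, zero_add] at k4
    rwa [k2, (mul_eq_zero.1 k3).resolve_right b2, (mul_eq_zero.1 k4).resolve_right b4, zero_smul,
      zero_smul, add_zero, add_zero]
  by_cases hr : y ∈ perp Q (DD X T' ⊓ perp Q (DD X T'))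
  · rw [perp_inf hQ, perp_perp hQ] at hr
    obtain ⟨y2, h2, d, hd, hy2⟩ := Submodule.mem_sup.1 hr
    have c1 : e y2 ∈ perp Q (DD X T') := e4 _ (fun _ hx _ => X_perp hx) _ h2
    have c2 : e d ∈ DD X T' := e4 _ (fun _ hx _ => X_DD hx) _ hd
    have c3 : y = e y2 + e d := by rw [← map_add, hy2, e2 y hy]
    refine exists_M (L := Gam X (insert (e y2) T')) (fun l => (hM' l).trans
      ⟨fun ⟨hl, k⟩ => ⟨hl.1, Set.forall_mem_insert.2 ⟨?_, hl.2⟩⟩, fun hl => ?_⟩)
      ((ih T' f.base f.lt).2 (e y2) ⟨c1, .inl (e1 _)⟩)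
    · have k1 : l.1.1 (e y2) - e y2 ∈ DD X T' := by
        convert sub_mem k (sub_mem (Gam_DD hl c2) c2) using 1
        rw [c3, map_add]; abel
      refine sub_eq_zero.1 ((f.base.rad _ k1 (sub_perp hl (e1 _))).2 ?_)
      have k2 := mem_perp.1 c1 _ k1
      rw [polar_sub_left, pself, sub_zero] at k2
      rw [Q_sub, O_map, k2, CharTwo.add_self_eq_zero, sub_zero]
    · have hl' : l ∈ Gam X T' := ⟨hl.1, fun t ht => hl.2 t (.inr ht)⟩
      refine ⟨hl', ?_⟩
      convert sub_mem (Gam_DD hl' c2) c2 using 1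
      rw [c3, map_add, hl.2 _ (.inl rfl)]; abel
  · rw [mem_perp'] at hr
    push Not at hr
    obtain ⟨w1, k1, k2⟩ := hr
    obtain ⟨r1, r2, r3⟩ := rf hQ X T' y w1 f.base hy k1.1 k1.2 k2
    exact r3 M hM' (ih _ r1 (f.lt.trans r2)).1

theorem pf_of (fr : FR.{u}) (pb : PB.{u}) (rf : REFL.{u}) : PF.{u} := by
  intro F V _ _ _ _ _ _ Q hQ X T w h hw hF hD ih
  by_cases hs : ∃ d ∈ DD X T, d ∈ perp Q (DD X T) ∧ Q (w + d) = 0
  · obtain ⟨d, hd, hd', hq⟩ := hs
    refine exists_M (L := Gam X (insert (w + d) T)) (fun l => and_congr_right fun hl => ?_) (pf_sing fr pb rf hQ h (add_mem hw hd')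
      (add_mem hF (h.rad d hd hd').1) (fun e => hD ((add_mem_cancel_right hd).1 e)) ih hq)
    rw [Set.forall_mem_insert, Set.forall_mem_insert]
    refine and_congr_left fun hl' => ?_
    rw [map_add, rad_fix h ⟨hl, hl'⟩ hd hd', add_left_inj]
  refine (ih _ ⟨h.comm, h.odd, fun u hu hu' => ?_⟩ (lt_of_le_of_ne (DD_mono (Set.subset_insert _ _))
    fun e => hD (e ▸ self_mem (Set.mem_insert _ _)))).1
  obtain ⟨d, hd, c, rfl⟩ := mem_insert hF hu
  have hd' : d ∈ perp Q (DD X T) := (add_mem_cancel_right (Submodule.smul_mem _ c hw)).1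
    (perp_anti (DD_mono (Set.subset_insert _ _)) hu')
  refine ⟨add_mem (h.rad d hd hd').1 (Submodule.smul_mem _ c hF), fun e => ?_⟩
  by_cases hc : c = 0
  · rw [hc, zero_smul, add_zero] at e ⊢
    exact (h.rad d hd hd').2 e
  · refine absurd ⟨c⁻¹ • d, Submodule.smul_mem _ _ hd, Submodule.smul_mem _ _ hd', ?_⟩ hs
    rw [show w + c⁻¹ • d = c⁻¹ • (d + c • w) by
      rw [smul_add, smul_smul, inv_mul_cancel₀ hc, one_smul, add_comm], Q_smul, e, mul_zero]

end Cfsg.Agent.H89.FS2
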