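import Cfsg.Agent.H74.CksDefs
import Cfsg.Agent.S2372
import Cfsg.Agent.S1062

/-! `F₄(2)` has no subgroup of index `4096`: count the Sylow `17`-subgroups. -/

set_option autoImplicit false

namespace Cfsg.Agent.H89.CksF

open Subgroup MulAction Cfsg.Agent.H74.Cks

/-- A self-centralising subgroup of prime order `p` inside `H`. -/
theorem sylow_count {G : Type*} [Group G] [Finite G] {p m : ℕ} [hp : Fact p.Prime]
    {C H : Subgroup G} (hC : Nat.card C = p) (hc : centralizer (C : Set G) = C) (hle : C ≤ H)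
    (hH : Nat.card H = p * m) (hm : ¬ p ∣ m) : ∃ k, k ∣ p - 1 ∧ k ∣ m ∧ m ≡ k [MOD p] := by
  have h1 : Nat.card (C.subgroupOf H) = p :=
    (Nat.card_congr (subgroupOfEquivOfLe hle).toEquiv).trans hC
  have m0 : m ≠ 0 := fun e => hm (e ▸ dvd_zero p)
  let Q : Sylow p H := Sylow.ofCard (C.subgroupOf H) (by
    rw [h1, hH, Nat.factorization_mul hp.out.ne_zero m0, Finsupp.add_apply,
      hp.out.factorization_self, Nat.factorization_eq_zero_of_not_dvd hm, pow_one])
  have h2 : centralizer (C.subgroupOf H : Set H) = C.subgroupOf H := by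
    ext x
    rw [mem_subgroupOf, ← hc, mem_centralizer_iff, mem_centralizer_iff, hc]
    exact ⟨fun h c k => congrArg Subtype.val (h ⟨c, hle k⟩ k), fun h c k => Subtype.ext (h c k)⟩
  have := isCyclic_of_prime_card h1
  have h3 := card_dvd_of_injective _ (QuotientGroup.kerLift_injective
    (C.subgroupOf H).normalizerMonoidHom)
  have h4 := (C.subgroupOf H).normalizerMonoidHom.ker.card_mul_index
  rw [IsCyclic.card_mulAut, h1, Nat.totient_prime hp.out, ← index_eq_card] at h3
  rw [normalizerMonoidHom_ker, h2, Nat.card_congr (subgroupOfEquivOfLe le_normalizer).toEquiv,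
    h1] at h4
  rw [normalizerMonoidHom_ker, h2] at h3
  have h5 := (normalizer (C.subgroupOf H : Set H)).card_mul_index
  have h6 := card_sylow_modEq_one p H
  rw [Q.card_eq_index_normalizer] at h6
  rw [← h4, hH, mul_assoc, Nat.mul_right_inj hp.out.ne_zero] at h5
  refine ⟨_, h3, ⟨_, h5.symm⟩, ?_⟩
  rw [← h5]
  exact (h6.mul_left _).trans (by rw [mul_one])

theorem f42b : F42bStmt := by
  intro F _ _ hF H hH
  obtain ⟨C, -, c1, c2⟩ := S2372.result (F := F) 2 hF
  have hG := S1062.result (F := F) hF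
  have : Fact (Nat.Prime 17) := ⟨by norm_num⟩
  obtain ⟨x, hx⟩ := (IsPGroup.of_card (n := 1) (p := 17) (G := C) c1).nonempty_fixed_point_of_prime_not_dvd_card
    (_ ⧸ H) (by rw [← index_eq_card, hH]; norm_num)
  have h1 := (stabilizer (Lie.chevF4.group F) x).card_mul_index
  rw [index_stabilizer_of_transitive, ← index_eq_card, hH, hG] at h1
  obtain ⟨k, k1, -, k3⟩ := sylow_count (p := 17) (m := 2 ^ 12 * 3 ^ 6 * 5 ^ 2 * 7 ^ 2 * 13)
    (H := stabilizer _ x) c1 c2 (fun c hc => hx ⟨c, hc⟩) (by omega) (by norm_num)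
  have := Nat.le_of_dvd (by norm_num) k1
  rw [Nat.ModEq] at k3
  obtain rfl : k = 9 := by omega
  norm_num at k1

end Cfsg.Agent.H89.CksF
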