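import Cfsg.Agent.H74.CksDefs
import Cfsg.Agent.H11.PermChar
import Cfsg.Agent.S2343
import Cfsg.Agent.S2361
import Cfsg.Agent.S2358
import Cfsg.Agent.S1157
import Cfsg.Agent.S1158
import Cfsg.Agent.S0205

/-! The endgame for the small Ree groups. -/

set_option autoImplicit false

namespace Cfsg.Agent.H89.CksF

open Subgroup MulAction Cfsg.Agent.H74.Cks Cfsg.Agent.H11

section

variable {G : Type*} [Group G] [Finite G]

omit [Finite G] in
theorem deg_of_perfect (hG : commutator G = ⊤) {d : ℕ}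
    (h : ∀ (k : ℕ) (ρ : Representation ℂ G (Fin k → ℂ)), ρ.IsIrreducible → 2 ≤ k → d ≤ k)
    {χ : G → ℂ} (hχ : IsIrrCharacter G χ) (h1 : χ ≠ fun _ => 1) {n : ℕ} (hn : χ 1 = n) : d ≤ n := by
  obtain ⟨n', n0, e⟩ := exists_pos_degree hχ
  obtain rfl : n' = n := by exact_mod_cast e.symm.trans hn
  rcases Nat.lt_or_ge n' 2 with h2 | h2
  · obtain rfl : n' = 1 := by omega
    obtain ⟨l, rfl⟩ := exists_monoidHom_of_apply_one_eq_one (isCharacter_of_irr hχ) (by simpa using e)
    refine absurd (funext fun g => ?_) h1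
    rw [show l g = 1 from (Abelianization.commutator_subset_ker l) (hG ▸ mem_top g), Units.val_one]
  obtain ⟨k, ρ, h3, rfl⟩ := hχ
  obtain rfl : k = n' := by simpa [ρ.char_one] using e
  exact h k ρ h3 h2

theorem two_of_deg {d : ℕ}
    (h : ∀ χ, IsIrrCharacter G χ → χ ≠ (fun _ => 1) → ∀ n : ℕ, χ 1 = n → d ≤ n)
    (X : Type*) [MulAction G X] [Finite X] [IsPretransitive G X] [Nontrivial X]
    (hX : Nat.card X ≤ 2 * d) : IsMultiplyPretransitive G X 2 := by
  have := Fintype.ofFinite G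
  have key : ∀ χ, IsCharacter G χ → classInner χ (fun _ => 1) = 0 → ∀ n : ℕ, χ 1 = n →
      χ = 0 ∨ (d ≤ n ∧ (n < 2 * d → IsIrrCharacter G χ)) := fun χ hχ => by
    refine isCharacter_induction (P := fun χ => classInner χ (fun _ => 1) = 0 → ∀ n : ℕ, χ 1 = n →
      χ = 0 ∨ (d ≤ n ∧ (n < 2 * d → IsIrrCharacter G χ))) (fun _ _ _ => Or.inl rfl)
      (fun χ hχ h0 n hn => Or.inr ⟨h χ hχ (fun e => ?_) n hn, fun _ => hχ⟩)
      (fun χ ψ hχ hψ i1 i2 h0 n hn => ?_) hχ
    · rw [e, classInner_one_one] at h0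
      exact one_ne_zero h0
    obtain ⟨a, ha⟩ := exists_nat_classInner hχ isCharacter_one
    obtain ⟨b, hb⟩ := exists_nat_classInner hψ isCharacter_one
    obtain ⟨x, hx⟩ := exists_nat_degree hχ
    obtain ⟨y, hy⟩ := exists_nat_degree hψ
    rw [classInner_add_left, ha, hb] at h0
    rw [Pi.add_apply, hx, hy] at hn
    obtain rfl : x + y = n := by exact_mod_cast hn
    obtain ⟨rfl, rfl⟩ := Nat.add_eq_zero_iff.1 (by exact_mod_cast h0 : a + b = 0)
    rcases i1 (by simpa using ha) x hx with rfl | j1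
    · obtain rfl : x = 0 := by simpa using hx.symm
      simpa using i2 (by simpa using hb) y hy
    rcases i2 (by simpa using hb) y hy with rfl | j2
    · obtain rfl : y = 0 := by simpa using hy.symm
      simpa using Or.inr j1
    exact Or.inr ⟨by omega, fun _ => by omega⟩
  have h1 := Finite.one_lt_card (α := X)
  have h2 : (permChar G X - fun _ => 1 : G → ℂ) 1 = (Nat.card X - 1 : ℕ) := by
    rw [Pi.sub_apply, permChar_one, Nat.cast_sub h1.le, Nat.cast_one]
  rcases key _ (isCharacter_permChar_sub_one X) (by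
    rw [classInner_sub_left, classInner_permChar_one_of_isPretransitive, classInner_one_one,
      sub_self]) _ h2 with e | e
  · rw [e, Pi.zero_apply, eq_comm, Nat.cast_eq_zero] at h2
    omega
  · exact (isIrrCharacter_permChar_sub_one_iff X).1 (e.2 (by omega))

theorem deg_le_of_two {d : ℕ}
    (h : ∀ (k : ℕ) (ρ : Representation ℂ G (Fin k → ℂ)), ρ.IsIrreducible → 2 ≤ k → d ≤ k)
    (H : Subgroup G) (h2 : IsMultiplyPretransitive G (G ⧸ H) 2) (h3 : 3 ≤ H.index) :
    d + 1 ≤ H.index := by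
  rw [index_eq_card] at h3 ⊢
  have := Finite.one_lt_card_iff_nontrivial.1 (show 1 < Nat.card (G ⧸ H) by omega)
  obtain ⟨k, ρ, h4, h5⟩ := (isIrrCharacter_permChar_sub_one_iff (G ⧸ H)).2 h2
  have h6 := congrFun h5 1
  rw [Pi.sub_apply, permChar_one, ρ.char_one, Module.finrank_fin_fun, eq_sub_iff_add_eq] at h6
  have h7 : k + 1 = Nat.card (G ⧸ H) := by exact_mod_cast h6
  have := h k ρ h4 (by omega)
  omega

theorem exists_two_stab (H : Subgroup G) (h2 : IsMultiplyPretransitive G (G ⧸ H) 2)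
    (h3 : 2 ≤ H.index) :
    ∃ D : Subgroup G, Nat.card D * (H.index * (H.index - 1)) = Nat.card G := by
  rw [index_eq_card] at h3 ⊢
  obtain ⟨a, b, hab⟩ := Finite.one_lt_card_iff_nontrivial.1 (show 1 < Nat.card (G ⧸ H) by omega)
  have := h2.index_of_fixingSubgroup_mul (Set.ncard_pair hab)
  obtain ⟨n, hn⟩ := Nat.exists_eq_add_of_le' h3
  rw [hn, Nat.add_sub_cancel, Nat.factorial_succ, Nat.factorial_succ, ← mul_assoc,
    Nat.mul_left_inj (Nat.factorial_ne_zero n)] at this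
  exact ⟨_, by rw [← (fixingSubgroup G {a, b}).card_mul_index, this, hn]; rfl⟩

end

theorem fre1 : Fre1Stmt := by
  intro F _ _ m hm hF H h2 h3 ⟨_, k, k0, k3, k4, hk⟩
  obtain ⟨R, -⟩ := H39.exists_ree hF
  have := H39.reeField_of_card hm hF
  have h4 := deg_le_of_two (S2343.result m hm hF) H h2.two (Nat.le_of_dvd (Nat.pos_of_ne_zero index_ne_zero_of_finite) h3)
  have h5 := hk R.sylowU
  have h6 := h2.dvd
  have h7 := card_dvd_of_le (inf_le_left (a := R.U) (b := H))
  change _ * Nat.card ↥(R.U ⊓ H) = k * Nat.card R.U at h5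
  rw [R.card_eq, Nat.card_eq_fintype_card] at h6
  rw [R.card_U, Nat.card_eq_fintype_card (α := F)] at h5 h7
  obtain ⟨t, ht⟩ := h7
  obtain ⟨j, -, rfl⟩ := (Nat.dvd_prime_pow Nat.prime_three).1
    (show t ∣ 3 ^ ((2 * m + 1) * 3) from pow_mul 3 _ 3 ▸ hF ▸ Dvd.intro_left _ ht.symm)
  have v0 : 0 < Nat.card ↥(R.U ⊓ H) := Nat.card_pos
  have e1 : H.index = k * 3 ^ j := Nat.eq_of_mul_eq_mul_right v0 (by rw [h5, ht]; ring)
  have e2 : Fintype.card F ^ 2 = 3 ^ (4 * m + 2) := by rw [hF, ← pow_mul]; congr 1; ring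
  have q27 : 27 ≤ Fintype.card F := 
    hF ▸ Nat.pow_le_pow_right (show 0 < 3 by norm_num) (show 3 ≤ 2 * m + 1 by omega)
  have co : (H.index - 1).Coprime (Fintype.card F ^ 3) := by
    rw [hF, ← pow_mul]
    exact ((Nat.Prime.coprime_iff_not_dvd Nat.prime_three).2 (by omega)).symm.pow_right _
  rw [← hF] at h4
  rw [mul_assoc] at h6
  have h8 := co.dvd_of_dvd_mul_left ((dvd_mul_left _ _).trans h6)
  generalize Nat.card ↥(R.U ⊓ H) = v at *
  generalize H.index = N at *
  obtain ⟨D, rfl⟩ : ∃ D, N = D + 1 := ⟨N - 1, by omega⟩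
  obtain ⟨r, hr⟩ : ∃ r, Fintype.card F = r + 1 := ⟨_, (Nat.sub_add_cancel (by omega)).symm⟩
  rw [hr] at h4 h5 h8 ht e2 q27 ⊢
  rw [Nat.add_sub_cancel, Nat.add_sub_cancel] at h8
  have h9 : D ≤ r * (v + k) := Nat.le_of_dvd (Nat.mul_pos (by omega) (by omega))
    ((Nat.dvd_add_right (dvd_mul_right D (r * v))).1 (by
      rw [show D * (r * v) + r * (v + k) = k * (r * ((r + 1) ^ 3 + 1)) by
        linear_combination r * h5]
      exact h8.mul_left k))
  have h10 : r * r + r + 1 ≤ D := by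
    have : (r + 1) ^ 2 = r * r + r + (r + 1) := by ring
    omega
  have k2 : k ≤ 2 := by omega
  rcases lt_trichotomy j (4 * m + 2) with c | rfl | c
  · have := Nat.pow_le_pow_right (show 0 < 3 by norm_num) (Nat.succ_le_of_lt c)
    rw [← e2, pow_succ] at this
    nlinarith
  · rw [← e2] at e1 ht
    obtain rfl : v = r + 1 := Nat.eq_of_mul_eq_mul_right (m := (r + 1) ^ 2) (by positivity)
      (by rw [← ht]; ring)
    obtain rfl | rfl : k = 1 ∨ k = 2 := by omega
    · rw [e1, one_mul]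
    · nlinarith
  · have := Nat.pow_le_pow_right (show 0 < 3 by norm_num) (Nat.succ_le_of_lt c)
    rw [pow_succ, ← e2] at this
    have h11 : v ≤ r + 1 := Nat.le_of_mul_le_mul_right (c := (r + 1) ^ 2) (by nlinarith)
      (by positivity)
    nlinarith

theorem fre2 : Fre2Stmt := by
  intro F _ _ m hm hF H hH
  obtain ⟨R, -⟩ := H39.exists_ree hF
  have := H39.reeField_of_card hm hF
  have q27 : 27 ≤ Fintype.card F := 
    hF ▸ Nat.pow_le_pow_right (show 0 < 3 by norm_num) (show 3 ≤ 2 * m + 1 by omega)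
  have s9 : 9 ≤ 3 ^ (m + 1) := Nat.pow_le_pow_right (show 0 < 3 by norm_num) (show 2 ≤ m + 1 by omega)
  have sq := H39.three_pow_le (m := m)
  have hd := S2343.result m hm hF
  have hN := S1158.result hm hF
  have hC := S2358.result hm hF
  have hS := S2361.result hm hF
  have hG := R.card_eq
  rw [Nat.card_eq_fintype_card (α := F)] at hG
  rw [← hF] at hd hN hC hS sq
  obtain ⟨r, hr⟩ : ∃ r, Fintype.card F = r + 1 := ⟨_, (Nat.sub_add_cancel (by omega)).symm⟩
  have e1 : (r + 1) ^ 2 = r * r + r + (r + 1) := by ring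
  rw [hr] at hd hN hC hS sq hH q27 hG
  have := Finite.one_lt_card_iff_nontrivial.1 (show 1 < Nat.card (_ ⧸ H) by
    rw [← index_eq_card]; omega)
  obtain ⟨D, hD⟩ := exists_two_stab H (two_of_deg (fun χ a b n => deg_of_perfect
    R.commutator_eq_top hd a b) _ (by rw [← index_eq_card]; omega)) (by omega)
  have e2 : Nat.card D = (r + 1) * (r * r + r + 1) := Nat.eq_of_mul_eq_mul_right
    (m := (r + 1) ^ 2 * (r * (r + 2))) (by have : 0 < r := by omega
                                           positivity) (by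
      rw [hH, hG, show (r + 1) ^ 2 - 1 = r * (r + 2) from Nat.sub_eq_of_eq_add (by ring),
        Nat.add_sub_cancel] at hD
      rw [hD]; ring)
  have o1 : Odd (r + 1) := hr ▸ hF ▸ Odd.pow (by decide)
  obtain ⟨A, h1, h2⟩ := hS D (S0205.result (e2 ▸ o1.mul (by
    rw [show r * r + r = r * (r + 1) by ring]; exact (Nat.even_mul_succ_self r).add_one)))
  have h3 := e2 ▸ card_dvd_of_le h1
  have h4 := Nat.le_of_dvd Nat.card_pos h3
  have cyc : ∀ k n, IsCyclic A → Nat.card A = k → (k ∣ (r + 1 - 1) / 2 ∨ k ∣ (r + 1 + 1) / 4 ∨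
      k ∣ r + 1 - 3 ^ (m + 1) + 1 ∨ k ∣ r + 1 + 3 ^ (m + 1) + 1) →
      (∃ B : Subgroup (Lie.twistedG2 F (3 ^ m)), IsCyclic B ∧ Nat.card B = k ∧
        Nat.card (normalizer (B : Set (Lie.twistedG2 F (3 ^ m)))) = n ∧ ∀ A₀ ≤ B, A₀ ≠ ⊥ →
          normalizer (A₀ : Set (Lie.twistedG2 F (3 ^ m))) = normalizer (B : Set _)) →
      n ≤ 12 * (r + 2) → False := fun k n a b c ⟨B, b1, b2, b3, _⟩ f => by
    obtain ⟨g, rfl⟩ := hC k c B A b1 a b2 b
    rw [← map_equiv_normalizer_eq, card_map_of_injective (MulAut.conj g).injective, b3] at h4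
    nlinarith
  rcases h2 with ⟨P, rfl⟩ | ⟨P, rfl⟩ | ⟨c, e | e | e | e⟩
  · rw [(S1157.result hm hF P).2] at h4
    nlinarith
  · obtain ⟨g, hg⟩ := R.exists_twist_U_eq P
    rw [← hg, H39.Ree.normalizer_U, H39.Ree.card_B, Nat.card_eq_fintype_card, hr,
      Nat.add_sub_cancel] at h3
    have c1 : (r * r + r + 1).Coprime ((r + 1) ^ 3 * r) := by
      refine Nat.Coprime.mul_right (Nat.Coprime.pow_right _ ?_) ?_
      · rw [show r * r + r + 1 = 1 + r * (r + 1) by ring]
        simp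
      · rw [show r * r + r + 1 = 1 + (r + 1) * r by ring]
        simp
    have := c1.eq_one_of_dvd ((dvd_mul_left _ _).trans h3)
    nlinarith
  · exact cyc _ _ c e (Or.inl dvd_rfl) (hN (_, _) (Or.inl rfl)) (by omega)
  · exact cyc _ _ c e (Or.inr (Or.inl dvd_rfl)) (hN (_, _) (Or.inr (Or.inl rfl))) (by omega)
  · exact cyc _ _ c e (Or.inr (Or.inr (Or.inl dvd_rfl))) (hN (_, _) (Or.inr (Or.inr (Or.inl rfl))))
      (by omega)
  · exact cyc _ _ c e (Or.inr (Or.inr (Or.inr dvd_rfl))) (hN (_, _) (Or.inr (Or.inr (Or.inr rfl))))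
      (by omega)

end Cfsg.Agent.H89.CksF
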