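import Cfsg.Agent.H78.G40B

/-! Project L40G, piece ZU1: no new fusion of `z` in the linear case. -/

set_option autoImplicit false

namespace Cfsg.Agent.H89.G40Zu1

open Subgroup Cfsg.Agent.H83 Cfsg.Agent.H46.L40 Cfsg.Agent.H78.G40

universe u

theorem syl_map {X : Type} [Group X] {G : Type u} [Group G] {ψ : X →* G} (hi : Function.Injective ψ)
    {T : Subgroup X} (h : IsSylowIn 2 T ⊤) : IsSylowIn 2 (T.map ψ) ψ.range :=
  ⟨map_le_range _ _, h.isPGroup.map _, fun P hP hp hT => by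
    rw [← h.max (P.comap ψ) le_top (hp.comap_of_injective ψ hi) (map_le_iff_le_comap.1 hT),
      map_comap_eq_self hP]⟩

theorem zu1 : Zu1S.{u} := by
  intro X _ e σ τ θ D fa fb fc ff G _ _ S ψ ti g hg hm
  haveI : Fact (Nat.Prime 2) := ⟨Nat.prime_two⟩
  have hz : ψ (e z0) = S.z := ti.he z0
  have hR : ∀ x, ψ x ∈ S.R := fun x => ti.rg ▸ ⟨x, rfl⟩
  have hX : ∀ x, ψ x ∈ S.X := fun x => S.fn.le (hR x)
  rw [← ti.rg] at hm
  obtain ⟨x, hx⟩ := hm
  have zz : S.z * S.z = 1 := by rw [← map_mul, show z0 * z0 = 1 by decide, map_one]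
  have z1 : S.z ≠ 1 := fun h => absurd (S.inj (h.trans (map_one _).symm)) (by decide)
  rcases ff x (ti.inj (by
      rw [map_mul, hx, map_one]
      calc g * S.z * g⁻¹ * (g * S.z * g⁻¹) = g * (S.z * S.z) * g⁻¹ := by group
        _ = 1 := by rw [zz]; group)) (fun h => z1 (by
      rw [h, map_one] at hx
      calc S.z = g⁻¹ * (g * S.z * g⁻¹) * g := by group
        _ = 1 := by rw [← hx]; group)) with h | h
  · obtain ⟨c, hc⟩ := isConj_iff.1 h
    exact ⟨ψ c, hR c, by rw [← hx, ← hc, map_mul, map_mul, map_inv, hz]⟩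
  exfalso
  obtain ⟨c, hc⟩ := isConj_iff.1 h
  have hk : g⁻¹ * ψ c * ψ D.u * (g⁻¹ * ψ c)⁻¹ = S.z := by
    rw [← hc, map_mul, map_mul, map_inv] at hx
    calc _ = g⁻¹ * (ψ c * ψ D.u * (ψ c)⁻¹) * g := by group
      _ = _ := by rw [hx]; group
  have kX : g⁻¹ * ψ c ∈ S.X := mul_mem (inv_mem hg) (hX c)
  generalize g⁻¹ * ψ c = k at hk kX
  have s1 : IsSylowIn 2 ((Tq e σ D).map ψ) (S.X ⊓ Cz S.z) :=
    (S.fn.syl _ (ti.rg ▸ syl_map ti.inj fb.syl)).mono (by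
      rintro _ ⟨y, hy, rfl⟩
      refine ⟨hX y, mem_centralizer_singleton_iff.2 ?_⟩
      rw [← hz, ← map_mul, ← map_mul, mem_centralizer_singleton_iff.1 (fb.Tz hy)]) inf_le_left
  obtain ⟨h, hh, hle⟩ := s1.exists_conj_le
    (P := (Tq e σ D ⊓ Cz D.u).map ((MulAut.conj k).toMonoidHom.comp ψ)) (by
      rintro _ ⟨y, hy, rfl⟩
      refine ⟨S.X.mul_mem (S.X.mul_mem kX (hX y)) (S.X.inv_mem kX), mem_centralizer_singleton_iff.2 ?_⟩
      have := congrArg ψ (mem_centralizer_singleton_iff.1 hy.2)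
      rw [map_mul, map_mul] at this
      change k * ψ y * k⁻¹ * _ = _ * (k * ψ y * k⁻¹)
      rw [← hk]
      calc _ = k * (ψ y * ψ D.u) * k⁻¹ := by group
        _ = _ := by rw [this]; group)
    ((fb.syl.isPGroup.to_le inf_le_left).map _)
  have hu : h * k * ψ D.u * (h * k)⁻¹ = ψ (e z0) := by
    have := mem_centralizer_singleton_iff.1 hh.2
    calc _ = h * (k * ψ D.u * k⁻¹) * h⁻¹ := by group
      _ = _ := by rw [hk, this, hz]; group
  have key : ∀ y ∈ Tq e σ D, y * y = D.u → ∃ w ∈ Qq e σ D, ψ w = h * k * ψ y * (h * k)⁻¹ := by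
    intro y hy hyy
    obtain ⟨w, hw, ew⟩ := hle (conj_mem_cj (x := k * ψ y * k⁻¹) ⟨y, ⟨hy,
      mem_centralizer_singleton_iff.2 (by rw [← hyy, mul_assoc])⟩, rfl⟩)
    have ew' : ψ w = h * k * ψ y * (h * k)⁻¹ := by rw [ew]; group
    refine ⟨w, fb.root w hw (ti.inj ?_), ew'⟩
    rw [map_mul, ew', ← hu, ← hyy, map_mul]
    group
  obtain ⟨w1, h1, e1⟩ := key _ fc.y1T fc.r1
  obtain ⟨w2, h2, e2⟩ := key _ fc.y2T fc.r2
  have e3 : ψ (w1 * w2 * w1⁻¹ * w2⁻¹) = h * k * ψ (D.y1 * D.y2 * D.y1⁻¹ * D.y2⁻¹) * (h * k)⁻¹ := by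
    simp only [map_mul, map_inv, e1, e2]
    group
  refine fc.nc ((fa.cm w1 h1 w2 h2).imp (fun h3 => ti.inj ?_) fun h3 => ti.inj ?_)
  · rw [h3, map_one] at e3
    rw [map_one]
    exact (conj_eq_one_iff.1 e3.symm)
  · rw [h3, ← hu] at e3
    exact (mul_left_cancel (mul_right_cancel e3)).symm

end Cfsg.Agent.H89.G40Zu1
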