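import Cfsg.Agent.H97.BcDefs
import Cfsg.Agent.H5.MaxCl

/-! Project BC, piece LOC1: the largest essential subgroup has an automorphism of order three. -/

set_option autoImplicit false

namespace Cfsg.Agent.H89.Bc

open Cfsg Cfsg.FusionSystem Cfsg.Agent.H97 Cfsg.Agent.H96 Cfsg.Agent.H5 Cfsg.Agent.H97.Bc Subgroup

open scoped Pointwise

universe u

/-- two involutions of an elementary abelian group of order at most eight -/
theorem twelve {V : Type*} [Group V] [Finite V] (h2 : ∀ v : V, v * v = 1) (h8 : Nat.card V ≤ 8)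
    {s t : MulAut V} (hs : s * s = 1) (ht : t * t = 1) : (s * t) ^ 12 = 1 := by
  have hi : ∀ v : V, v⁻¹ = v := fun v => inv_eq_of_mul_eq_one_right (h2 v)
  letI : CommGroup V := { ‹Group V› with
    mul_comm := fun a b => by rw [← hi (a * b), mul_inv_rev, hi, hi] }
  have key : ∀ s : MulAut V, s * s = 1 → ∃ A : Subgroup V, Nat.card A ≤ 2 ∧ ∀ v, s v * v ∈ A := by
    intro s hs
    let a : V →* V := MonoidHom.mk' (fun v => s v * v) fun v w => by
      rw [map_mul, mul_mul_mul_comm]
    refine ⟨a.range, ?_, fun v => ⟨v, rfl⟩⟩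
    have h1 : a.range ≤ a.ker := by
      rintro _ ⟨v, rfl⟩
      show s (s v * v) * (s v * v) = 1
      rw [map_mul, ← MulAut.mul_apply, hs, MulAut.one_apply, mul_comm v, h2]
    have h3 := a.ker.card_mul_index
    rw [index_ker] at h3
    have h4 := card_le_of_le h1
    nlinarith
  obtain ⟨A, hA, a⟩ := key s hs
  obtain ⟨B, hB, b⟩ := key t ht
  have h4 : Nat.card ↥(A ⊔ B) ≤ 4 := by
    have : Nat.card ↥((A : Set V) * (B : Set V)) ≤ _ := Set.natCard_mul_le
    rw [← coe_mul_of_right_le_normalizer_left A B (by rw [normalizer_eq_top]; exact le_top)] at this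
    exact this.trans (Nat.mul_le_mul hA hB)
  ext v
  have h5 : ∀ n : ℕ, ((s * t) ^ n) v * v ∈ A ⊔ B := fun n => by
    induction n with
    | zero => simp [h2]
    | succ n ih =>
      set w := ((s * t) ^ n) v
      have : ((s * t) ^ (n + 1)) v * v = s (t w) * t w * (t w * w) * (w * v) := by
        rw [pow_succ', MulAut.mul_apply, MulAut.mul_apply, mul_assoc (s _), ← mul_assoc (t w), h2,
          one_mul, mul_assoc (s _), ← mul_assoc w, h2, one_mul]
      exact this ▸ mul_mem (mul_mem (mem_sup_left (a _)) (mem_sup_right (b _))) ih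
  have h6 : ∀ i j : ℕ, i < j → j < 5 → ((s * t) ^ i) v = ((s * t) ^ j) v → ((s * t) ^ 12) v = v := by
    intro i j hij hj e
    obtain ⟨k, rfl⟩ := Nat.exists_eq_add_of_lt hij
    rw [add_assoc, pow_add, MulAut.mul_apply] at e
    have e := (((s * t) ^ i).injective e).symm
    obtain ⟨m, hm⟩ : k + 1 ∣ 12 := by
      have : k < 4 := by omega
      interval_cases k <;> norm_num
    rw [hm, pow_mul]
    exact MulAction.mem_stabilizer_iff.1
      (pow_mem (MulAction.mem_stabilizer_iff.2 e : _ ∈ MulAction.stabilizer (MulAut V) v) m)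
  have := Fintype.ofFinite ↥(A ⊔ B)
  obtain ⟨i, j, hij, e⟩ := Fintype.exists_ne_map_eq_of_card_lt
    (fun i : Fin 5 => (⟨_, h5 i⟩ : ↥(A ⊔ B))) (by rw [← Nat.card_eq_fintype_card, Fintype.card_fin]; omega)
  have e := mul_right_cancel (congrArg Subtype.val e)
  rcases lt_or_gt_of_ne hij with h | h
  exacts [h6 i j h j.2 e, h6 j i h i.2 e.symm]

theorem twelve' {P : Type*} [Group P] [Finite P] (hP : IsPGroup 2 P) (h8 : (frattini P).index ∣ 2 ^ 3)
    {s t : MulAut P} (hs : s * s ∈ Inn P) (ht : t * t ∈ Inn P) :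
    ∃ k, ((s * t) ^ 12) ^ 2 ^ k = 1 := by
  let ρ : MulAut P →* MulAut (P ⧸ frattini P) :=
    { toFun := fun φ => QuotientGroup.congr _ _ φ (characteristic_iff_map_eq.1 inferInstance φ)
      map_one' := by
        ext x
        induction x using QuotientGroup.induction_on
        rfl
      map_mul' := fun a b => by
        ext x
        induction x using QuotientGroup.induction_on
        rfl }
  have k : ∀ s : MulAut P, s * s ∈ Inn P → ρ s * ρ s = 1 := by
    rintro s ⟨q, hq⟩
    rw [← map_mul, ← hq]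
    ext x
    induction x using QuotientGroup.induction_on with | H x => ?_
    refine QuotientGroup.eq.2 ?_
    have := H3.commutator_le_frattini hP (commutator_mem_commutator (mem_top q) (mem_top x⁻¹))
    simpa [commutatorElement_def, mul_assoc] using this
  have := twelve (fun v => by
    induction v using QuotientGroup.induction_on with | H x => ?_
    exact (QuotientGroup.eq_one_iff (x * x)).2 (sq x ▸ H3.pow_mem_frattini hP x))
    (Nat.le_of_dvd (by norm_num) h8) (k s hs) (k t ht)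
  rw [← map_mul, ← map_pow] at this
  exact pow_eq_one_of_triv_frattini hP _ fun x =>
    QuotientGroup.eq.1 (DFunLike.congr_fun this (x : P ⧸ frattini P)).symm

theorem dihedral {A : Type*} [Group A] [Finite A] {I : Subgroup A} [I.Normal] (hI : IsPGroup 2 I)
    {s t : A} (hs : s * s ∈ I) (ht : t * t ∈ I) {k : ℕ} (h : (s * t) ^ 2 ^ k = 1) :
    IsPGroup 2 (closure ({s, t} : Set A)) := by
  have z : ∀ {x : A} {k}, x ^ 2 ^ k = 1 → IsPGroup 2 (zpowers x) := fun {x k} e y => ⟨k, by
    obtain ⟨_, n, rfl⟩ := y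
    refine Subtype.ext (show (x ^ n) ^ 2 ^ k = 1 from ?_)
    rw [← zpow_natCast, ← zpow_mul, mul_comm, zpow_mul, zpow_natCast, e, one_zpow]⟩
  obtain ⟨m, hm⟩ := hI ⟨_, hs⟩
  have h0 : I ⊔ zpowers (s * t) ≤ comap (MulAut.conj s).toMonoidHom (I ⊔ zpowers (s * t)) := by
    refine sup_le (fun n hn => mem_sup_left (Normal.conj_mem inferInstance n hn s))
      (zpowers_le_of_mem (show s * (s * t) * s⁻¹ ∈ I ⊔ zpowers (s * t) from ?_))
    rw [show s * (s * t) * s⁻¹ = s * s * (t * t) * (s * t)⁻¹ by group]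
    exact mul_mem (mem_sup_left (mul_mem hs ht)) (inv_mem (mem_sup_right (mem_zpowers _)))
  have h1 := (hI.to_sup_of_normal_left (z h)).to_sup_of_normal_left' (z (x := s) (k := m + 1) (by
    rw [pow_succ', pow_mul, sq]; exact congrArg Subtype.val hm))
    (zpowers_le_of_mem (mem_normalizer_fintype fun n hn => h0 hn))
  refine h1.to_le ((closure_le _).2 ?_)
  rintro _ (rfl | rfl)
  · exact mem_sup_right (mem_zpowers _)
  · exact (mul_mem_cancel_left (mem_sup_right (mem_zpowers s))).1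
      (mem_sup_left (mem_sup_right (mem_zpowers _)))

variable {G : Type u} [Group G] [Finite G] {F : FusionSystem (⊤ : Subgroup G)}

/-- elements with large centralisers that are conjugate in `F` are conjugate -/
theorem conj_of_big (hF : F.IsSaturated 2) {n : ℕ}
    (h : ∀ P f, Mor F P f → n < Nat.card P → ∃ g, ∀ x ∈ P, f x = g * x * g⁻¹) {a : G} {f : G → G}
    (hf : Mor F (zpowers a) f) (h1 : n < Nat.card (centralizer ({a} : Set G)))
    (h2 : n < Nat.card (centralizer ({f a} : Set G))) : IsConj a (f a) := by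
  obtain ⟨R, hR, -, hr⟩ := hF (zpowers a) le_top
  obtain ⟨φ, hφ⟩ := isConj_iff_iso.1 hR
  have key : ∀ {P : Subgroup G} {c : G} {ψ}, Iso F P R ψ → c ∈ P → P ≤ zpowers c →
      n < Nat.card (centralizer ({c} : Set G)) → IsConj c (ψ c) := by
    intro P c ψ hψ hc hP hn
    obtain ⟨g, hg, e, -⟩ := hψ.extend_centralizer hr
    obtain ⟨u, hu⟩ := h _ g hg (hn.trans_le (card_le_of_le fun y hy => mem_sup_right ⟨mem_top y,
      fun x hx => by
        obtain ⟨m, rfl⟩ := hP hx
        exact ((show Commute y c from mem_centralizer_singleton_iff.1 hy).zpow_right m).symm.eq⟩))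
    exact isConj_iff.2 ⟨u, by rw [← hu c (mem_sup_left hc), e c hc]⟩
  obtain ⟨f', hf', e, -⟩ := (iso_iff_img.2 ⟨hf, rfl⟩).exists_inv
  have := key (hf'.trans hφ) (mem_img_of_mem f (mem_zpowers a)) (img_le_iff.2 (by
    rintro _ ⟨m, rfl⟩
    exact ⟨m, (hf.map_zpow (mem_zpowers a) m).symm⟩)) h2
  rw [e a (mem_zpowers a)] at this
  exact (key hφ (mem_zpowers a) le_rfl h1).trans this.symm

theorem loc1 : Loc1Stmt.{u} := by
  intro G _ _ x h F hF hn
  have hS : IsPGroup 2 (⊤ : Subgroup G) := h.pG.to_subgroup _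
  have hA : IsPGroup 2 (F.autGroup ⊤) :=
    (h.aut.of_equiv (MulAut.congr topEquiv.symm)).to_subgroup _
  obtain ⟨Q, hQ, hmax⟩ := exists_max_subgroup (S := ⊤) (F.IsEssential 2) (fun _ _ => le_top)
    (by_contra fun e => hn (sat_eq_inner_of_no_essential hS hF hA fun P hP => e ⟨P, hP⟩))
    fun Q => Nat.card Q
  have hN : normalizerIn ⊤ Q = normalizer (Q : Set G) := top_inf_eq _
  have hlt := ess_lt_normalizerIn hS hF hQ
  have idx : Q.relIndex (normalizer (Q : Set G)) = 2 := hN ▸ relIndex_eq_of_dvd_of_not_le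
    (h.pG.to_subgroup _) hlt.not_ge (ess_relIndex_dvd_of_rank_three hS hF hQ (h.rk Q))
  obtain ⟨t, ht, htQ⟩ := SetLike.exists_of_lt hlt
  obtain ⟨γ, hγ, hγ1⟩ := ess_exists_not_mem_extAut hS hF hQ
  have two : ∀ {g : G} (hg : g ∈ normalizer (Q : Set G)), g ∉ Q →
      conjAut Q hg * conjAut Q ht.2 ∈ Inn Q := fun {g} hg hgQ => by
    rw [← conjAut_mul, inn_eq_autInducedBy]
    exact conjAut_mem_autInducedBy (show g * t ∈ Q from (mul_mem_iff_of_index_two idx (a := ⟨g, hg⟩)
      (b := ⟨t, ht.2⟩)).2 (iff_of_false hgQ htQ)) _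
  set s := conjAut Q ht.2
  have hs : s * s ∈ Inn Q := two ht.2 htQ
  have hs' : γ * s * γ⁻¹ * (γ * s * γ⁻¹) ∈ Inn Q := by
    convert Normal.conj_mem inferInstance _ hs γ using 1; group
  obtain ⟨k, hk⟩ := twelve' (h.pG.to_subgroup Q) (relIndex_Phi Q ▸ h.rk Q) hs hs'
  have hsF : s ∈ F.autGroup Q :=
    autInducedBy_le_autGroup F le_top le_rfl (conjAut_mem_autInducedBy ht.1 ht.2)
  set δ := s * (γ * s * γ⁻¹) with hδ
  refine ⟨Q, δ ^ 2 ^ (k + 2), fun g hg => ess_centralizerIn_le hQ ⟨mem_top g, fun q hq =>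
    (hg q hq).symm.eq⟩, idx, ?_, fun e => ess_not_isPGroup_pair hS hF hQ hγ hγ1 ht htQ ht htQ
      (dihedral (inn_eq_autInducedBy Q ▸ isPGroup_autInducedBy (h.pG.to_subgroup Q)) hs hs' e),
    fun g hg hgQ => ?_, fun m a ha b hb hab h1 h2 => ?_⟩
  · rw [← hk, ← pow_mul, ← pow_mul]; congr 1; ring
  · let π := QuotientGroup.mk' (Inn Q)
    have k1 : ∀ {y}, y ∈ Inn Q → π y = 1 := fun hy => (QuotientGroup.eq_one_iff _).2 hy
    have e1 : π (conjAut Q hg) = π s :=
      mul_right_cancel (b := π s) (by rw [← map_mul, ← map_mul, k1 hs, k1 (two hg hgQ)])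
    have e2 : π s * π δ * (π s)⁻¹ = (π δ)⁻¹ := by
      rw [eq_inv_iff_mul_eq_one, ← map_inv, ← map_mul, ← map_mul, ← map_mul]
      refine k1 ?_
      convert mul_mem hs hs' using 1
      rw [hδ]; group
    refine (QuotientGroup.eq_one_iff _).1 (show π _ = 1 from ?_)
    rw [map_mul, map_mul, map_mul, map_inv, e1, map_pow, ← conj_pow, e2, inv_pow, inv_mul_cancel]
  · set β := (δ ^ 2 ^ (k + 2)) ^ m
    have hβ : β ∈ F.autGroup Q :=
      pow_mem (pow_mem (mul_mem hsF (mul_mem (mul_mem hγ hsF) (inv_mem hγ))) _) _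
    obtain ⟨g, rfl⟩ := isConj_iff.1 hab
    have m1 := (mor_of_mem_autGroup le_top (inv_mem hβ)).mono (zpowers_le_of_mem (ext_mem β ha))
    have := conj_of_big hF (n := Nat.card Q) (fun P f hf hP => by
      obtain ⟨β, hβ, e⟩ := exists_aut_of_not_le hS hF
        (fun E hE hPE => (hP.trans_le (card_le_of_le hPE)).not_ge (hmax E hE)) hf
      rw [sat_autGroup_top_eq_inn hS hF hA, mem_inn_iff] at hβ
      obtain ⟨u, -, hu⟩ := hβ
      exact ⟨u, fun y hy => (e y hy).trans (hu y (mem_top y))⟩)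
      ((m1.comp (mor_conj F le_rfl (mem_top g)) fun _ _ => mem_top _).comp
        (mor_of_mem_autGroup le_top hβ) (by
          rintro _ ⟨n, rfl⟩
          rw [m1.map_zpow (mem_zpowers _), ext_inv_ext, ← conj_zpow]
          exact zpow_mem hb n)) h1 (by rwa [ext_inv_ext])
    rwa [ext_inv_ext] at this

end Cfsg.Agent.H89.Bc
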