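import Cfsg.Agent.H85.FPDefs
import Cfsg.Agent.S0081
import Cfsg.Agent.S4140
import Cfsg.Agent.H92.Basic
import Cfsg.Agent.H8.Residual
import Cfsg.Agent.H7.PBasic

/-! The kernel of a Camina pair is solvable. -/

set_option autoImplicit false

namespace Cfsg.Agent.H89.Cam

open Subgroup Cfsg Cfsg.Agent.H83 Cfsg.Agent.H92
open scoped commutatorElement

universe u

variable {G : Type u} [Group G] [Finite G]

theorem fpf (main : H85.FP.MainStmt.{u}) {p : ℕ} [Fact p.Prime] {K : Subgroup G} [K.Normal]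
    (hK : (Nat.card K).Coprime p) {x : G} {k : ℕ} (hx : x ^ p ^ k = 1)
    (h : ∀ y ∈ K, y * x = x * y → y = 1) : Group.IsSolvable K := by
  obtain ⟨n, hn⟩ := IsPGroup.iff_card.1 (isPGroup_zpowers hx)
  refine main G K (zpowers x) ⟨hn ▸ (hK.pow_right n).symm, le_normalizer_of_normal,
    fun y hy t _ _ _ => ?_⟩
  rw [h y hy.1 (hy.2 x (mem_zpowers x)).symm, one_mul, mul_one]

theorem quot (main : H85.FP.MainStmt.{u}) (N : Subgroup G) [N.Normal] (hN2 : N ≠ ⊤)
    (hcam : ∀ g : G, g ∉ N → ∀ n ∈ N, ∃ x : G, x * g * x⁻¹ = g * n) {p k : ℕ} [Fact p.Prime]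
    (hk : N.index = p ^ k) : Group.IsSolvable N := by
  obtain ⟨P⟩ : Nonempty (Sylow p G) := inferInstance
  have hq : IsPGroup p (G ⧸ N) := IsPGroup.of_card hk
  have NP := sup_sylow_eq_top (pMod_top_iff.2 hq) P
  obtain ⟨g, gP, gN⟩ : ∃ g ∈ (P : Subgroup G), g ∉ N := by
    by_contra! h
    exact hN2 (NP ▸ (sup_eq_left.2 h).symm)
  let D : Subgroup G :=
    (centralizer ({(QuotientGroup.mk g : G ⧸ N)} : Set (G ⧸ N))).comap (QuotientGroup.mk' N)
  have hD : ∀ x, x ∈ D ↔ g⁻¹ * (x * g * x⁻¹) ∈ N := by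
    intro x
    rw [mem_comap, mem_centralizer_singleton_iff, QuotientGroup.mk'_apply,
      ← QuotientGroup.eq, QuotientGroup.mk_mul, QuotientGroup.mk_mul, QuotientGroup.mk_inv,
      eq_mul_inv_iff_mul_eq, eq_comm]
  have ND : N ≤ D := fun n hn => (hD n).2 (by
    rw [← mul_assoc, ← mul_assoc]
    exact mul_mem (Normal.conj_mem' inferInstance n hn g) (inv_mem hn))
  have hle : centralizer ({g} : Set G) ≤ D := fun x hx => by
    rw [mem_centralizer_singleton_iff] at hx
    rw [hD, hx]; simp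
  have hS : ∀ M : Subgroup G, Nat.card {y | g⁻¹ * y ∈ M} = Nat.card M := fun M =>
    Nat.card_congr ⟨fun y => ⟨g⁻¹ * y, y.2⟩, fun n => ⟨g * n, by simp⟩, fun y => by simp,
      fun n => by simp⟩
  have h1 := card_conjSet_mul D g
  rw [inf_eq_right.2 hle, show conjSet D g = {y | g⁻¹ * y ∈ N} from Set.Subset.antisymm
    (by rintro y ⟨x, hx, rfl⟩; exact (hD x).1 hx) fun y hy => by
      obtain ⟨x, hx⟩ := hcam g gN _ hy
      rw [mul_inv_cancel_left] at hx
      exact ⟨x, (hD x).2 (hx ▸ hy), hx⟩, hS] at h1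
  have h2 := H7.card_sup_mul_card_inf ((P : Subgroup G) ⊓ D) N
  rw [← dedekind' le_normalizer_of_normal ND, sup_comm, NP, top_inf_eq, inf_assoc,
    inf_eq_right.2 ND, ← h1, mul_assoc, mul_comm _ (Nat.card N)] at h2
  have h3 := Nat.eq_of_mul_eq_mul_left Nat.card_pos h2
  have h4 := card_conjSet_mul ((P : Subgroup G) ⊓ D) g
  have h5 : conjSet ((P : Subgroup G) ⊓ D) g = {y | g⁻¹ * y ∈ (P : Subgroup G) ⊓ N} := by
    refine Set.eq_of_subset_of_ncard_le ?_ ?_
    · rintro y ⟨x, hx, rfl⟩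
      exact ⟨P.1.mul_mem (P.1.inv_mem gP) (P.1.mul_mem (P.1.mul_mem hx.1 gP) (P.1.inv_mem hx.1)),
        (hD x).1 hx.2⟩
    · change Nat.card _ ≤ Nat.card _
      rw [hS]
      refine Nat.le_of_mul_le_mul_left (c := Nat.card (centralizer ({g} : Set G))) ?_ Nat.card_pos
      rw [h3, ← h4, mul_comm]
      exact Nat.mul_le_mul_right _ (card_le_of_le inf_le_right)
  have tate := S0081.result P N fun n hn => by
    obtain ⟨x, hx, e⟩ : g * n ∈ conjSet ((P : Subgroup G) ⊓ D) g := by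
      rw [h5]; exact ⟨by simpa using hn.2, by simpa using hn.1⟩
    refine ⟨⁅(⟨g, gP⟩ : P.1)⁻¹, (⟨x, hx.1⟩ : P.1)⁆, H7.commutator_le_frattini P.isPGroup'
      (commutator_mem_commutator (mem_top _) (mem_top _)), ?_⟩
    change g⁻¹ * x * g⁻¹⁻¹ * x⁻¹ = n
    rw [inv_inv, mul_assoc, mul_assoc, ← mul_assoc x, e, inv_mul_cancel_left]
  have cop := H8.hasNormalPComplement_iff_coprime.1 tate
  have e := (pResidual p N).equivMapOfInjective _ N.subtype_injective
  have cop' : (Nat.card (resOf p N)).Coprime p := Nat.card_congr e.toEquiv ▸ cop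
  haveI : (resOf p N).Normal := normalizer_eq_top_iff.1 (eq_top_iff.2
    (norm_resOf le_normalizer_of_normal))
  obtain ⟨j, hj⟩ := isPGroup_iff.1 P.isPGroup' g gP
  have hC : IsPGroup p (centralizer ({g} : Set G)) := by
    obtain ⟨i, hi⟩ := IsPGroup.iff_card.1 (P.isPGroup'.to_inf_left (K := D))
    obtain ⟨l, -, hl⟩ := (Nat.dvd_prime_pow Fact.out).1 (hi ▸ Dvd.intro _ h3)
    exact IsPGroup.of_card hl
  haveI := fpf main cop' hj fun y hy k => eq_one_of_mem_pgroup hC
    (mem_centralizer_singleton_iff.2 k) (coprime_orderOf_of_mem cop' hy)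
  haveI : Group.IsSolvable (pResidual p N) := Group.isSolvable_of_surjective (f := e.symm.toMonoidHom)
    e.symm.surjective
  haveI : (pResidual p N).Normal := pResidual_normal
  have hp : IsPGroup p (N ⧸ pResidual p N) := pMod_top_iff.1 (resOf_top (p := p) (G := N) ▸
    pMod_resOf ⊤)
  haveI := hp.isNilpotent
  exact Group.isSolvable_of_ker_le_range (pResidual p N).subtype (QuotientGroup.mk' (pResidual p N))
    (by simp)

theorem cam (main : H85.FP.MainStmt.{u}) (N : Subgroup G) [N.Normal] (hN1 : N ≠ ⊥) (hN2 : N ≠ ⊤)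
    (hcam : ∀ g : G, g ∉ N → ∀ n ∈ N, ∃ x : G, x * g * x⁻¹ = g * n) :
    (Group.IsSolvable (G ⧸ N) → Group.IsSolvable G) ∧ Group.IsSolvable N := by
  have key : Group.IsSolvable N := by
    rcases S4140.result N hN1 hN2 hcam with h | ⟨p, k, hp, -, e⟩ | ⟨p, k, hp, -, e⟩
    · obtain ⟨p, hp, hd⟩ := Nat.exists_prime_and_dvd (N.index_eq_one.not.2 hN2)
      haveI := Fact.mk hp
      obtain ⟨P⟩ : Nonempty (Sylow p G) := inferInstance
      have PN : ¬ (P : Subgroup G) ≤ N := fun k =>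
        P.not_dvd_index (hd.trans (index_dvd_of_le k))
      obtain ⟨g, gP, gN⟩ := SetLike.not_le_iff_exists.1 PN
      obtain ⟨j, hj⟩ := isPGroup_iff.1 P.isPGroup' g gP
      have hc : ∀ y ∈ N, y * g = g * y → y = 1 := fun y hy k => by_contra fun y1 =>
        gN (h y hy y1 (mem_centralizer_singleton_iff.2 k.symm))
      refine fpf main ?_ hj hc
      by_contra k
      have k2 := ((isSylowIn_top P).inf_normal le_top le_normalizer_of_normal).ne_bot
        (by_contra fun k' => k (hp.coprime_iff_not_dvd.2 k').symm)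
      exact inf_centralizer_ne_bot P.isPGroup'.to_inf_left P.isPGroup'
        (le_norm_inf le_normalizer le_normalizer_of_normal) k2
        (eq_bot_iff.2 fun y hy => mem_bot.2 (hc y hy.1.2 (hy.2 g gP).symm))
    · haveI := Fact.mk hp.nat_prime
      haveI := (IsPGroup.of_card e.symm).isNilpotent
      infer_instance
    · haveI := Fact.mk hp.nat_prime
      exact quot main N hN2 hcam e.symm
  exact ⟨fun _ => Group.isSolvable_of_ker_le_range N.subtype (QuotientGroup.mk' N) (by simp), key⟩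

end Cfsg.Agent.H89.Cam
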