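import Cfsg.Agent.H89.EE4B

/-! Type EE with `S = T₃` does not occur. -/

set_option autoImplicit false

namespace Cfsg.Agent.H89.EE

open Subgroup H85 H93.LT
open H60.LT (bp bp_xor bp_comm bp_mem bp_cn cn_mul zab tz fz)

universe u

namespace MU

/-- `f ^ c₁ y ^ c₂ a ^ c₃ m ^ c₄` -/
def V (ε c1 c2 c3 c4 : Bool) : MU ε := ⟨false, c1, false, c2, c3, false, c4, false⟩

theorem inv_η : ∀ (ε : Bool) (u : MU ε), u.η true * u = 1 →
    ∃ c1 c2 c3 c4, ((V ε c1 c2 c3 c4)⁻¹).η true * V ε c1 c2 c3 c4 = u := by decide +kernel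

theorem inv_θ : ∀ (ε : Bool) (u : MU ε), (u.η true).τ true * u = 1 →
    ∃ c1 c2 c3 c4, (((V ε c1 c2 c3 c4)⁻¹).η true).τ true * V ε c1 c2 c3 c4 = u := by decide +kernel

/-- `f a b` -/
def P (ε : Bool) : MU ε := ⟨false, true, false, false, true, true, false, false⟩
/-- `f ^ ε y m n` -/
def Q (ε : Bool) : MU ε := ⟨false, ε, false, true, false, false, true, true⟩
/-- `f ^ ε a m n` -/
def R (ε : Bool) : MU ε := ⟨false, ε, false, false, true, false, true, true⟩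

end MU

section

variable {G : Type u} [Group G] [Finite G] (h : EN G) {ε : Bool}
  (hε : h.m * h.n * h.m * h.n = h.x * bp ε h.z) (hy : h.y ≠ 1)

omit [Finite G] in
/-- involutions in a coset `c U` -/
theorem inv_conj {c s : G} {θ : MU ε → MU ε} (hc : c * c = 1) (hy : h.y ≠ 1)
    (hθ : ∀ u, cn (ψ h hε u) c = ψ h hε (θ u))
    (H : ∀ u, θ u * u = 1 → ∃ c1 c2 c3 c4, θ (MU.V ε c1 c2 c3 c4)⁻¹ * MU.V ε c1 c2 c3 c4 = u)
    (hs : c⁻¹ * s ∈ h.U) (hss : s * s = 1) : ∃ v ∈ h.U, cn c v = s := by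
  obtain ⟨u, hu⟩ := exists_ψ h hε hs
  obtain ⟨c1, c2, c3, c4, e⟩ := H u (ψ_injective h hε hy (by
    rw [map_mul, ← hθ, hu, map_one]
    calc _ = (c * c)⁻¹ * (s * s) := by simp only [cn]; group
      _ = 1 := by rw [hc, hss]; simp))
  refine ⟨_, ψ_mem h hε (MU.V ε c1 c2 c3 c4), ?_⟩
  rw [← e, map_mul, ← hθ, map_inv, cn, mul_assoc, mul_assoc] at hu
  rw [cn, mul_assoc]
  exact mul_left_cancel hu

omit [Finite G] in
theorem ge (hy : h.y ≠ 1) : h.g = h.e ∧ h.e * h.e = 1 ∧ h.e ≠ 1 := by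
  rcases h.gg' with ⟨e1, e2, -⟩ | e
  exacts [⟨e1, e2, e1 ▸ h.g1⟩, absurd e.1 hy]

include hε hy

/-- an element of order four of `U` centralising a conjugate of `t` -/
theorem sq_k {κ : G} {p : MU ε} (hp : cn (ψ h hε p) κ ∈ h.T) (h4 : p * p * (p * p) = 1)
    (h2 : p * p ≠ 1) : cn (ψ h hε (p * p)) κ = h.z := by
  obtain ⟨-, e2, e3⟩ := ge h hy
  rw [map_mul, cn_mul]
  refine sq_T h.toHyp e3 e2 hp ?_ fun e => h2 (ψ_injective h hε hy (cn_inj (c := κ) ?_))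
  · rw [← cn_mul, ← cn_mul, ← map_mul, ← map_mul, h4]; simp [cn]
  · rw [map_mul, cn_mul, e]; simp [cn]

theorem e_not (k : Kit h.toHyp) (hS : IsPGroup 2 h.T3) : ¬ IsConj h.t h.e := fun he => by
  obtain ⟨e1, -, -⟩ := ge h hy
  obtain ⟨κ, -, hκ⟩ := k.into h.e (h.T3 ⊓ centralizer {h.e}) he (hS.to_le inf_le_left) inf_le_right
  have c : ∀ p : MU ε, p.η true = p → cn (ψ h hε p) κ ∈ h.T := fun p hp =>
    hκ _ ⟨U_le h (ψ_mem h hε p), mem_centralizer_singleton_iff.2 (comm_of_cn (by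
      rw [← e1, cn_g h hε (.inr ⟨rfl, hy⟩), hp]))⟩
  have h1 := sq_k h hε hy (c (MU.P ε) (by cases ε <;> decide)) (by cases ε <;> decide)
    (by cases ε <;> decide)
  have h2 := sq_k h hε hy (c (MU.Q ε) (by cases ε <;> decide)) (by cases ε <;> decide)
    (by cases ε <;> decide)
  exact absurd (ψ_injective h hε hy (cn_inj (h1.trans h2.symm))) (by cases ε <;> decide)

/-- if `e t` is conjugate to `t`, no conjugate of `e` in `U` centralises `e t` -/
theorem et_not (k : Kit h.toHyp) (hS : IsPGroup 2 h.T3) {γ : G} (h1 : cn h.t γ = h.e * h.t)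
    (h2 : cn h.e γ ∈ h.U) : False := by
  obtain ⟨e1, e2, e3⟩ := ge h hy
  have hδ : Dl h true := .inr ⟨rfl, hy⟩
  obtain ⟨κ, k1, hκ⟩ := k.into (h.e * h.t) (h.T3 ⊓ centralizer {h.e * h.t}) (h1 ▸ conj_cn _ _)
    (hS.to_le inf_le_left) inf_le_right
  have c : ∀ p : MU ε, (p.η true).τ true = p → cn (ψ h hε p) κ ∈ h.T := fun p hp =>
    hκ _ ⟨U_le h (ψ_mem h hε p), mem_centralizer_singleton_iff.2 (comm_of_cn (by
      rw [cn_cn, ← e1, cn_g h hε hδ, cn_t h hε hδ, hp]))⟩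
  have cT : cn (cn h.e γ) κ ∈ h.T :=
    hκ _ ⟨U_le h h2, mem_centralizer_singleton_iff.2 (h1 ▸ cn_comm h.te.symm γ)⟩
  have c0 : cn (cn h.e γ) κ * h.e⁻¹ ∈ h.T0 := by
    have := k.pi (γ * κ) (mem_centralizer_singleton_iff.2 (comm_of_cn (by
      rw [cn_cn, h1, k1])).symm) h.e (H60.LT.e_mem _) (by rwa [cn_cn])
    have := cn_mem (inv_mem (H60.LT.e_norm h.toHyp)) (closure_mono (k := {h.t, h.f, h.a, h.b})
      (by simp [Set.subset_def]) this)
    rw [cn_cn] at this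
    convert this using 1; simp only [cn]; group
  have cc : cn (cn h.e γ) κ * cn (cn h.e γ) κ = 1 := by rw [← cn_mul, ← cn_mul, e2]; simp [cn]
  have zκ : cn h.z κ = h.z := by
    have := sq_k h hε hy (c (MU.P ε) (by cases ε <;> decide)) (by cases ε <;> decide)
      (by cases ε <;> decide)
    rwa [show MU.P ε * MU.P ε = MU.Z by cases ε <;> decide, ψ_Z] at this
  obtain ⟨v, hv⟩ := exists_ψ h hε h2
  rw [← hv] at cT c0 cc
  have cm : ∀ p : MU ε, p * v = v * p → Commute (cn (ψ h hε p) κ) (cn (ψ h hε v) κ) := fun p e =>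
    cn_comm (Commute.map e _) κ
  obtain ⟨i, m, j, e⟩ := cen_T2 h.toHyp e3 e2 c0 cc (c (MU.X * MU.F) (by cases ε <;> decide))
    (cm _ ((by decide +kernel : ∀ (ε : Bool) (v : MU ε), MU.X * MU.F * v = v * (MU.X * MU.F)) ε v))
    (by rw [← cn_mul, ← map_mul, show (MU.X * MU.F * (MU.X * MU.F) : MU ε) = 1 by
      cases ε <;> decide]; simp [cn])
  rw [← k1, ← zκ, ← bp_cn, ← bp_cn, ← bp_cn, ← cn_mul, ← cn_mul, ← ψ_Z h hε, bp_map, bp_map,
    mul_assoc, ← map_mul] at e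
  have e := cn_inj e
  cases i
  · have e := ψ_injective h hε hy (e.trans (one_mul _))
    obtain ⟨a1, a2⟩ := (by decide +kernel : ∀ (ε m j : Bool) (v : MU ε),
      MU.X * MU.F = bp m MU.Z * bp j v → MU.P ε * v = v * MU.P ε ∧ MU.R ε * v = v * MU.R ε)
        ε m j v e
    have := cen_T1 h.toHyp e3 e2 c0 cc (c (MU.P ε) (by cases ε <;> decide)) (cm _ a1)
      (c (MU.R ε) (by cases ε <;> decide)) (cm _ a2)
    rw [Commute, SemiconjBy, ← cn_mul, ← cn_mul, ← map_mul, ← map_mul] at this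
    exact absurd (ψ_injective h hε hy (cn_inj this)) (by cases ε <;> decide)
  · have e4 : h.e * h.t ∈ h.U := (mul_mem_cancel_right (ψ_mem h hε _)).1 (e ▸ ψ_mem h hε _)
    have := cn_of (mem_centralizer_singleton_iff.1 (f_cen h e4)).symm
    rw [cn_cn, ← e1, (g_act h).2.2, cn_of (h.tf.mul_right (tz h.toPre)).symm] at this
    exact h.z1 (mul_eq_left.1 this)

omit hε hy in
theorem case_y (k : Kit h.toHyp) (hD : ∀ u ∈ h.U, ¬ IsConj h.t u)
    (hE : ∀ u ∈ h.U, (h.t * u) * (h.t * u) = 1 → ∃ v ∈ h.U, cn h.t v = h.t * u ∨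
      (h.y = 1 ∧ cn (h.t * h.f) v = h.t * u)) (hT : h.T ≤ h.T3) (hS : IsSyl 2 h.T3 ⊤)
    (hB : h.Big h.T3) (hy : h.y ≠ 1) : False := by
  obtain ⟨ε, hε⟩ := exists_eps h
  obtain ⟨e1, e2, e3⟩ := ge h hy
  have hδ : Dl h true := .inr ⟨rfl, hy⟩
  have tt : ∀ γ, cn h.t γ * cn h.t γ = 1 := fun γ => by rw [← cn_mul, h.tt]; simp [cn]
  have hN : ∀ γ, cn h.t γ ∉ h.U ⊔ zpowers h.g := fun γ hγ => by
    rcases mem_sup2 (g_norm h) (gg h) hγ with e | e
    · exact hD _ e (conj_cn _ _)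
    · obtain ⟨v, -, e⟩ := inv_conj h hε (e1 ▸ e2) hy (cn_g h hε hδ) (MU.inv_η ε) e (tt γ)
      exact e_not h hε hy k hS.isPGroup ((conj_cn _ γ).trans (e ▸ e1 ▸ (conj_cn _ v).symm))
  obtain ⟨h1, h2, c, hc, hX, h3⟩ := tr_T h k hS hB hN
  obtain ⟨p1, p2, -, -⟩ := pack h hc
  obtain ⟨-, -, p3, p4⟩ := pack h (.inl rfl)
  rw [e1] at hc
  have tT : h.t ∈ h.T := h.hT ▸ subset_closure (by simp)
  have cT : c ∈ h.T := by
    rcases hc with rfl | rfl
    exacts [H60.LT.e_mem _, mul_mem (H60.LT.e_mem _) tT]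
  have cc : c * c = 1 := by
    rcases hc with rfl | rfl
    exacts [e2, by rw [h.te.mul_mul_mul_comm, e2, h.tt, one_mul]]
  have tc : Commute h.t c := by
    rcases hc with rfl | rfl
    exacts [h.te, h.te.mul_right (Commute.refl _)]
  have cU : c ∉ h.U := fun e => by
    have := cn_of (mem_centralizer_singleton_iff.1 (f_cen h e)).symm
    rcases hc with rfl | rfl
    · rw [← e1, (g_act h).2.2] at this
      exact h.z1 (mul_eq_left.1 this)
    · rw [cn_cn, ← e1, (g_act h).2.2, cn_of (h.tf.mul_right (tz h.toPre)).symm] at this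
      exact h.z1 (mul_eq_left.1 this)
  have cB : c ∈ h.T3 ⊓ centralizer {c} := ⟨hT cT, mem_centralizer_singleton_iff.2 rfl⟩
  refine cU (k.trG h.T3 h.U (h.T3 ⊓ centralizer {c}) c hS (U_le h) ?_ hX cc (hT cT) cB
    (hS.isPGroup.to_le inf_le_left) inf_le_right fun γ hγ => ?_)
  · have : h.T3 ≤ closure ((h.U : Set G) ∪ {h.t, h.g, h.g}) := by
      rw [p4]
      exact sup_le (sup_le (fun x hx => subset_closure (.inl hx))
        (zpowers_le_of_mem (subset_closure (by simp)))) (zpowers_le_of_mem (subset_closure (by simp)))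
    exact fun x hx y hy' => comm3 (t_norm h) (g_norm h) (g_norm h) (tg h) (tg h) (by simp [cn])
      (this hx) (this hy')
  refine (mem_sup2 p1 p2 (h3 _ (hγ c cB) (h.Xn.conj_mem' _ hX _))).resolve_left fun hc1 => ?_
  have ht := (mem_sup2 p3 (h.tt ▸ one_mem _)
    (p4 ▸ hγ h.t ⟨t_mem h, mem_centralizer_singleton_iff.2 tc⟩)).resolve_left (hN γ)
  have back : ∀ {v : G}, v ∈ h.U → cn c (γ * v⁻¹) ∈ h.U := fun hv =>
    (cn_cn c γ _).symm ▸ cn_mem (le_normalizer (inv_mem hv)) hc1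
  rcases mem_sup2 (g_norm h) (gg h) ht with e | e
  · obtain ⟨v, hv, e | e⟩ := hE _ e (by rw [mul_inv_cancel_left, tt])
    · have e4 : cn h.t (γ * v⁻¹) = h.t := by
        rw [cn_cn, ← mul_inv_cancel_left h.t (cn h.t γ), ← e, cn_inv_cn]
      have e5 : cn c (γ * v⁻¹) ∈ h.T := by
        rw [← h.syl.eq_of_le (Q := h.T3 ⊓ centralizer {h.t}) (hS.isPGroup.to_le inf_le_left)
          (le_inf hT h.syl.le) inf_le_right]
        exact ⟨U_le h (back hv), mem_centralizer_singleton_iff.2 (e4 ▸ cn_comm tc.symm _)⟩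
      have := k.pi _ (mem_centralizer_singleton_iff.2 (comm_of_cn e4).symm) c cT e5
      exact cU (inv_mem_iff.1 ((mul_mem_cancel_right (back hv)).1
        (closure_mono (by simp [Set.subset_def]) this : _ ∈ h.U)))
    · exact hy e.1
  · obtain ⟨v, hv, e⟩ := inv_conj h hε (c := h.e * h.t) (s := cn h.t γ)
      (θ := fun u => (u.η true).τ true) (by rw [h.te.mul_mul_mul_comm, e2, h.tt, one_mul]) hy
      (fun u => by rw [cn_cn, ← e1, cn_g h hε hδ, cn_t h hε hδ]) (MU.inv_θ ε)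
      (by rwa [← h.te.eq, mul_inv_rev, mul_assoc, ← e1]) (tt γ)
    have e4 : cn h.t (γ * v⁻¹) = h.e * h.t := by rw [cn_cn, ← e, cn_inv_cn]
    rcases hc with rfl | rfl
    · exact et_not h hε hy k hS.isPGroup e4 (back hv)
    · exact h1 ((cn_inv_cn h.t (γ * v⁻¹)) ▸ h.Xn.conj_mem' _ (e4 ▸ hX) _)

end

theorem ee4 (hk : KitStmt.{u}) (hU : EUStmt.{u}) : EE4Stmt.{u} := by
  intro G _ _ h hS hB
  obtain ⟨h1, h2, -, -, -, -, -, h3⟩ := hU G h.toEE
  by_cases hy : h.y = 1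
  exacts [case_y1 h (hk G _) h1 hS hB hy, case_y h (hk G _) h1 h2 h3 hS hB hy]

end Cfsg.Agent.H89.EE
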