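import Cfsg.Agent.H89.EEM

/-! Tools for the case `S = T₃` of type EE: index two extensions, facts on `T`, facts on `U`. -/

set_option autoImplicit false

namespace Cfsg.Agent.H89.EE

open Subgroup H85 H93.LT
open H60.LT (bp bp_xor bp_comm bp_mem bp_cn cn_mul zab tz fz φ φ_inj ε_φ mem_T mem_T0 φ_z φ_t)

universe u

variable {G : Type u} [Group G]

theorem cn_mem {D : Subgroup G} {c x : G} (hc : c ∈ normalizer (D : Set G)) (hx : x ∈ D) :
    cn x c ∈ D := (mem_normalizer_iff''.1 hc _).1 hx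

theorem norm_of [Finite G] {D : Subgroup G} {c : G} (hc : ∀ x ∈ D, cn x c ∈ D) :
    c ∈ normalizer (D : Set G) :=
  inv_mem_iff.1 (mem_normalizer_fintype fun n hn => by simpa [cn] using hc n hn)

theorem conj_cn (x c : G) : IsConj x (cn x c) := isConj_iff.2 ⟨c⁻¹, by simp [cn]⟩

theorem cn_inv_cn (x c : G) : cn (cn x c) c⁻¹ = x := by simp [cn, mul_assoc]

theorem cn_inj {x y c : G} (e : cn x c = cn y c) : x = y := by
  rw [← cn_inv_cn x c, e, cn_inv_cn]

theorem cn_comm {x y : G} (e : Commute x y) (c : G) : Commute (cn x c) (cn y c) := by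
  rw [Commute, SemiconjBy, ← cn_mul, ← cn_mul, e.eq]

theorem comm_of_cn {x c : G} (e : cn x c = x) : Commute x c := by
  rw [cn, mul_assoc, inv_mul_eq_iff_eq_mul] at e
  exact e

theorem mem_sup2 {D : Subgroup G} {c s : G} (hc : c ∈ normalizer (D : Set G)) (h2 : c * c ∈ D)
    (hs : s ∈ D ⊔ zpowers c) : s ∈ D ∨ c⁻¹ * s ∈ D := by
  let K : Subgroup G :=
    { carrier := {s | s ∈ D ∨ c⁻¹ * s ∈ D}
      one_mem' := Or.inl D.one_mem
      mul_mem' := by
        rintro x y (hx | hx) (hy | hy)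
        · exact Or.inl (mul_mem hx hy)
        · exact Or.inr (by convert mul_mem (cn_mem hc hx) hy using 1; simp only [cn]; group)
        · exact Or.inr (by convert mul_mem hx hy using 1; group)
        · exact Or.inl (by
            convert mul_mem (mul_mem h2 (cn_mem hc hx)) hy using 1; simp only [cn]; group)
      inv_mem' := by
        rintro x (hx | hx)
        · exact Or.inl (inv_mem hx)
        · exact Or.inr (by
            convert mul_mem (cn_mem hc (inv_mem hx)) (inv_mem h2) using 1; simp only [cn]; group) }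
  exact (sup_le (show D ≤ K from fun _ hx => Or.inl hx)
    (zpowers_le_of_mem (Or.inr (by simp))) : D ⊔ zpowers c ≤ K) hs

theorem relIndex_two {D : Subgroup G} {c : G} (hc : c ∈ normalizer (D : Set G)) (h2 : c * c ∈ D)
    (h3 : c ∉ D) : D.relIndex (D ⊔ zpowers c) = 2 :=
  relIndex_eq_two_iff.2 ⟨c, mem_sup_right (mem_zpowers c), fun b hb => by
    rcases mem_sup2 hc h2 hb with e | e
    · exact Or.inr ⟨e, fun e' => h3 ((mul_mem_cancel_left e).1 e')⟩
    · refine Or.inl ⟨?_, fun e' => h3 (inv_mem_iff.1 ((mul_mem_cancel_right e').1 e))⟩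
      convert mul_mem h2 (cn_mem hc e) using 1; simp only [cn]; group⟩

theorem comm3 {N : Subgroup G} {p q r : G} (hp : p ∈ normalizer (N : Set G))
    (hq : q ∈ normalizer (N : Set G)) (hr : r ∈ normalizer (N : Set G))
    (h1 : p⁻¹ * cn p q ∈ N) (h2 : p⁻¹ * cn p r ∈ N) (h3 : q⁻¹ * cn q r ∈ N) {x y : G}
    (hx : x ∈ closure ((N : Set G) ∪ {p, q, r})) (hy : y ∈ closure ((N : Set G) ∪ {p, q, r})) :
    x⁻¹ * y⁻¹ * x * y ∈ N := by
  have k0 : ∀ x ∈ (N : Set G) ∪ {p, q, r}, x ∈ normalizer (N : Set G) := by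
    rintro x (hx | rfl | rfl | rfl)
    exacts [le_normalizer hx, hp, hq, hr]
  have k1 : ∀ x y : G, x⁻¹ * cn x y ∈ N → x⁻¹ * y⁻¹ * x * y ∈ N := fun x y e => by
    convert e using 1; simp only [cn]; group
  have k2 : ∀ x y : G, x⁻¹ * cn x y ∈ N → y⁻¹ * x⁻¹ * y * x ∈ N := fun x y e => by
    convert inv_mem e using 1; simp only [cn]; group
  refine H60.LT.comm_mem ((closure_le _).2 k0) (fun x hx y hy => ?_) hx hy
  by_cases a : x ∈ N
  · exact k1 _ _ (mul_mem (inv_mem a) (cn_mem (k0 y hy) a))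
  by_cases b : y ∈ N
  · exact k2 _ _ (mul_mem (inv_mem b) (cn_mem (k0 x hx) b))
  rcases hx.resolve_left a with rfl | rfl | rfl <;> rcases hy.resolve_left b with rfl | rfl | rfl
  all_goals first
    | exact k1 _ _ h1 | exact k1 _ _ h2 | exact k1 _ _ h3 | exact k2 _ _ h1 | exact k2 _ _ h2
    | exact k2 _ _ h3 | simp

section T

variable [Finite G] (h : Hyp G) (he : h.e ≠ 1) (hee : h.e * h.e = 1)
include he hee

omit [Finite G] in
theorem sq_e (w : H60.LT.M) : φ h w * h.e * (φ h w * h.e) = φ h (w * w.ε) := by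
  rw [map_mul, ← ε_φ h he, cn, inv_of hee]; group

/-- the elements of order four of `T` have square `z` -/
theorem sq_T {u : G} (hu : u ∈ h.T) (h4 : u * u * (u * u) = 1) (h2 : u * u ≠ 1) : u * u = h.z := by
  rcases mem_T h hu with e | e <;> obtain ⟨w, hw⟩ := (mem_T0 h).1 e
  · subst hw
    rw [← map_mul] at h2 h4 ⊢
    rw [← map_mul, ← map_one (φ h)] at h4
    rw [(by decide : ∀ w : H60.LT.M, w * w * (w * w) = 1 → w * w = 1 ∨ w * w = .z) w
      (φ_inj h h4) |>.resolve_left fun e => h2 (by rw [e, map_one]), φ_z]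
  · obtain rfl : u = φ h w * h.e := by rw [hw]; simp
    rw [sq_e h he hee] at h2 h4 ⊢
    rw [← map_mul, ← map_one (φ h)] at h4
    rw [(by decide : ∀ w : H60.LT.M, w * w.ε * (w * w.ε) = 1 → w * w.ε = 1 ∨ w * w.ε = .z) w
      (φ_inj h h4) |>.resolve_left fun e => h2 (by rw [e, map_one]), φ_z]

/-- the centraliser in `T` of an involution outside `T₀` -/
theorem cen_T {c u : G} (hc : c * h.e⁻¹ ∈ h.T0) (hcc : c * c = 1) (hu : u ∈ h.T)
    (huc : Commute u c) : ∃ w : H60.LT.M, (w.j = w.k ∧ w.k = w.l) ∧ Commute (φ h w) c ∧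
      (u = φ h w ∨ u = φ h w * c) := by
  obtain ⟨d, hd⟩ := (mem_T0 h).1 hc
  obtain rfl : c = φ h d * h.e := by rw [hd]; simp
  rw [sq_e h he hee, ← map_one (φ h)] at hcc
  have k : ∀ w, Commute (φ h w) (φ h d * h.e) → w.j = w.k ∧ w.k = w.l := fun w e => by
    have := cn_of e
    rw [cn_cn, cn, cn, ← map_inv, ← map_mul, ← map_mul, ← cn, ε_φ h he] at this
    exact (by decide +kernel : ∀ d w : H60.LT.M, d * d.ε = 1 → (d⁻¹ * w * d).ε = w →
      w.j = w.k ∧ w.k = w.l) d w (φ_inj h hcc) (φ_inj h this)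
  rcases mem_T h hu with e | e <;> obtain ⟨w, hw⟩ := (mem_T0 h).1 e
  · exact ⟨w, k w (hw ▸ huc), hw ▸ huc, .inl hw.symm⟩
  · have e1 : u = φ h (w * d⁻¹) * (φ h d * h.e) := by rw [map_mul, map_inv, hw]; group
    have e2 : Commute (φ h (w * d⁻¹)) (φ h d * h.e) := by
      have := huc.mul_left (Commute.refl (φ h d * h.e)).inv_left
      rwa [e1, mul_inv_cancel_right] at this
    exact ⟨_, k _ e2, e2, .inr e1⟩

theorem cen_T1 {c u v : G} (hc : c * h.e⁻¹ ∈ h.T0) (hcc : c * c = 1) (hu : u ∈ h.T)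
    (huc : Commute u c) (hv : v ∈ h.T) (hvc : Commute v c) : Commute u v := by
  obtain ⟨w, a1, a2, a3⟩ := cen_T h he hee hc hcc hu huc
  obtain ⟨w', b1, -, b3⟩ := cen_T h he hee hc hcc hv hvc
  have k : Commute (φ h w) (φ h w') := Commute.map ((by decide +kernel : ∀ w w' : H60.LT.M,
    (w.j = w.k ∧ w.k = w.l) → (w'.j = w'.k ∧ w'.k = w'.l) → w * w' = w' * w) w w' a1 b1) _
  have k1 : Commute (φ h w) v := by
    rcases b3 with rfl | rfl
    exacts [k, k.mul_right a2]
  rcases a3 with rfl | rfl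
  exacts [k1, k1.mul_left hvc.symm]

theorem cen_T2 {c u : G} (hc : c * h.e⁻¹ ∈ h.T0) (hcc : c * c = 1) (hu : u ∈ h.T)
    (huc : Commute u c) (huu : u * u = 1) : ∃ i m j : Bool, u = bp i h.t * bp m h.z * bp j c := by
  obtain ⟨w, a1, a2, a3⟩ := cen_T h he hee hc hcc hu huc
  have k : φ h (w * w) = φ h 1 := by
    rw [map_mul, map_one]
    rcases a3 with rfl | rfl
    · exact huu
    · rwa [a2.symm.mul_mul_mul_comm, hcc, mul_one] at huu
  have k1 := (by decide : ∀ w : H60.LT.M, (w.j = w.k ∧ w.k = w.l) → w * w = 1 →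
    w = bp w.i .t * bp w.m .z) w a1 (φ_inj h k)
  rw [k1, map_mul, ← bp_map, ← bp_map, φ_t, φ_z] at a3
  rcases a3 with e | e
  exacts [⟨_, _, false, e.trans (mul_one _).symm⟩, ⟨_, _, true, e⟩]

end T

end Cfsg.Agent.H89.EE
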