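import Cfsg.Agent.H89.EE4A

/-! Type EE with `S = T₃`: the structure of `S`, and the case `y = 1`. -/

set_option autoImplicit false

namespace Cfsg.Agent.H89.EE

open Subgroup H85 H93.LT
open H60.LT (bp bp_xor bp_comm bp_mem bp_cn cn_mul zab tz fz)

universe u

namespace MU

/-- no `f` -/
def N1 (ε : Bool) : Subgroup (MU ε) where
  carrier := {u | u.j = false}
  mul_mem' := fun {u v} hu hv => show (u.j ^^ v.j) = false by rw [hu, hv]; rfl
  one_mem' := rfl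
  inv_mem' := fun hu => hu

theorem noinv : ∀ (ε i : Bool) (u : MU ε), ¬ (X * bp i Z * u.η false * u).Tr := by decide +kernel

end MU

variable {G : Type u} [Group G] (h : EN G)

theorem mU {s : G} (hs : s ∈ ({h.z, h.f, h.x, h.y, h.a, h.b, h.m, h.n} : Set G)) : s ∈ h.U :=
  subset_closure hs

theorem U_le : h.U ≤ h.T3 := closure_mono fun x hx => by
  simp only [Set.mem_insert_iff, Set.mem_singleton_iff] at hx ⊢; tauto

theorem K1_le : h.K1 ≤ h.U := closure_mono fun x hx => by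
  simp only [Set.mem_insert_iff, Set.mem_singleton_iff] at hx ⊢; tauto

theorem t_mem : h.t ∈ h.T3 := subset_closure (by simp)
theorem g_mem : h.g ∈ h.T3 := subset_closure (by simp)

theorem exists_Dl : ∃ δ, Dl h δ :=
  (em (h.y = 1)).elim (fun e => ⟨false, .inl ⟨rfl, e⟩⟩) fun e => ⟨true, .inr ⟨rfl, e⟩⟩

theorem EA_K1 : EA h.K1 := by
  obtain ⟨ε, hε⟩ := exists_eps h
  intro s hs
  obtain ⟨u, hu, rfl⟩ := (show h.K1 ≤ (MU.K1 ε).map (ψ h hε) from (closure_le _).2 (by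
    rintro _ (rfl | rfl | rfl | rfl | rfl | rfl)
    exacts [⟨_, ⟨rfl, rfl⟩, ψ_Z h hε⟩, ⟨_, ⟨rfl, rfl⟩, ψ_F h hε⟩, ⟨_, ⟨rfl, rfl⟩, ψ_X h hε⟩,
      ⟨_, ⟨rfl, rfl⟩, ψ_Y h hε⟩, ⟨_, ⟨rfl, rfl⟩, ψ_A h hε⟩, ⟨_, ⟨rfl, rfl⟩, ψ_M h hε⟩])) hs
  rw [← map_mul, MU.K1_sq ε u hu, map_one]

theorem big1 {S : Subgroup G} (hB : h.Big S) {γ : G} (H : ∀ k ∈ h.K1, cn k γ ∈ S) :
    ∀ k ∈ h.K1, cn k γ ∈ h.U := by
  intro k hk
  refine hB (cj γ⁻¹ h.K1) (fun x hx => ?_) (fun x hx => ?_) (card_cj _ _).ge (mem_cj.2 ?_)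
  · simpa [cn, mul_assoc] using H _ (mem_cj.1 hx)
  · exact cn_inj (c := γ⁻¹) (by rw [cn_mul, EA_K1 h _ (mem_cj.1 hx)]; simp [cn])
  · simpa [cn, mul_assoc] using hk

theorem f_cen : h.U ≤ centralizer {h.f} := (closure_le _).2 (by
  rintro _ (rfl | rfl | rfl | rfl | rfl | rfl | rfl | rfl) <;>
    refine mem_centralizer_singleton_iff.2 ?_
  exacts [(fz h.toPre).symm.eq, rfl, h.xf.eq, h.yf.eq, h.fa.symm.eq, h.fb.symm.eq, h.mf.eq,
    h.nf.eq])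

theorem xbm : h.x = h.b⁻¹ * h.m⁻¹ * h.b * h.m := by
  rw [mul_assoc, mul_assoc, ← mul_assoc h.m⁻¹, show h.m⁻¹ * h.b * h.m = _ from h.bm]
  group

theorem tg : h.t⁻¹ * cn h.t h.g ∈ h.U := by
  rcases h.alt with e | e | e
  · rw [e.2.1, cn_of h.te]; simp
  · rw [e.2.2.2.2.2.1, mul_assoc, inv_mul_cancel_left]
    exact mul_mem (mU h (by simp)) (mU h (by simp))
  · rw [e.2.1, cn_of h.te]; simp

theorem gg : h.g * h.g ∈ h.U := by
  rcases h.gg' with ⟨e1, e2, -⟩ | ⟨-, -, e | e⟩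
  · rw [e1, e2]; exact one_mem _
  · exact e ▸ mU h (by simp)
  · exact e ▸ mul_mem (mU h (by simp)) (mU h (by simp))

variable [Finite G]

theorem t_norm : h.t ∈ normalizer (h.U : Set G) := by
  obtain ⟨ε, hε⟩ := exists_eps h
  obtain ⟨δ, hδ⟩ := exists_Dl h
  refine norm_of fun s hs => ?_
  obtain ⟨u, rfl⟩ := exists_ψ h hε hs
  exact cn_t h hε hδ u ▸ ψ_mem h hε _

theorem g_norm : h.g ∈ normalizer (h.U : Set G) := by
  obtain ⟨ε, hε⟩ := exists_eps h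
  obtain ⟨δ, hδ⟩ := exists_Dl h
  refine norm_of fun s hs => ?_
  obtain ⟨u, rfl⟩ := exists_ψ h hε hs
  exact cn_g h hε hδ u ▸ ψ_mem h hε _

theorem bigU {S : Subgroup G} (hB : h.Big S) {γ : G} (H : ∀ k ∈ h.U, cn k γ ∈ S) :
    ∀ k ∈ h.U, cn k γ ∈ h.U := by
  have h1 := big1 h hB fun k hk => H k (K1_le h hk)
  have h2 := big1 h hB (γ := h.g * γ) fun k hk =>
    (cn_cn k h.g γ).symm ▸ H _ (cn_mem (g_norm h) (K1_le h hk))
  refine fun k hk => mem_cj.1 ((show h.U ≤ cj γ h.U from (closure_le _).2 ?_) hk)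
  rintro _ (rfl | rfl | rfl | rfl | rfl | rfl | rfl | rfl) <;> refine mem_cj.2 ?_
  iterate 5 exact h1 _ (subset_closure (by simp))
  · have := h2 h.a (subset_closure (by simp))
    rwa [cn_cn, (g_act h).1] at this
  · exact h1 _ (subset_closure (by simp))
  · have := h2 h.m (subset_closure (by simp))
    rwa [cn_cn, (h.sw h.g1).2.1] at this

theorem pack {c : G} (hc : c = h.g ∨ c = h.g * h.t) :
    c ∈ normalizer (h.U : Set G) ∧ c * c ∈ h.U ∧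
      h.t ∈ normalizer ((h.U ⊔ zpowers c : Subgroup G) : Set G) ∧
      h.T3 = (h.U ⊔ zpowers c) ⊔ zpowers h.t := by
  have h1 : c ∈ normalizer (h.U : Set G) := by
    rcases hc with rfl | rfl
    exacts [g_norm h, mul_mem (g_norm h) (t_norm h)]
  have h0 : h.t⁻¹ * cn h.t c ∈ h.U := by
    rcases hc with rfl | rfl
    · exact tg h
    · convert cn_mem (t_norm h) (tg h) using 1; simp only [cn]; group
  have h2 : c * c ∈ h.U := by
    rcases hc with rfl | rfl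
    · exact gg h
    · convert mul_mem (gg h) (cn_mem (t_norm h) (tg h)) using 1
      simp only [cn, inv_of h.tt, ← mul_assoc]
      rw [mul_assoc _ h.t h.t, h.tt]; group
  refine ⟨h1, h2, norm_of fun s hs => ?_, le_antisymm ((closure_le _).2 ?_)
    (sup_le (sup_le (U_le h) ?_) (zpowers_le_of_mem (t_mem h)))⟩
  · rcases mem_sup2 h1 h2 hs with e | e
    · exact mem_sup_left (cn_mem (t_norm h) e)
    · convert mul_mem (mem_sup_right (mem_zpowers c))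
        (mem_sup_left (mul_mem (inv_mem h0) (cn_mem (t_norm h) e))) using 1
      simp only [cn]; group
  · rintro _ (rfl | rfl | rfl | rfl | rfl | rfl | rfl | rfl | rfl | rfl)
    iterate 8 exact mem_sup_left (mem_sup_left (mU h (by simp)))
    · exact mem_sup_right (mem_zpowers _)
    · rcases hc with rfl | rfl
      · exact mem_sup_left (mem_sup_right (mem_zpowers _))
      · exact (mul_mem_cancel_right (mem_sup_right (mem_zpowers h.t))).1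
          (mem_sup_left (mem_sup_right (mem_zpowers (h.g * h.t))))
  · rcases hc with rfl | rfl
    exacts [zpowers_le_of_mem (g_mem h), zpowers_le_of_mem (mul_mem (g_mem h) (t_mem h))]

omit [Finite G] in
theorem U_le_X (k : Kit h.toHyp) (hy : h.y ∈ h.X) : h.U ≤ h.X := by
  have hx : h.x ∈ h.X := xbm h ▸ k.cmX _ _
  refine (closure_le _).2 ?_
  rintro _ (rfl | rfl | rfl | rfl | rfl | rfl | rfl | rfl)
  exacts [k.aX.2.2, h.fX, hx, hy, k.aX.1, k.aX.2.1, h.xr ▸ h.Xn.conj_mem' _ hx _,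
    h.ws ▸ h.Xn.conj_mem' _ (h.wx'.symm ▸ hx) _]

/-- Thompson's lemma for `N = U⟨g⟩` -/
theorem tr_T (k : Kit h.toHyp) (hS : IsSyl 2 h.T3 ⊤) (hB : h.Big h.T3)
    (hD : ∀ γ, cn h.t γ ∉ h.U ⊔ zpowers h.g) : h.t ∉ h.X ∧ h.U ≤ h.X ∧
      ∃ c, (c = h.g ∨ c = h.g * h.t) ∧ c ∈ h.X ∧ ∀ s ∈ h.T3, s ∈ h.X → s ∈ h.U ⊔ zpowers c := by
  obtain ⟨-, -, p3, p4⟩ := pack h (.inl rfl)
  obtain ⟨h1, h2⟩ := k.trT h.T3 (h.U ⊔ zpowers h.g) hS (p4 ▸ le_sup_left)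
    (p4 ▸ relIndex_two p3 (h.tt ▸ one_mem _) (by simpa [cn] using hD 1)) fun γ _ => hD γ
  have h3 : h.U ≤ h.X := by
    refine U_le_X h k (h2 h.y h.K1 h.yy (subset_closure (by simp))
      (hS.isPGroup.to_le ((K1_le h).trans (U_le h))) ((closure_le _).2 ?_) fun γ hγ =>
        mem_sup_left (big1 h hB hγ _ (subset_closure (by simp))))
    rintro _ (rfl | rfl | rfl | rfl | rfl | rfl) <;> refine mem_centralizer_singleton_iff.2 ?_
    exacts [(zy h).eq, h.yf.symm.eq, h.xy.eq, rfl, h.ya.symm.eq, h.my.eq]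
  obtain ⟨c, hc, hX⟩ : ∃ c, (c = h.g ∨ c = h.g * h.t) ∧ c ∈ h.X :=
    (em (h.g ∈ h.X)).elim (fun e => ⟨_, .inl rfl, e⟩) fun e => ⟨_, .inr rfl, k.muX _ _ e h1⟩
  refine ⟨h1, h3, c, hc, hX, fun s hs hsX => ?_⟩
  obtain ⟨-, -, q3, q4⟩ := pack h hc
  refine (mem_sup2 q3 (h.tt ▸ one_mem _) (q4 ▸ hs)).resolve_right fun e => h1 ?_
  exact inv_mem_iff.1 ((mul_mem_cancel_right hsX).1 (sup_le h3 (zpowers_le_of_mem hX) e))

section Y1

variable {ε : Bool} (hε : h.m * h.n * h.m * h.n = h.x * bp ε h.z) (hy : h.y = 1)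

/-- `U₀` -/
def N1 : Subgroup G := (MU.N1 ε).map (ψ h hε)

omit [Finite G] in
theorem N1_le : N1 h hε ≤ h.U := by
  rintro _ ⟨u, -, rfl⟩
  exact ψ_mem h hε u

omit [Finite G] in
theorem f_not : h.f ∉ N1 h hε := by
  rintro ⟨v, hv, e⟩
  obtain ⟨δ, hδ⟩ := exists_Dl h
  have := (ψ_inj h hε hδ (u := MU.F⁻¹ * v) (by rw [map_mul, map_inv, ψ_F, e]; simp)).1.2.1
  change (true ^^ v.j) = false at this
  rw [show v.j = false from hv] at this
  exact absurd this (by decide)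

omit [Finite G] in
theorem cm_N1 {p q : G} (hp : p ∈ h.U) (hq : q ∈ h.U) : p⁻¹ * q⁻¹ * p * q ∈ N1 h hε := by
  obtain ⟨u, rfl⟩ := exists_ψ h hε hp
  obtain ⟨v, rfl⟩ := exists_ψ h hε hq
  exact ⟨_, (MU.cm_N0 u v).1, by simp⟩

omit [Finite G] in
theorem U_le_N1 {p q : G} : h.U ≤ closure ((N1 h hε : Set G) ∪ {h.f, p, q}) := by
  refine (closure_le _).2 ?_
  rintro _ (rfl | rfl | rfl | rfl | rfl | rfl | rfl | rfl) <;> refine subset_closure ?_
  exacts [.inl ⟨_, rfl, ψ_Z h hε⟩, .inr (by simp), .inl ⟨_, rfl, ψ_X h hε⟩,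
    .inl ⟨_, rfl, ψ_Y h hε⟩, .inl ⟨_, rfl, ψ_A h hε⟩, .inl ⟨_, rfl, ψ_B h hε⟩,
    .inl ⟨_, rfl, ψ_M h hε⟩, .inl ⟨_, rfl, ψ_N h hε⟩]

theorem f_N1 : h.f ∈ normalizer (N1 h hε : Set G) := norm_of fun _ hs =>
  (cn_of (mem_centralizer_singleton_iff.1 (f_cen h (N1_le h hε hs)))).symm ▸ hs

theorem g_N1 : h.g ∈ normalizer (N1 h hε : Set G) := norm_of (by
  obtain ⟨δ, hδ⟩ := exists_Dl h
  rintro _ ⟨u, hu, rfl⟩
  exact ⟨u.η δ, hu, (cn_g h hε hδ u).symm⟩)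

include hy

theorem t_N1 : h.t ∈ normalizer (N1 h hε : Set G) := norm_of (by
  rintro _ ⟨u, hu, rfl⟩
  exact ⟨u.τ false, (Bool.xor_false _).trans hu, (cn_t h hε (.inl ⟨rfl, hy⟩) u).symm⟩)

theorem f_fus {γ : G} (hγ : ∀ u ∈ h.U, cn u γ ∈ h.U) : h.f⁻¹ * cn h.f γ ∈ N1 h hε := by
  have hn := inv_mem (norm_of hγ)
  obtain ⟨v, hv⟩ := exists_ψ h hε (hγ _ (mU h (s := h.f) (by simp)))
  have k : ∀ w, (v⁻¹ * w⁻¹ * v * w).Tr := fun w => by
    have := cn_comm (mem_centralizer_singleton_iff.1 (f_cen h (cn_mem hn (ψ_mem h hε w)))) γ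
    rw [← hv, ← cn_cn, inv_mul_cancel, cn_of (Commute.one_right _)] at this
    refine (ψ_inj h hε (.inl ⟨rfl, hy⟩) ?_).1
    simp only [map_mul, map_inv]
    rw [mul_assoc, ← this.eq]; group
  obtain ⟨a1, a2, a3, a4⟩ := (by decide +kernel : ∀ (ε : Bool) (u : MU ε),
    (u⁻¹ * MU.A⁻¹ * u * MU.A).Tr → (u⁻¹ * MU.B⁻¹ * u * MU.B).Tr →
      u.a = false ∧ u.b = false ∧ u.m = false ∧ u.n = false) ε v (k _) (k _)
  cases hj : v.j
  · refine absurd ?_ (f_not h hε)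
    have c : ∀ {p q : G}, p ∈ h.U → q ∈ h.U → cn (p⁻¹ * q⁻¹ * p * q) γ⁻¹ ∈ N1 h hε := fun hp hq => by
      convert cm_N1 h hε (cn_mem hn hp) (cn_mem hn hq) using 1; simp only [cn]; group
    have e : ψ h hε v = bp v.i h.z * bp v.k h.x := by
      rw [ψ_apply, MU.ev, a1, a2, a3, a4, hj, hy]; simp [bp]
    rw [← cn_inv_cn h.f γ, ← hv, e, cn_mul, bp_cn, bp_cn]
    exact mul_mem (bp_mem (zab h.toPre ▸ c (mU h (by simp)) (mU h (by simp))) _)
      (bp_mem (xbm h ▸ c (mU h (by simp)) (mU h (by simp))) _)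
  · exact ⟨MU.F⁻¹ * v, show (true ^^ v.j) = false by rw [hj]; rfl, by
      rw [map_mul, map_inv, ψ_F, hv]⟩

end Y1

theorem case_y1 (k : Kit h.toHyp) (hD : ∀ u ∈ h.U, ¬ IsConj h.t u) (hS : IsSyl 2 h.T3 ⊤)
    (hB : h.Big h.T3) (hy : h.y = 1) : False := by
  obtain ⟨ε, hε⟩ := exists_eps h
  have hz : h.z ∈ N1 h hε := ⟨_, rfl, ψ_Z h hε⟩
  have hf : h.f ∈ h.U := mU h (by simp)
  have hP := hS.isPGroup.to_le (U_le h)
  have fg : h.f⁻¹ * cn h.f h.g ∈ N1 h hε := by rwa [(g_act h).2.2, inv_mul_cancel_left]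
  rcases h.gg' with ⟨e1, -, -⟩ | ⟨-, -, e1⟩
  · refine f_not h hε (k.trG h.T3 (N1 h hε) h.U h.f hS ((N1_le h hε).trans (U_le h)) ?_ h.fX h.ff
      (U_le h hf) hf hP (f_cen h) fun γ hγ => f_fus h hε hy (bigU h hB hγ))
    have : h.T3 ≤ closure ((N1 h hε : Set G) ∪ {h.f, h.t, h.g}) := by
      rw [(pack h (.inl rfl)).2.2.2]
      exact sup_le (sup_le (U_le_N1 h hε) (zpowers_le_of_mem (subset_closure (by simp))))
        (zpowers_le_of_mem (subset_closure (by simp)))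
    exact fun x hx y hy' => comm3 (f_N1 h hε) (t_N1 h hε hy) (g_N1 h hε)
      (by rw [cn_of h.tf.symm]; simp) fg (by rw [e1, cn_of h.te]; simp) (this hx) (this hy')
  · obtain ⟨i, hi⟩ : ∃ i, h.g * h.g = h.x * bp i h.z :=
      e1.elim (fun e => ⟨false, by rw [e]; simp [bp]⟩) fun e => ⟨true, e⟩
    obtain ⟨h1, h2, c, hc, hX, h3⟩ := tr_T h k hS hB fun γ hγ => by
      rcases mem_sup2 (g_norm h) (gg h) hγ with e | e
      · exact hD _ e (conj_cn _ _)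
      · obtain ⟨u, hu⟩ := exists_ψ h hε e
        refine MU.noinv ε i u (ψ_inj h hε (.inl ⟨rfl, hy⟩) ?_).1
        rw [map_mul, map_mul, map_mul, ← bp_map, ψ_X, ψ_Z, ← hi, ← cn_g h hε (.inl ⟨rfl, hy⟩), hu]
        calc _ = cn (h.t * h.t) γ := by simp only [cn]; group
          _ = 1 := by rw [h.tt]; simp [cn]
    refine f_not h hε (k.trX (h.T3 ⊓ h.X) (N1 h hε) h.U h.f (k.sylX _ hS)
      ((N1_le h hε).trans (le_inf (U_le h) h2)) ?_ h.ff ⟨U_le h hf, h.fX⟩ hf h2 hP (f_cen h)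
      fun γ _ hγ => f_fus h hε hy (bigU h hB fun u hu => (hγ u hu).1))
    have : h.T3 ⊓ h.X ≤ closure ((N1 h hε : Set G) ∪ {h.f, c, c}) := fun s hs =>
      sup_le (U_le_N1 h hε) (zpowers_le_of_mem (subset_closure (by simp))) (h3 s hs.1 hs.2)
    have cN : c ∈ normalizer (N1 h hε : Set G) := by
      rcases hc with rfl | rfl
      exacts [g_N1 h hε, mul_mem (g_N1 h hε) (t_N1 h hε hy)]
    have fc : h.f⁻¹ * cn h.f c ∈ N1 h hε := by
      rcases hc with rfl | rfl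
      · exact fg
      · rwa [cn_cn, (g_act h).2.2, cn_of (h.tf.mul_right (tz h.toPre)).symm, inv_mul_cancel_left]
    exact fun x hx y hy' => comm3 (f_N1 h hε) cN cN fc fc (by simp [cn]) (this hx) (this hy')

end Cfsg.Agent.H89.EE
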