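import Cfsg.Agent.H93.LT2Defs
import Cfsg.Agent.H60.LTKitA

/-! A model of the class two group `U` in the normal form `EN`, with the action of `t` and `g`. -/

set_option autoImplicit false

namespace Cfsg.Agent.H89.EE

open Subgroup H85 H93.LT
open H60.LT (bp bp_xor bp_comm bp_mem bp_cn cn_mul zab tz fz)

universe u

/-- `z ^ i f ^ j x ^ k y ^ l * a ^ a b ^ b m ^ m n ^ n`, with `(m n) ^ 2 = x z ^ ε` -/
structure MU (ε : Bool) where
  i : Bool
  j : Bool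
  k : Bool
  l : Bool
  a : Bool
  b : Bool
  m : Bool
  n : Bool
  deriving DecidableEq

namespace MU

variable {ε : Bool}

instance decAll (p : MU ε → Prop) [DecidablePred p] : Decidable (∀ u, p u) :=
  decidable_of_iff (∀ i j k l a b m n, p ⟨i, j, k, l, a, b, m, n⟩)
    ⟨fun h _ => h .., fun h _ _ _ _ _ _ _ _ => h _⟩

instance : Mul (MU ε) := ⟨fun u v =>
  ⟨(u.i ^^ v.i) ^^ ((u.b && v.a) ^^ (ε && (u.n && v.m))), u.j ^^ v.j,
    (u.k ^^ v.k) ^^ ((u.n && v.a) ^^ ((u.m && v.b) ^^ (u.n && v.m))), u.l ^^ v.l,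
    u.a ^^ v.a, u.b ^^ v.b, u.m ^^ v.m, u.n ^^ v.n⟩⟩
instance : One (MU ε) := ⟨⟨false, false, false, false, false, false, false, false⟩⟩
instance : Inv (MU ε) := ⟨fun u =>
  ⟨u.i ^^ ((u.b && u.a) ^^ (ε && (u.n && u.m))), u.j,
    u.k ^^ ((u.n && u.a) ^^ ((u.m && u.b) ^^ (u.n && u.m))), u.l, u.a, u.b, u.m, u.n⟩⟩

theorem as1 : ∀ ε i i' i'' b n a' b' m' n' a'' m'' : Bool,
    ((((i ^^ i') ^^ ((b && a') ^^ (ε && (n && m')))) ^^ i'') ^^
      (((b ^^ b') && a'') ^^ (ε && ((n ^^ n') && m'')))) =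
    ((i ^^ ((i' ^^ i'') ^^ ((b' && a'') ^^ (ε && (n' && m''))))) ^^
      ((b && (a' ^^ a'')) ^^ (ε && (n && (m' ^^ m''))))) := by decide +kernel

theorem as2 : ∀ k k' k'' m n a' b' m' n' a'' b'' m'' : Bool,
    ((((k ^^ k') ^^ ((n && a') ^^ ((m && b') ^^ (n && m')))) ^^ k'') ^^
      (((n ^^ n') && a'') ^^ (((m ^^ m') && b'') ^^ ((n ^^ n') && m'')))) =
    ((k ^^ ((k' ^^ k'') ^^ ((n' && a'') ^^ ((m' && b'') ^^ (n' && m''))))) ^^
      ((n && (a' ^^ a'')) ^^ ((m && (b' ^^ b'')) ^^ (n && (m' ^^ m''))))) := by decide +kernel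

instance : Group (MU ε) := Group.ofLeftAxioms (fun _ _ _ =>
  (MU.mk.injEq ..).mpr ⟨as1 .., Bool.xor_assoc .., as2 .., Bool.xor_assoc .., Bool.xor_assoc ..,
    Bool.xor_assoc .., Bool.xor_assoc .., Bool.xor_assoc ..⟩)
  (by revert ε; decide +kernel) (by revert ε; decide +kernel)

def Z : MU ε := ⟨true, false, false, false, false, false, false, false⟩
def F : MU ε := ⟨false, true, false, false, false, false, false, false⟩
def X : MU ε := ⟨false, false, true, false, false, false, false, false⟩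
def Y : MU ε := ⟨false, false, false, true, false, false, false, false⟩
def A : MU ε := ⟨false, false, false, false, true, false, false, false⟩
def B : MU ε := ⟨false, false, false, false, false, true, false, false⟩
def M : MU ε := ⟨false, false, false, false, false, false, true, false⟩
def N : MU ε := ⟨false, false, false, false, false, false, false, true⟩

/-- the action of `t`; `δ` says `y ≠ 1` -/
def τ (δ : Bool) (u : MU ε) : MU ε :=
  ⟨u.i ^^ (u.k ^^ (u.b && u.m)), u.j ^^ (δ && u.l), u.k ^^ (u.m && u.n), u.l, u.a ^^ u.m,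
    u.b ^^ u.n, u.m, u.n⟩

/-- the action of `g` -/
def η (δ : Bool) (u : MU ε) : MU ε :=
  ⟨u.i ^^ (u.j ^^ ((u.a && u.b) ^^ (ε && (u.m && u.n)))), u.j,
    u.k ^^ ((u.m && u.n) ^^ (δ && u.l)), u.l, u.b, u.a, u.n, u.m⟩

/-- the normal form word -/
def ev {H : Type*} [Group H] (z f x y a b m n : H) (u : MU ε) : H :=
  bp u.i z * bp u.j f * bp u.k x * bp u.l y * (bp u.a a * bp u.b b * bp u.m m * bp u.n n)

theorem ev_τ : ∀ (ε δ : Bool) (u : MU ε),
    ev Z F (X * Z) (Y * bp δ F) A B (M * A) (N * B) u = τ δ u := by decide +kernel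

theorem ev_η : ∀ (ε δ : Bool) (u : MU ε),
    ev Z (F * Z) X (bp δ X * Y) B A N M u = η δ u := by decide +kernel

/-- no `f`, no `y` -/
def N0 (ε : Bool) : Subgroup (MU ε) where
  carrier := {u | u.j = false ∧ u.l = false}
  mul_mem' := fun {u v} hu hv => ⟨show (u.j ^^ v.j) = false by rw [hu.1, hv.1]; rfl,
    show (u.l ^^ v.l) = false by rw [hu.2, hv.2]; rfl⟩
  one_mem' := ⟨rfl, rfl⟩
  inv_mem' := fun hu => hu

theorem cm_N0 (u v : MU ε) : u⁻¹ * v⁻¹ * u * v ∈ N0 ε :=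
  ⟨(by decide : ∀ p q : Bool, (((p ^^ q) ^^ p) ^^ q) = false) u.j v.j,
    (by decide : ∀ p q : Bool, (((p ^^ q) ^^ p) ^^ q) = false) u.l v.l⟩

/-- no `b`, no `n` -/
def K1 (ε : Bool) : Subgroup (MU ε) where
  carrier := {u | u.b = false ∧ u.n = false}
  mul_mem' := fun {u v} hu hv => ⟨show (u.b ^^ v.b) = false by rw [hu.1, hv.1]; rfl,
    show (u.n ^^ v.n) = false by rw [hu.2, hv.2]; rfl⟩
  one_mem' := ⟨rfl, rfl⟩
  inv_mem' := fun hu => hu

theorem K1_sq : ∀ (ε : Bool) (u : MU ε), u.b = false ∧ u.n = false → u * u = 1 := by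
  decide +kernel

/-- trivial up to `y` -/
def Tr (u : MU ε) : Prop :=
  u.i = false ∧ u.j = false ∧ u.k = false ∧ u.a = false ∧ u.b = false ∧ u.m = false ∧ u.n = false

instance (u : MU ε) : Decidable u.Tr := by unfold Tr; infer_instance

end MU

variable {G : Type u} [Group G]

theorem bp_swap {p q c : G} (h : q * p = c * (p * q)) (s t : Bool) :
    bp s q * bp t p = bp (s && t) c * (bp t p * bp s q) := by
  cases s <;> cases t <;> simp [bp, h]

theorem bp_map {H : Type*} [Group H] (φ : H →* G) (c : Bool) (y : H) :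
    bp c (φ y) = φ (bp c y) := by cases c <;> simp [bp]

theorem cn_of {x g : G} (h : Commute x g) : cn x g = x := by
  rw [cn, mul_assoc, h.eq, inv_mul_cancel_left]

theorem cn_cn (x g k : G) : cn x (g * k) = cn (cn x g) k := by simp only [cn]; group

theorem inv_of {x : G} (h : x * x = 1) : x⁻¹ = x := inv_eq_of_mul_eq_one_right h

variable (h : EN G)

theorem zx : Commute h.z h.x :=
  zab h.toPre ▸ ((h.xa.symm.inv_left.mul_left h.xb.symm.inv_left).mul_left h.xa.symm).mul_left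
    h.xb.symm

theorem zy : Commute h.z h.y :=
  zab h.toPre ▸ ((h.ya.symm.inv_left.mul_left h.yb.symm.inv_left).mul_left h.ya.symm).mul_left
    h.yb.symm

theorem exists_eps : ∃ ε : Bool, h.m * h.n * h.m * h.n = h.x * bp ε h.z :=
  h.ζ.elim (fun e => ⟨false, by rw [e]; simp [bp]⟩) fun e => ⟨true, e⟩

/-- the central part commutes with the generators -/
theorem cen_comm {w : G} (hz : Commute h.z w) (hf : Commute h.f w) (hx : Commute h.x w)
    (hy : Commute h.y w) (i j k l : Bool) :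
    Commute (bp i h.z * bp j h.f * bp k h.x * bp l h.y) w :=
  (((bp_comm hz i true).mul_left (bp_comm hf j true)).mul_left (bp_comm hx k true)).mul_left
    (bp_comm hy l true)

variable {ε : Bool} (hε : h.m * h.n * h.m * h.n = h.x * bp ε h.z)

/-- the model of `U` -/
def ψ : MU ε →* G := MonoidHom.mk' (MU.ev h.z h.f h.x h.y h.a h.b h.m h.n) fun u v => by
  have c : ∀ {w : G}, Commute w h.a → Commute w h.b → Commute w h.m → Commute w h.n →
      ∀ s a b m n, Commute (bp s w) (bp a h.a * bp b h.b * bp m h.m * bp n h.n) :=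
    fun h1 h2 h3 h4 s a b m n => (((bp_comm h1 _ _).mul_right (bp_comm h2 _ _)).mul_right
      (bp_comm h3 _ _)).mul_right (bp_comm h4 _ _)
  have cz := c h.za h.zb h.mz.symm h.nz.symm
  have cf := c h.fa h.fb h.mf.symm h.nf.symm
  have cx := c h.xa h.xb h.mx.symm h.nx.symm
  have cy := c h.ya h.yb h.my.symm h.ny.symm
  have s1 := bp_swap (H60.LT.ba h.toPre)
  have s2 := bp_swap (p := h.a) (q := h.n) (c := h.x) (by
    have := h.an
    rw [h.wx', cn, inv_of h.nn] at this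
    calc h.n * h.a = h.n * h.a * h.n * h.n := by rw [mul_assoc _ h.n, h.nn, mul_one]
      _ = _ := by rw [this, ← h.xa.eq, mul_assoc])
  have s3 := bp_swap (p := h.b) (q := h.m) (c := h.x) (by
    have := h.bm
    rw [cn, inv_of h.mm] at this
    calc h.m * h.b = h.m * h.b * h.m * h.m := by rw [mul_assoc _ h.m, h.mm, mul_one]
      _ = _ := by rw [this, ← h.xb.eq, mul_assoc])
  have s4 := bp_swap (p := h.m) (q := h.n) (c := h.x * bp ε h.z) (by
    have h1 : (h.x * bp ε h.z) * (h.x * bp ε h.z) = 1 := by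
      cases ε
      · simp [bp, h.xx]
      · show h.x * h.z * (h.x * h.z) = 1
        rw [(zx h).mul_mul_mul_comm, h.xx, h.zz, one_mul]
    rw [← inv_of h1, ← hε, eq_inv_mul_iff_mul_eq]
    calc h.m * h.n * h.m * h.n * (h.n * h.m) = h.m * h.n * h.m * (h.n * h.n) * h.m := by group
      _ = h.m * h.n * (h.m * h.m) := by rw [h.nn]; group
      _ = _ := by rw [h.mm, mul_one])
  have s5 : ∀ s, bp s (h.x * bp ε h.z) = bp s h.x * bp (ε && s) h.z := fun s => by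
    cases s <;> cases ε <;> simp [bp]
  have key : bp u.a h.a * bp u.b h.b * bp u.m h.m * bp u.n h.n *
      (bp v.a h.a * bp v.b h.b * bp v.m h.m * bp v.n h.n) =
      bp ((u.b && v.a) ^^ (ε && (u.n && v.m))) h.z *
        bp ((u.n && v.a) ^^ ((u.m && v.b) ^^ (u.n && v.m))) h.x *
        (bp (u.a ^^ v.a) h.a * bp (u.b ^^ v.b) h.b * bp (u.m ^^ v.m) h.m *
          bp (u.n ^^ v.n) h.n) := by
    have l1 : ∀ {p q r : G}, p * q = r → ∀ w, p * (q * w) = r * w := fun e w => by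
      rw [← mul_assoc, e]
    rw [bp_xor h.zz, bp_xor h.xx, bp_xor h.xx, bp_xor h.aa, bp_xor h.bb, bp_xor h.mm, bp_xor h.nn]
    simp only [mul_assoc]
    rw [l1 (s2 _ _)]
    simp only [mul_assoc]
    rw [(bp_comm h.nb _ _).left_comm, l1 (s4 _ _), s5, (bp_comm h.mx _ _).left_comm,
      (bp_comm h.ma _ _).left_comm, l1 (s3 _ _), (bp_comm h.xb.symm _ _).left_comm, l1 (s1 _ _)]
    simp only [mul_assoc, (bp_comm h.xa.symm _ _).left_comm, (bp_comm h.xb.symm _ _).left_comm,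
      (bp_comm h.mx _ _).left_comm, (bp_comm h.za.symm _ _).left_comm,
      (bp_comm h.zb.symm _ _).left_comm, (bp_comm h.mz _ _).left_comm,
      (bp_comm (zx h).symm _ _).left_comm]
  show bp ((u.i ^^ v.i) ^^ ((u.b && v.a) ^^ (ε && (u.n && v.m)))) h.z * bp (u.j ^^ v.j) h.f *
    bp ((u.k ^^ v.k) ^^ ((u.n && v.a) ^^ ((u.m && v.b) ^^ (u.n && v.m)))) h.x *
    bp (u.l ^^ v.l) h.y * (bp (u.a ^^ v.a) h.a * bp (u.b ^^ v.b) h.b * bp (u.m ^^ v.m) h.m *
      bp (u.n ^^ v.n) h.n) = _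
  unfold MU.ev
  rw [((((cz _ _ _ _ _).mul_left (cf _ _ _ _ _)).mul_left (cx _ _ _ _ _)).mul_left
    (cy _ _ _ _ _)).symm.mul_mul_mul_comm, key, bp_xor h.zz (u.i ^^ v.i), bp_xor h.zz u.i,
    bp_xor h.xx (u.k ^^ v.k), bp_xor h.xx u.k, bp_xor h.ff, bp_xor h.yy]
  simp only [mul_assoc, (bp_comm (fz h.toPre) _ _).left_comm, (bp_comm (zx h).symm _ _).left_comm,
    (bp_comm (zy h).symm _ _).left_comm, (bp_comm h.xf _ _).left_comm,
    (bp_comm h.yf _ _).left_comm, (bp_comm h.xy.symm _ _).left_comm]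

theorem ψ_apply (u : MU ε) : ψ h hε u = MU.ev h.z h.f h.x h.y h.a h.b h.m h.n u := rfl

theorem ψ_Z : ψ h hε MU.Z = h.z := by simp [ψ_apply, MU.ev, bp, MU.Z]
theorem ψ_F : ψ h hε MU.F = h.f := by simp [ψ_apply, MU.ev, bp, MU.F]
theorem ψ_X : ψ h hε MU.X = h.x := by simp [ψ_apply, MU.ev, bp, MU.X]
theorem ψ_Y : ψ h hε MU.Y = h.y := by simp [ψ_apply, MU.ev, bp, MU.Y]
theorem ψ_A : ψ h hε MU.A = h.a := by simp [ψ_apply, MU.ev, bp, MU.A]
theorem ψ_B : ψ h hε MU.B = h.b := by simp [ψ_apply, MU.ev, bp, MU.B]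
theorem ψ_M : ψ h hε MU.M = h.m := by simp [ψ_apply, MU.ev, bp, MU.M]
theorem ψ_N : ψ h hε MU.N = h.n := by simp [ψ_apply, MU.ev, bp, MU.N]

theorem ev_mem {K : Subgroup G} {z f x y a b m n : G} (h1 : z ∈ K) (h2 : f ∈ K) (h3 : x ∈ K)
    (h4 : y ∈ K) (h5 : a ∈ K) (h6 : b ∈ K) (h7 : m ∈ K) (h8 : n ∈ K) (u : MU ε) :
    MU.ev z f x y a b m n u ∈ K :=
  mul_mem (mul_mem (mul_mem (mul_mem (bp_mem h1 _) (bp_mem h2 _)) (bp_mem h3 _)) (bp_mem h4 _))
    (mul_mem (mul_mem (mul_mem (bp_mem h5 _) (bp_mem h6 _)) (bp_mem h7 _)) (bp_mem h8 _))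

theorem ψ_mem (u : MU ε) : ψ h hε u ∈ h.U :=
  ev_mem (subset_closure (by simp)) (subset_closure (by simp)) (subset_closure (by simp))
    (subset_closure (by simp)) (subset_closure (by simp)) (subset_closure (by simp))
    (subset_closure (by simp)) (subset_closure (by simp)) u

theorem exists_ψ {s : G} (hs : s ∈ h.U) : ∃ u, ψ h hε u = s := by
  refine (show h.U ≤ (ψ h hε).range from (closure_le _).2 ?_) hs
  rintro _ (rfl | rfl | rfl | rfl | rfl | rfl | rfl | rfl)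
  exacts [⟨_, ψ_Z h hε⟩, ⟨_, ψ_F h hε⟩, ⟨_, ψ_X h hε⟩, ⟨_, ψ_Y h hε⟩, ⟨_, ψ_A h hε⟩,
    ⟨_, ψ_B h hε⟩, ⟨_, ψ_M h hε⟩, ⟨_, ψ_N h hε⟩]

theorem cn_ψ {c : G} {z f x y a b m n : MU ε} (h1 : cn h.z c = ψ h hε z) (h2 : cn h.f c = ψ h hε f)
    (h3 : cn h.x c = ψ h hε x) (h4 : cn h.y c = ψ h hε y) (h5 : cn h.a c = ψ h hε a)
    (h6 : cn h.b c = ψ h hε b) (h7 : cn h.m c = ψ h hε m) (h8 : cn h.n c = ψ h hε n) (u : MU ε) :
    cn (ψ h hε u) c = ψ h hε (MU.ev z f x y a b m n u) := by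
  rw [ψ_apply]
  simp only [MU.ev, cn_mul, bp_cn, h1, h2, h3, h4, h5, h6, h7, h8, map_mul, bp_map]

theorem cn_t_of {p c : G} (hp : p * p = 1) (hc : Commute h.t c) (e : cn h.t p = h.t * c) :
    cn p h.t = p * c := by
  rw [cn, inv_of hp] at e
  rw [cn, inv_of h.tt]
  calc h.t * p * h.t = p * (p * h.t * p) * p * p * h.t := by
        rw [← mul_assoc p, ← mul_assoc p, hp, one_mul, mul_assoc _ p p, hp, mul_one]
    _ = p * (h.t * c * h.t) := by rw [e, mul_assoc _ p p, hp, mul_one, mul_assoc]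
    _ = _ := by rw [hc.eq, mul_assoc c, h.tt, mul_one]

/-- `δ` says whether `y ≠ 1` -/
def Dl (δ : Bool) : Prop := (δ = false ∧ h.y = 1) ∨ (δ = true ∧ h.y ≠ 1)

theorem f1 : h.f ≠ 1 := fun e => h.fL (e ▸ h.L.one_mem)

theorem ty (hy : h.y ≠ 1) : cn h.t h.y = h.t * h.f := by
  rcases h.alt with e | e | e
  exacts [absurd e.1 hy, absurd e.1 hy, e.1]

variable {δ : Bool}

theorem cn_t (hδ : Dl h δ) (u : MU ε) : cn (ψ h hε u) h.t = ψ h hε (u.τ δ) := by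
  rw [← MU.ev_τ]
  apply cn_ψ
  · rw [ψ_Z, cn_of (tz h.toPre).symm]
  · rw [ψ_F, cn_of h.tf.symm]
  · rw [map_mul, ψ_X, ψ_Z, cn_t_of h h.xx (tz h.toPre) h.tx]
  · rw [map_mul, ← bp_map, ψ_Y, ψ_F]
    rcases hδ with ⟨rfl, e⟩ | ⟨rfl, e⟩
    · simp [e, bp, cn]
    · exact cn_t_of h h.yy h.tf (ty h e)
  · rw [ψ_A, cn_of h.ta.symm]
  · rw [ψ_B, cn_of h.tb.symm]
  · rw [map_mul, ψ_M, ψ_A, cn_t_of h h.mm h.ta h.tm]
  · rw [map_mul, ψ_N, ψ_B, cn_t_of h h.nn h.tb h.tn]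

theorem g_act : cn h.a h.g = h.b ∧ cn h.b h.g = h.a ∧ cn h.f h.g = h.f * h.z := by
  have k : h.g = h.e → cn h.a h.g = h.b ∧ cn h.b h.g = h.a ∧ cn h.f h.g = h.f * h.z := fun e => by
    obtain ⟨h1, h2, h3, -⟩ := h.he.resolve_left (e ▸ h.g1)
    exact e ▸ ⟨h1, h2, h3⟩
  rcases h.alt with e | e | e
  exacts [k e.2.1, ⟨e.2.2.1, e.2.2.2.1, e.2.2.2.2.1⟩, k e.2.1]

theorem cn_g (hδ : Dl h δ) (u : MU ε) : cn (ψ h hε u) h.g = ψ h hε (u.η δ) := by
  obtain ⟨h1, h2, h3⟩ := g_act h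
  obtain ⟨h4, h5, -⟩ := h.sw h.g1
  rw [← MU.ev_η]
  apply cn_ψ
  · rw [← ψ_Z h hε, show (MU.Z : MU ε) = MU.A * MU.B * (MU.A * MU.B) by cases ε <;> decide, map_mul,
      map_mul, ψ_A, ψ_B, cn_mul, cn_mul, h1, h2, ← ψ_A h hε, ← ψ_B h hε, ← map_mul, ← map_mul,
      ← map_mul, ← map_mul]
    congr 1
    cases ε <;> decide
  · rw [map_mul, ψ_F, ψ_Z, h3]
  · rw [ψ_X, h4, h.wx']
  · rw [map_mul, ← bp_map, ψ_Y, ψ_X]
    rcases hδ with ⟨rfl, e⟩ | ⟨rfl, e⟩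
    · simp [e, bp, cn]
    · rcases h.gg' with ⟨e1, -, e2⟩ | e1
      · rw [e1, e2 e]; rfl
      · exact absurd e1.1 e
  · rw [ψ_B, h1]
  · rw [ψ_A, h2]
  · rw [ψ_N, h5]
  · rw [ψ_M, ← h5, ← cn_cn]
    rcases h.gg' with ⟨e1, e2, -⟩ | ⟨-, -, e | e⟩
    · rw [e1, e2]; simp
    · rw [e, cn_of h.mx]
    · rw [e, cn_of (h.mx.mul_right h.mz)]

theorem ψ_inj (hδ : Dl h δ) {u : MU ε} (hu : ψ h hε u = 1) : u.Tr ∧ (δ = true → u = 1) := by
  have k0 : ∀ i j : Bool, bp i h.z * bp j h.f = 1 → i = false ∧ j = false := fun i j e => by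
    have : H60.LT.φ h.toHyp (bp i H60.LT.M.z * bp j H60.LT.M.f) = H60.LT.φ h.toHyp 1 := by
      rw [map_mul, ← bp_map, ← bp_map, H60.LT.φ_z, H60.LT.φ_f, e, map_one]
    exact (by decide : ∀ i j : Bool, bp i H60.LT.M.z * bp j H60.LT.M.f = 1 →
      i = false ∧ j = false) i j (H60.LT.φ_inj _ this)
  have k1 : ∀ v : MU ε, ψ h hε v = 1 → v.k = false → (v.l = true → δ = false) → v.a = false →
      v.b = false → v.m = false → v.n = false → v.i = false ∧ v.j = false := by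
    intro v e a1 a2 a3 a4 a5 a6
    apply k0
    rw [ψ_apply, MU.ev, a1, a3, a4, a5, a6] at e
    rcases hδ with ⟨-, e1⟩ | ⟨e1, -⟩
    · simpa [bp, e1] using e
    · have : v.l = false := by
        cases hl : v.l
        · rfl
        · rw [a2 hl] at e1; exact absurd e1 (by decide)
      simpa [bp, this] using e
  have k2 : ∀ v : MU ε, ψ h hε v = 1 → v.a = false → v.b = false → v.m = false → v.n = false →
      v.Tr ∧ (δ = true → v = 1) := by
    intro v e a3 a4 a5 a6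
    have e1 : ψ h hε (v⁻¹ * v.τ δ) = 1 := by rw [map_mul, map_inv, ← cn_t h hε hδ, e]; simp [cn]
    have e2 := (by decide +kernel : ∀ (ε δ : Bool) (v : MU ε), v.a = false → v.b = false →
      v.m = false → v.n = false → ((v⁻¹ * v.τ δ).k = false ∧ (v⁻¹ * v.τ δ).l = false ∧
        (v⁻¹ * v.τ δ).a = false ∧ (v⁻¹ * v.τ δ).b = false ∧ (v⁻¹ * v.τ δ).m = false ∧
        (v⁻¹ * v.τ δ).n = false) ∧ ((v⁻¹ * v.τ δ).i = false ∧ (v⁻¹ * v.τ δ).j = false →
        (v.k = false ∧ (v.l = true → δ = false)) ∧ (v.i = false ∧ v.j = false →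
          v.Tr ∧ (δ = true → v = 1)))) ε δ v a3 a4 a5 a6
    obtain ⟨⟨b1, b2, b3, b4, b5, b6⟩, e3⟩ := e2
    obtain ⟨⟨c1, c2⟩, e4⟩ := e3 (k1 _ e1 b1 (fun e => absurd (b2 ▸ e) (by decide)) b3 b4 b5 b6)
    exact e4 (k1 v e c1 c2 a3 a4 a5 a6)
  have k3 : ∀ w : MU ε, (u⁻¹ * w⁻¹ * u * w).Tr := fun w => by
    have p : ∀ p q : Bool, (((p ^^ q) ^^ p) ^^ q) = false := by decide
    exact (k2 _ (by simp [hu]) (p u.a w.a) (p u.b w.b) (p u.m w.m) (p u.n w.n)).1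
  obtain ⟨a1, a2, a3, a4⟩ := (by decide +kernel : ∀ (ε : Bool) (u : MU ε),
    (u⁻¹ * MU.A⁻¹ * u * MU.A).Tr → (u⁻¹ * MU.B⁻¹ * u * MU.B).Tr →
      u.a = false ∧ u.b = false ∧ u.m = false ∧ u.n = false) ε u (k3 _) (k3 _)
  exact k2 u hu a1 a2 a3 a4

theorem ψ_injective (hy : h.y ≠ 1) : Function.Injective (ψ h hε) :=
  (injective_iff_map_eq_one _).2 fun _ e => (ψ_inj h hε (.inr ⟨rfl, hy⟩) e).2 rfl

end Cfsg.Agent.H89.EE
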