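import Mathlib

/-! A lattice inequality for sums of four squares. -/

set_option autoImplicit false

namespace Cfsg.Agent.H89.K4Ar

/-- the lattice hypothesis -/
def Hy (q x y z : ℤ) : Prop := ∀ a b c d : ℤ, q ∣ b - a * x → q ∣ c - a * y → q ∣ d - a * z →
  q * a ≤ a ^ 2 + b ^ 2 + c ^ 2 + d ^ 2

theorem key {q x y z : ℤ} (hq : q = 1 + x ^ 2 + y ^ 2 + z ^ 2) (H : Hy q x y z) (u v w : ℤ) :
    (u * x + v * y + w * z) * (u * x + v * y + w * z + 1) ≤ q * (u ^ 2 + v ^ 2 + w ^ 2) := by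
  have h0 : 0 < q := by rw [hq]; positivity
  have h := H (q - (u * x + v * y + w * z)) (q * u - (u * x + v * y + w * z) * x)
    (q * v - (u * x + v * y + w * z) * y) (q * w - (u * x + v * y + w * z) * z)
    ⟨u - x, by ring⟩ ⟨v - y, by ring⟩ ⟨w - z, by ring⟩
  refine le_of_mul_le_mul_left ?_ h0
  have e : (q - (u * x + v * y + w * z)) ^ 2 + (q * u - (u * x + v * y + w * z) * x) ^ 2 +
      (q * v - (u * x + v * y + w * z) * y) ^ 2 + (q * w - (u * x + v * y + w * z) * z) ^ 2 -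
      q * (q - (u * x + v * y + w * z)) = q * (q * (u ^ 2 + v ^ 2 + w ^ 2)) -
      q * ((u * x + v * y + w * z) * (u * x + v * y + w * z + 1)) := by
    rw [hq]; ring
  linarith

theorem step {q x y z : ℤ} (hq : q = 1 + x ^ 2 + y ^ 2 + z ^ 2) (H : Hy q x y z) (j e f g : ℤ)
    (h1 : 8 ∣ j * x + e) (h2 : 8 ∣ j * y + f) (h3 : 8 ∣ j * z + g) :
    (8 * j - j ^ 2 - (e ^ 2 + f ^ 2 + g ^ 2)) * (q - 1) ≤ e ^ 2 + f ^ 2 + g ^ 2 + (4 - j) ^ 2 := by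
  obtain ⟨u, hu⟩ := h1
  obtain ⟨v, hv⟩ := h2
  obtain ⟨w, hw⟩ := h3
  have h := key hq H u v w
  have e1 : e = 8 * u - j * x := by linarith
  have e2 : f = 8 * v - j * y := by linarith
  have e3 : g = 8 * w - j * z := by linarith
  have hs := sq_nonneg (e * x + f * y + g * z + (4 - j))
  have id : e ^ 2 + f ^ 2 + g ^ 2 + (4 - j) ^ 2 -
      (8 * j - j ^ 2 - (e ^ 2 + f ^ 2 + g ^ 2)) * (q - 1) =
      64 * (q * (u ^ 2 + v ^ 2 + w ^ 2) -
        (u * x + v * y + w * z) * (u * x + v * y + w * z + 1)) +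
        (e * x + f * y + g * z + (4 - j)) ^ 2 := by
    rw [hq, e1, e2, e3]; ring
  linarith

theorem core {q x y z : ℤ} (hq : q = 1 + x ^ 2 + y ^ 2 + z ^ 2) (H : Hy q x y z)
    (hx : x % 2 = 1) (hy : y % 2 = 1) (hz : z % 2 = 0) : q ≤ 16 := by
  have r : ∀ j t : ℤ, 8 ∣ j * t + ((4 - j * t) % 8 - 4) := fun j t => by omega
  by_cases h4 : z % 4 = 0
  · have h := step hq H 2 _ _ _ (r 2 x) (r 2 y) (r 2 z)
    have a1 : (4 - 2 * x) % 8 - 4 = 2 ∨ (4 - 2 * x) % 8 - 4 = -2 := by omega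
    have a2 : (4 - 2 * y) % 8 - 4 = 2 ∨ (4 - 2 * y) % 8 - 4 = -2 := by omega
    have a3 : (4 - 2 * z) % 8 - 4 = 0 := by omega
    rcases a1 with a1 | a1 <;> rcases a2 with a2 | a2 <;> rw [a1, a2, a3] at h <;> linarith
  · by_cases h1 : (x % 8 = 1 ∨ x % 8 = 7) ∧ (y % 8 = 1 ∨ y % 8 = 7)
    · have h := step hq H 1 _ _ _ (r 1 x) (r 1 y) (r 1 z)
      have a1 : (4 - 1 * x) % 8 - 4 = 1 ∨ (4 - 1 * x) % 8 - 4 = -1 := by omega
      have a2 : (4 - 1 * y) % 8 - 4 = 1 ∨ (4 - 1 * y) % 8 - 4 = -1 := by omega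
      have a3 : (4 - 1 * z) % 8 - 4 = 2 ∨ (4 - 1 * z) % 8 - 4 = -2 := by omega
      rcases a1 with a1 | a1 <;> rcases a2 with a2 | a2 <;> rcases a3 with a3 | a3 <;>
        rw [a1, a2, a3] at h <;> linarith
    · have h := step hq H 3 _ _ _ (r 3 x) (r 3 y) (r 3 z)
      have a1 : (((4 - 3 * x) % 8 - 4 = 1 ∨ (4 - 3 * x) % 8 - 4 = -1) ∧
          ((4 - 3 * y) % 8 - 4 = 1 ∨ (4 - 3 * y) % 8 - 4 = -1 ∨ (4 - 3 * y) % 8 - 4 = 3 ∨
            (4 - 3 * y) % 8 - 4 = -3)) ∨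
          (((4 - 3 * x) % 8 - 4 = 3 ∨ (4 - 3 * x) % 8 - 4 = -3) ∧
          ((4 - 3 * y) % 8 - 4 = 1 ∨ (4 - 3 * y) % 8 - 4 = -1)) := by omega
      have a3 : (4 - 3 * z) % 8 - 4 = 2 ∨ (4 - 3 * z) % 8 - 4 = -2 := by omega
      rcases a1 with ⟨a1 | a1, a2 | a2 | a2 | a2⟩ | ⟨a1 | a1, a2 | a2⟩ <;>
        rcases a3 with a3 | a3 <;> rw [a1, a2, a3] at h <;> linarith

/-- odd modulus -/
theorem odd {q x y z : ℤ} (hq : q = 1 + x ^ 2 + y ^ 2 + z ^ 2) (H : Hy q x y z)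
    (ho : q % 2 = 1) : q ≤ 16 := by
  have sq : ∀ t : ℤ, t ^ 2 % 2 = t % 2 := fun t => by
    rcases Int.emod_two_eq_zero_or_one t with h | h <;> simp [pow_two, Int.mul_emod, h]
  have s1 := sq x
  have s2 := sq y
  have s3 := sq z
  rcases Int.emod_two_eq_zero_or_one x with hx | hx <;>
    rcases Int.emod_two_eq_zero_or_one y with hy | hy <;>
      rcases Int.emod_two_eq_zero_or_one z with hz | hz
  · have h := step hq H 4 0 0 0 (by omega) (by omega) (by omega)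
    linarith
  · omega
  · omega
  · exact core (x := y) (y := z) (z := x) (by linarith)
      (fun a b c d h1 h2 h3 => by linarith [H a d b c h3 h1 h2]) hy hz hx
  · omega
  · exact core (x := x) (y := z) (z := y) (by linarith)
      (fun a b c d h1 h2 h3 => by linarith [H a b d c h1 h3 h2]) hx hz hy
  · exact core hq H hx hy hz
  · omega

/-- a sum `1 + x² + y² + z²` is not divisible by `8` -/
theorem not_eight {q x y z : ℤ} (hq : q = 1 + x ^ 2 + y ^ 2 + z ^ 2) : ¬ 8 ∣ q := by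
  have sq : ∀ t : ℤ, t ^ 2 % 8 = 0 ∨ t ^ 2 % 8 = 1 ∨ t ^ 2 % 8 = 4 := fun t => by
    have : t % 8 = 0 ∨ t % 8 = 1 ∨ t % 8 = 2 ∨ t % 8 = 3 ∨ t % 8 = 4 ∨ t % 8 = 5 ∨ t % 8 = 6 ∨
      t % 8 = 7 := by omega
    rcases this with h | h | h | h | h | h | h | h <;> simp [pow_two, Int.mul_emod, h]
  have s1 := sq x
  have s2 := sq y
  have s3 := sq z
  omega

/-- nonzero entries and odd modulus: `q = 7` or `q = 15` -/
theorem odd' {q x y z : ℤ} (hq : q = 1 + x ^ 2 + y ^ 2 + z ^ 2) (H : Hy q x y z)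
    (ho : q % 2 = 1) (hx : x ≠ 0) (hy : y ≠ 0) (hz : z ≠ 0) : q = 7 ∨ q = 13 ∨ q = 15 := by
  have h := odd hq H ho
  have b : ∀ t : ℤ, t ≠ 0 → t ^ 2 ≤ 15 → t ^ 2 = 1 ∨ t ^ 2 = 4 ∨ t ^ 2 = 9 := by
    intro t h0 h1
    have h2 : t ≤ 3 := by nlinarith
    have h3 : -3 ≤ t := by nlinarith
    interval_cases t <;> simp_all
  have p1 := sq_nonneg x
  have p2 := sq_nonneg y
  have p3 := sq_nonneg z
  have s1 := b x hx (by linarith)
  have s2 := b y hy (by linarith)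
  have s3 := b z hz (by linarith)
  omega

end Cfsg.Agent.H89.K4Ar
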