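import Mathlib
import Cfsg.Agent.H89.SolvInd
import Cfsg.Agent.H1.Zipper
import Cfsg.Agent.H3.Frattini
import Cfsg.Agent.H3.Fitting
import Cfsg.Agent.H4.CoprimeAction
import Cfsg.Agent.H6.Basic
import Cfsg.Agent.H8.Tate
import Cfsg.Agent.H8.SylowIn
import Cfsg.Agent.H52.Fitting
import Cfsg.Agent.S0023
import Cfsg.Agent.S0108

/-!
Thompson's theorem: a finite group with a nilpotent maximal subgroup of odd order is solvable.
-/

set_option autoImplicit false

namespace Cfsg.Agent.H89

open Subgroup

universe u

/-- A `p`-subgroup that is Sylow in its normalizer is Sylow. -/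
theorem isSylowIn_top_of_normalizer {G : Type*} [Group G] [Finite G] {p : ℕ} [Fact p.Prime]
    {S : Subgroup G} (hS : H8.IsSylowIn p S (normalizer (S : Set G))) : H8.IsSylowIn p S ⊤ := by
  refine H8.isSylowIn_of_maximal le_top hS.isPGroup fun Q hQ _ hSQ => ?_
  by_contra h
  have h1 := H8.lt_inf_normalizer_of_lt hQ (lt_of_le_of_ne hSQ fun h2 => h h2.ge)
  exact h1.ne' (hS.eq_of_le hQ.to_inf_left inf_le_right h1.le)

/-- In a core-free maximal subgroup `M`, a nontrivial normal subgroup has normalizer `M`. -/
theorem normalizer_eq_of_coatom {G : Type*} [Group G] {M X : Subgroup G} (hmax : IsCoatom M)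
    (hcf : ∀ N : Subgroup G, N.Normal → N ≤ M → N = ⊥) (hX : X ≠ ⊥) (hXM : X ≤ M)
    (hn : M ≤ normalizer (X : Set G)) : normalizer (X : Set G) = M := by
  rcases hn.eq_or_lt with h | h
  · exact h.symm
  · exact absurd (hcf X (normalizer_eq_top_iff.1 (hmax.2 _ h)) hXM) hX

/-- A maximal solvable subgroup with a coprime normal complement forces solvability. -/
theorem isSolvable_of_coatom_complement {G : Type*} [Group G] [Finite G] {M K : Subgroup G}
    (hmax : IsCoatom M) (hs : Group.IsSolvable M) [K.Normal] (hK : K.IsComplement' M)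
    (hcop : (Nat.card M).Coprime M.index) : Group.IsSolvable G := by
  have h1 : Nat.card K = M.index := hK.index_eq_card.symm
  have h2 : M.index ≠ 1 := fun h => hmax.1 (index_eq_one.1 h)
  obtain ⟨q, hq, hqd⟩ := Nat.exists_prime_and_dvd h2
  have := Fact.mk hq
  obtain ⟨Q, hQ⟩ := S0023.result M K le_normalizer_of_normal (h1 ▸ hcop) (Or.inl hs) q
  have h3 : Group.IsSolvable ↥(M ⊔ (Q : Subgroup K).map K.subtype) :=
    H52.isSolvable_sup_of_le_normalizer hs (isSolvable_of_isPGroup hq (Q.isPGroup'.map _)) hQ
  have h4 : M ⊔ (Q : Subgroup K).map K.subtype = ⊤ := by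
    refine hmax.2 _ (lt_of_le_of_ne le_sup_left fun h => ?_)
    have h5 : (Q : Subgroup K).map K.subtype ≤ K ⊓ M :=
      le_inf (map_subtype_le _) (h ▸ le_sup_right)
    rw [disjoint_iff.1 hK.disjoint, le_bot_iff, Subgroup.map_eq_bot_iff, ker_subtype,
      le_bot_iff] at h5
    have h6 := Q.not_dvd_index
    rw [h5, index_bot, h1] at h6
    exact h6 hqd
  rw [h4] at h3
  exact Group.isSolvable_of_surjective (f := (⊤ : Subgroup G).subtype) topEquiv.surjective

theorem isSolvable_of_coatom_nilpotent_odd (G : Type u) [Group G] [Finite G] (M : Subgroup G)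
    (hmax : IsCoatom M) (hnil : Group.IsNilpotent M) (hodd : Odd (Nat.card M)) :
    Group.IsSolvable G := by
  induction h : Nat.card G using Nat.strong_induction_on generalizing G with
  | _ n ih =>
    by_cases hcf : ∀ N : Subgroup G, N.Normal → N ≤ M → N = ⊥
    swap
    · push Not at hcf
      obtain ⟨N, hN, hNM, h0⟩ := hcf
      have h2 : Group.IsNilpotent N := H3.isNilpotent_of_le hNM hnil
      have h3 : Group.IsSolvable (G ⧸ N) := by
        refine ih _ ?_ (G ⧸ N) (M.map (QuotientGroup.mk' N))
          (H3.isCoatom_map_of_surjective (QuotientGroup.mk'_surjective N) hmax (by simpa))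
          (H3.isNilpotent_map hnil _) (hodd.of_dvd_nat (card_map_dvd _ _)) rfl
        rw [← h, ← index_eq_card, ← N.card_mul_index]
        have h4 : 1 < Nat.card N := (one_lt_card_iff_ne_bot N).2 h0
        have h5 : 0 < N.index := Nat.pos_of_ne_zero index_ne_zero_of_finite
        nlinarith
      exact Group.isSolvable_of_ker_le_range N.subtype (QuotientGroup.mk' N) (by simp)
    have key : ∀ p : ℕ, p.Prime → p ∣ Nat.card M →
        ¬ p ∣ M.index ∧ HasNormalPComplement p G := by
      intro p hp hpM
      have := Fact.mk hp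
      obtain ⟨P0⟩ : Nonempty (Sylow p M) := inferInstance
      have hS := H8.isSylowIn_map_subtype P0
      have hn := H1.le_normalizer_sylow_of_isNilpotent P0
      set S := (P0 : Subgroup M).map M.subtype
      have hpS : p ∣ Nat.card S := by
        rw [hS.card_eq]
        exact dvd_pow_self p (hp.factorization_pos_of_dvd Nat.card_pos.ne' hpM).ne'
      have hS0 : S ≠ ⊥ := by
        intro h0
        rw [h0, card_bot] at hpS
        exact hp.not_dvd_one hpS
      have h1 := normalizer_eq_of_coatom hmax hcf hS0 hS.le hn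
      have h2 := isSylowIn_top_of_normalizer (h1 ▸ hS)
      obtain ⟨P, hP⟩ := H8.isSylowIn_top_iff.1 h2
      have hp2 : p ≠ 2 := by
        rintro rfl
        exact (Nat.not_even_iff_odd.2 hodd) (even_iff_two_dvd.2 hpM)
      refine ⟨fun h3 => P.not_dvd_index (h3.trans (index_dvd_of_le (hP ▸ hS.le))), ?_⟩
      refine (S0108.result hp2 P).2 ⟨?_, ?_⟩
      · rw [hP, normalizer_eq_of_coatom hmax hcf (H6.thompsonSubgroupOf_ne_bot hpS)
          ((H6.thompsonSubgroupOf_le S).trans hS.le)
          (hn.trans (H6.normalizer_le_normalizer_thompsonSubgroupOf S))]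
        exact H8.hasNormalPComplement_of_isNilpotent p
      · have h3 : S ⊓ centralizer (S : Set G) ≠ ⊥ :=
          H3.inf_centralizer_ne_bot_of_isNilpotent hS.isPGroup.isNilpotent le_rfl le_normalizer hS0
        have h4 : M ≤ normalizer ((S ⊓ centralizer (S : Set G) : Subgroup G) : Set G) :=
          (le_inf hn (hn.trans (H4.normalizer_le_normalizer_centralizer _))).trans
            inf_normalizer_le_normalizer_inf
        have h5 := normalizer_eq_of_coatom hmax hcf h3 (inf_le_left.trans hS.le) h4
        refine H8.HasNormalPComplement.mono (H8.hasNormalPComplement_of_isNilpotent (G := M) p) ?_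
        rw [← h5, ← hP]
        exact centralizer_le_normalizer _
    have hcop : (Nat.card M).Coprime M.index :=
      Nat.coprime_of_dvd fun p hp h1 => (key p hp h1).1
    obtain ⟨K, hK, hKc⟩ := H8.exists_normal_isComplement'_of_forall_prime hcop
      fun p hp h1 => (key p hp h1).2
    exact isSolvable_of_coatom_complement hmax inferInstance hKc hcop

end Cfsg.Agent.H89
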