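import Mathlib
import Cfsg.Agent.H89.MaxNilp
import Cfsg.Agent.H89.PBasic
import Cfsg.Agent.H92.ClassSize
import Cfsg.Agent.S0556

/-!
Finite groups in which the centralizer of every noncentral element is a maximal subgroup.
-/

set_option autoImplicit false

namespace Cfsg.Agent.H89

open Subgroup H92

variable {G : Type*} [Group G] [Finite G]

/-- All centralizers of noncentral elements are maximal subgroups. -/
def MaxCent (G : Type*) [Group G] : Prop := ∀ g : G, g ∉ center G → IsCoatom (Ce[g])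

omit [Finite G] in
theorem MaxCent.eq_of_le (h : MaxCent G) {x y : G} (hx : x ∉ center G) (hy : y ∉ center G)
    (hle : Ce[x] ≤ Ce[y]) : Ce[x] = Ce[y] :=
  ((h x hx).le_iff_eq (h y hy).1).1 hle |>.symm

theorem MaxCent.le_of_coprime (h : MaxCent G) {x y : G} (hx : x ∉ center G) (hc : Commute x y)
    (hcop : (orderOf x).Coprime (orderOf y)) : Ce[x] ≤ Ce[y] := by
  have h1 : x * y ∉ center G := fun h2 =>
    hx (zpowers_le.2 h2 (mem_zpowers_mul_of_coprime hc hcop))
  have h2 := C_mul_of_coprime hc hcop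
  rw [← h.eq_of_le h1 hx (h2 ▸ inf_le_left), h2]
  exact inf_le_right

/-- The centralizer of a noncentral `q`-element is abelian or a `q`-group modulo the centre. -/
theorem MaxCent.comm_or (h : MaxCent G) {q : ℕ} (hq : q.Prime) {x : G} (hx : x ∉ center G)
    (hxq : ∃ k, orderOf x = q ^ k) :
    IsMulCommutative (Ce[x]) ∨ ∀ y ∈ Ce[x], ¬ q ∣ orderOf y → y ∈ center G := by
  by_cases h1 : ∀ y ∈ Ce[x], ¬ q ∣ orderOf y → y ∈ center G
  · exact Or.inr h1
  left
  push Not at h1
  obtain ⟨y, hy, hyq, hyZ⟩ := h1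
  have h2 : Ce[x] = Ce[y] :=
    h.eq_of_le hx hyZ (h.le_of_coprime hx (mem_C'.1 hy) (coprime_of_pow_of_not_dvd hq hxq hyq))
  refine isMulCommutative_of_comm fun a ha b hb => ?_
  obtain ⟨u, v, hu, hv, rfl, huq, hvq⟩ := exists_p_parts hq b
  have hu' : u ∈ Ce[x] := zpowers_le.2 hb hu
  have hv' : v ∈ Ce[x] := zpowers_le.2 hb hv
  have h3 : a ∈ Ce[v] :=
    h.le_of_coprime hx (mem_C'.1 hv') (coprime_of_pow_of_not_dvd hq hxq hvq) ha
  have h4 : a ∈ Ce[u] :=
    h.le_of_coprime hyZ (mem_C'.1 (h2 ▸ hu')) (coprime_of_pow_of_not_dvd hq huq hyq).symm (h2 ▸ ha)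
  exact ((mem_C.1 h4).mul_right (mem_C.1 h3)).eq

theorem isPGroup_map_center {q : ℕ} (hq : q.Prime) {M : Subgroup G}
    (h : ∀ y ∈ M, ¬ q ∣ orderOf y → y ∈ center G) :
    IsPGroup q (M.map (QuotientGroup.mk' (center G))) := by
  rintro ⟨_, m, hm, rfl⟩
  obtain ⟨u, v, hu, hv, rfl, ⟨k, hk⟩, hvq⟩ := exists_p_parts hq m
  refine ⟨k, Subtype.ext ?_⟩
  have h1 : QuotientGroup.mk' (center G) v = 1 :=
    (QuotientGroup.eq_one_iff _).2 (h v (zpowers_le.2 hm hv) hvq)
  change (QuotientGroup.mk' (center G) (u * v)) ^ q ^ k = 1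
  rw [map_mul, h1, mul_one, ← map_pow, ← hk, pow_orderOf_eq_one, map_one]

theorem exists_pElement_not_mem {N : Subgroup G} [N.Normal] {q : ℕ} (hq : q.Prime)
    (h : q ∣ N.index) : ∃ x : G, x ∉ N ∧ ∃ k, orderOf x = q ^ k := by
  have := Fact.mk hq
  obtain ⟨P⟩ : Nonempty (Sylow q G) := inferInstance
  by_contra hc
  push Not at hc
  refine not_dvd_index_of_sylow_le P (fun x hx => ?_) h
  by_contra hxN
  obtain ⟨k, hk⟩ := IsPGroup.iff_orderOf.1 P.isPGroup' ⟨x, hx⟩
  exact hc x hxN k (by rw [← hk, orderOf_mk])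

theorem isSolvable_of_quotient_center (h : Group.IsSolvable (G ⧸ center G)) :
    Group.IsSolvable G := by
  have : Group.IsSolvable (center G) := Group.isSolvable_of_comm fun a b =>
    Subtype.ext (mem_center_iff.1 b.2 a)
  exact Group.isSolvable_of_ker_le_range (center G).subtype (QuotientGroup.mk' (center G)) (by simp)

theorem MaxCent.isSolvable (h : MaxCent G) : Group.IsSolvable G := by
  by_cases h2 : ∀ q : ℕ, q.Prime → q ∣ (center G).index → q = 2
  · obtain ⟨k, hk⟩ := (eq_pow_iff_forall Nat.prime_two index_ne_zero_of_finite).2 h2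
    exact isSolvable_of_quotient_center
      (isSolvable_of_isPGroup Nat.prime_two (IsPGroup.of_card hk))
  push Not at h2
  obtain ⟨q, hq, hqd, hq2⟩ := h2
  have := Fact.mk hq
  obtain ⟨x, hx, hxq⟩ := exists_pElement_not_mem hq hqd
  rcases h.comm_or hq hx hxq with h1 | h1
  · exact ⟨⟨3, S0556.result _ (h x hx)⟩⟩
  · have h3 := isPGroup_map_center hq h1
    refine isSolvable_of_quotient_center (isSolvable_of_coatom_nilpotent_odd _ _
      (H3.isCoatom_map_of_surjective (QuotientGroup.mk'_surjective _) (h x hx)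
        (by rw [QuotientGroup.ker_mk']; exact center_le_C x)) h3.isNilpotent ?_)
    obtain ⟨k, hk⟩ := IsPGroup.iff_card.1 h3
    rw [hk]
    exact (hq.odd_of_ne_two hq2).pow

end Cfsg.Agent.H89
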