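import Cfsg.Agent.H89.OlDefs

/-!
# Olsson's bound for 2-blocks of defect at most five: assembly
-/

set_option autoImplicit false

namespace Cfsg.Agent.H89.Ol

open Subgroup Cfsg.Agent.H18 Cfsg.Agent.H17 Cfsg.Agent.H26.K64 MonoidAlgebra
open Cfsg.Agent.H19 (kk)
open scoped Classical

universe u

theorem ga (h0 : GA0Stmt.{u}) (h1 : GA1Stmt.{u}) (h3 : GA3Stmt.{u}) (h7 : GA7Stmt.{u})
    (h31 : GA31Stmt.{u}) : GAStmt.{u} := by
  intro A _ _ I hA hc h32 ho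
  rcases h1 I (h0 A I hA hc h32 ho) with h | ⟨σ, hσ, hn⟩
  · obtain ⟨u, hu⟩ := h3 A I hA h
    exact ⟨u, Or.inl hu⟩
  · have hN : ∀ τ ∈ I, τ * σ * τ⁻¹ ∈ zpowers (σ : MulAut A) := fun τ hτ => by
      obtain ⟨k, hk⟩ := hn.conj_mem σ (mem_zpowers σ) ⟨τ, hτ⟩
      exact ⟨k, congrArg Subtype.val hk⟩
    rw [← orderOf_coe] at hσ
    rcases hσ with h | h | h
    · exact h7 A I σ hA hc h32 ho σ.2 (Or.inl h) hN
    · exact h7 A I σ hA hc h32 ho σ.2 (Or.inr h) hN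
    · exact h31 A I σ hA h32 ho σ.2 h hN

variable {G : Type u} [Group G] [Fintype G] {M : Ideal AlgInt} {B : Set (IrrCharacter G)}
  {P : Subgroup G} {e : (kk M)[G]}

theorem cy_of_aut (hab : P ≤ Cz P) {u : P} {r : ℕ} {τ : MulAut P}
    (hτ : τ ∈ H20.autOf (H20.NP_le_Nz' (P := P) (e := e))) (hu : τ u = u) (h1 : τ ≠ 1)
    (hr : τ ^ r = 1)
    (hg : ∀ σ ∈ H20.autOf (H20.NP_le_Nz' (P := P) (e := e)), σ u = u →
      ∃ i : ℕ, σ = τ ^ i) :
    ∃ t, CY P e (Cz (zpowers (u : G))) t r ∧ ∀ a : P, (τ a : G) = t * a * t⁻¹ := by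
  obtain ⟨t, rfl⟩ := hτ
  let ψ := P.normalizerMonoidHom.comp
    (Subgroup.inclusion (H20.NP_le_Nz' (P := P) (e := e)))
  have hker : ∀ g, ψ g = 1 ↔ (g : G) ∈ Cz P := fun g => by
    rw [MonoidHom.comp_apply, ← MonoidHom.mem_ker, normalizerMonoidHom_ker, mem_subgroupOf]; rfl
  have hfix : ∀ g, ψ g u = u ↔ (g : G) ∈ Cz (zpowers (u : G)) := fun g => by
    rw [mem_Cz_zpowers, Subtype.ext_iff, eq_comm (a := (u : G) * g), ← mul_inv_eq_iff_eq_mul]; rfl
  refine ⟨t, ⟨hab, t.2, (hfix t).1 hu, (hker (t ^ r)).1 (by rw [map_pow]; exact hr),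
    fun h => h1 ((hker t).2 h), fun g hg' hL => ?_⟩, fun _ => rfl⟩
  obtain ⟨i, hi⟩ := hg _ ⟨⟨g, hg'⟩, rfl⟩ ((hfix ⟨g, hg'⟩).2 hL)
  refine ⟨i, (hker ((t ^ i)⁻¹ * ⟨g, hg'⟩)).1 ?_⟩
  rw [map_mul, map_inv, map_pow, inv_mul_eq_one]
  exact hi.symm

theorem card_CP_loc {H : Subgroup G} (hP : P ≤ H) (t : H) :
    CP (P.subgroupOf H) t = CP P t := by
  rw [CP, ← card_map_subtype]
  congr 2
  ext x
  constructor
  · rintro ⟨y, ⟨h1, h2⟩, rfl⟩
    exact ⟨h1, mem_Cz_zpowers.2 (congrArg Subtype.val (mem_Cz_zpowers.1 h2))⟩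
  · rintro ⟨h1, h2⟩
    exact ⟨⟨x, hP h1⟩, ⟨h1, mem_Cz_zpowers.2 (Subtype.ext (mem_Cz_zpowers.1 h2))⟩, rfl⟩

theorem ab (ga : GAStmt.{u}) (tr : TRStmt.{u}) (nil : NILStmt.{u}) (e3 : E3Stmt.{u})
    (ea : E5AStmt.{u}) (eb : E5BStmt.{u}) (ec : E5CStmt.{u}) : ABStmt.{u} := by
  intro G _ _ M B P e s hab h32
  have := s.charP
  have := Fintype.ofFinite (IrrCharacter G)
  have h1 := s.max.not_dvd_relIndex s.prim
  rw [top_inf_eq, sup_eq_right.2 hab, ← H20.card_autOf H20.NP_le_Nz'] at h1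
  obtain ⟨u, hu⟩ := ga P _ s.pair.isP (H20.comm_of_le_Cz hab) h32 h1
  have hP : P ≤ Cz (zpowers (u : G)) := hab.trans (Cz_anti (zpowers_le.2 u.2))
  have := Fintype.ofFinite (Cz (zpowers (u : G)))
  have := Fintype.ofFinite (IrrCharacter (Cz (zpowers (u : G))))
  have key : blockRank 2 (lb M 2 P e u) ≤ 3 → Nat.card B ≤ Nat.card P := fun h => by
    rw [s.card_eq]
    exact card_le_of_major (z := slf (u : G)) s.hM (s.ind_lb u.2) (s.defect_lb u.2 hP)
      (H21.Cz_zpowers _) (s.isPElt_slf u.2) h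
  have s' := s.loc_bs (s.loc_of_le (s.sub u.2) le_rfl (s.Cz_le_NP u.2) hP)
  have hcard := H4.card_subgroupOf_of_le hP
  rcases hu with h | ⟨τ, hτ, h2, h3, h4, h5, h6⟩ | ⟨τ, hτ, h2, h3, h4, h5, h6, h7, h8, h9⟩
  · refine key ((nil G M B P e u s hab u.2 fun t ht h2 => ?_).1.trans_le (by omega))
    have h3 := h _ ⟨⟨t, ht⟩, rfl⟩ (Subtype.ext (mul_inv_eq_iff_eq_mul.2 h2))
    rwa [MonoidHom.comp_apply, ← MonoidHom.mem_ker, normalizerMonoidHom_ker, mem_subgroupOf] at h3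
  · obtain ⟨t, hc, ht⟩ := cy_of_aut hab hτ h2 h3 h4 h5
    refine key (e3 _ M _ _ _ _ s' (tr G M B P e u t 3 s u.2 hc) (hcard ▸ h32) ?_).le
    rw [card_CP_loc hP, hcard, ← h6, CP, ← card_map_subtype (fx τ)]
    congr 3
    ext x
    constructor
    · rintro ⟨h7, h8⟩
      refine ⟨⟨x, h7⟩, mem_fx.2 (Subtype.ext ?_), rfl⟩
      rw [ht, mem_Cz_zpowers.1 h8, mul_inv_cancel_right]
    · rintro ⟨y, h7, rfl⟩
      exact ⟨y.2, mem_Cz_zpowers.2 (mul_inv_eq_iff_eq_mul.1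
        ((ht y).symm.trans (congrArg Subtype.val (mem_fx.1 h7))))⟩
  · obtain ⟨t, hc, ht⟩ := cy_of_aut hab hτ h2 h3 h4 h5
    have h10 : H5 M _ _ _ ⟨t, hc.memL⟩ (slf (u : G)) := ⟨s', tr G M B P e u t 5 s u.2 hc,
      hcard.trans h6, fun a ha => Subtype.ext (Subtype.ext_iff.1 (h7 ⟨a, ha⟩) :), u.2,
      fun h => h8 (Subtype.ext (Subtype.ext_iff.1 h :)), slf_comm _, fun a ha h => by
        rcases h9 ⟨a, ha⟩ (Subtype.ext ((ht _).trans
          (mul_inv_eq_iff_eq_mul.2 (Subtype.ext_iff.1 h :)))) with h | h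
        · exact Or.inl (Subtype.ext (Subtype.ext_iff.1 h :))
        · exact Or.inr (Subtype.ext (Subtype.ext_iff.1 h :))⟩
    obtain ⟨d, h11, h12, h13⟩ := ea _ M (lb M 2 P e u) _ _ _ _ h10
    rcases eb _ _ d h11 with h14 | h14
    · exact key (by omega)
    have h15 := H20.card_mul_min_le (z := slf (u : G)) s.hM (s.ind_lb u.2) (s.defect_lb u.2 hP)
      (H21.Cz_zpowers _) (s.isPElt_slf u.2) (μ := blockRank 2 (lb M 2 P e u)) fun η hη => by
        obtain ⟨y, hy⟩ := ec _ M _ _ _ _ _ d h10 h13 η hη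
        rw [hy]
        refine (h14 y).imp (fun h => by rw [h, Int.cast_zero]) fun h => ?_
        rw [Complex.intCast_re]
        rw [h12] at h
        exact_mod_cast (by push_cast at h; omega :
          (blockRank 2 (lb M 2 P e u) : ℤ) ≤ qf (Xz (lb M 2 P e u) (slf (u : G))) d y)
    rw [s.card_eq]
    exact Nat.le_of_mul_le_mul_right h15 (H21.blockRank_pos s.hM s'.hB)

theorem nice_bound [Fintype (IrrCharacter G)] (t1 : T1Stmt.{u}) (ess : ESSStmt.{u})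
    (s : BS M 2 B P e) (h : Nice P) :
    (hz 2 B).card * Nat.card (⁅P, P⁆ : Subgroup G) ≤ Nat.card P := by
  obtain ⟨X, u, hu, hX, h1, h2, h3, h4⟩ := h
  refine (Nat.mul_le_mul_right _ (t1 G M B P e u s hu (fun v hv => h1 v hv.right ?_) h2)).trans h3
  by_contra h5
  obtain ⟨Q, N, h6⟩ := ess G M B P e X u v s hv hX h5
  exact h4 Q N h6

theorem nice_eight (h32 : Nat.card P = 32) (h4 : Nat.card (⁅P, P⁆ : Subgroup G) = 4) {a : G}
    (ha : a ∈ P) (h8 : orderOf a = 8) (h : ∀ b ∈ P, orderOf b = 8 → CP P b ≤ 8) : Nice P := by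
  have h1 : 8 ≤ CP P a := by
    rw [← h8, ← Nat.card_zpowers]
    exact card_le_of_le (le_inf (zpowers_le.2 ha) (zpowers_le.2 (mem_Cz_zpowers.2 rfl)))
  have h2 := h a ha h8
  refine ⟨{b | orderOf b = 8}, a, ha, h8, fun v hv h3 => (h v hv h3).trans h1, by omega,
    by rw [h4]; omega, fun Q N hE => ?_⟩
  obtain ⟨n, -, x, -, h5, h6⟩ := hE.bad
  exact h6 (by rwa [Set.mem_ofPred_eq, ← MulAut.conj_apply, MulEquiv.orderOf_eq])

theorem main (ab : ABStmt.{u}) (t1 : T1Stmt.{u}) (ess : ESSStmt.{u}) (cl : CLStmt.{u})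
    (b1 : GB1Stmt.{u}) (b2 : GB2Stmt.{u}) (c0 : GC0Stmt.{u}) (c1 : GC1Stmt.{u})
    (c2 : GC2Stmt.{u}) (c3 : GC3Stmt.{u}) (s : BS M 2 B P e) (h32 : Nat.card P ≤ 32) :
    Nat.card {χ : IrrCharacter G // χ ∈ B ∧ blockHeight 2 B χ.1 = 0} ≤
      (_root_.commutator P).index := by
  have := Fintype.ofFinite (IrrCharacter G)
  have hP : IsPGroup 2 P := s.pair.isP
  have hk : Nat.card {χ : IrrCharacter G // χ ∈ B ∧ blockHeight 2 B χ.1 = 0} = (hz 2 B).card := by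
    rw [Nat.card_eq_fintype_card, Fintype.card_subtype]
  have hc : Nat.card (_root_.commutator P) = Nat.card (⁅P, P⁆ : Subgroup G) := by
    rw [← card_map_subtype, Subgroup.map_subtype_commutator]
  have hi := (_root_.commutator P).card_mul_index
  have hpos : 0 < Nat.card (⁅P, P⁆ : Subgroup G) := Nat.card_pos
  rw [hc] at hi
  have red : (hz 2 B).card * Nat.card (⁅P, P⁆ : Subgroup G) ≤ Nat.card P →
      Nat.card {χ : IrrCharacter G // χ ∈ B ∧ blockHeight 2 B χ.1 = 0} ≤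
        (_root_.commutator P).index := fun h => by
    rw [hk]
    refine Nat.le_of_mul_le_mul_right ?_ hpos
    rwa [mul_comm (index _), hi]
  obtain ⟨j, hj⟩ := (hP.to_le (show ⁅P, P⁆ ≤ P from
    Subgroup.map_subtype_commutator P ▸ map_subtype_le _)).exists_card_eq
  rcases Nat.eq_zero_or_pos j with rfl | hj0
  · refine red ?_
    have h1 : ⁅P, P⁆ = ⊥ := card_eq_one.1 hj
    have h2 := ab G M B P e s (commutator_eq_bot_iff_le_centralizer.1 h1) h32
    rw [hj, pow_zero, mul_one]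
    refine le_trans ?_ h2
    rw [H21.natCard_eq_card_filter]
    exact Finset.card_le_card hz_subset
  have hna : ¬ Nat.card P ≤ 4 := fun h => by
    have h1 := (H71.isMulCommutative_of_card_le_sq hP h).is_comm.comm
    have h2 : ⁅P, P⁆ = ⊥ := commutator_eq_bot_iff_le_centralizer.2 (H20.le_Cz_of_comm h1)
    rw [h2, card_bot] at hj
    exact (Nat.one_lt_two_pow hj0.ne').ne hj
  have h4 := H9.sq_le_index_commutator hP (show 2 ^ 2 ≤ Nat.card P by omega)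
  by_cases h5 : (_root_.commutator P).index = 4
  · rw [h5]
    obtain h2 | ⟨a, b, n, h2⟩ := H9.taussky hP h5
    · omega
    have := h2.one_le
    rcases h2.iso_cases with h3 | h3 | ⟨h3, h6⟩
    · exact (S4528.result M s.hM B s.hB P s.dg (n + 2) (by omega) h3).2.2.2.1.le
    · exact (S4530.result M s.hM B s.hB P s.dg (n + 2) (by omega) h3).2.2.2.1.le
    · exact (S4529.result M s.hM B s.hB P s.dg (n + 2) (by omega) h2.card_top h6).2.2.2.2.2.1.le
  obtain ⟨i, hi'⟩ := hP.index (_root_.commutator P)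
  have h8 : 8 ≤ (_root_.commutator P).index := by
    rw [hi'] at h4 h5 ⊢
    have h6 : 2 ≤ i := (Nat.pow_le_pow_iff_right one_lt_two).1 h4
    have h7 : i ≠ 2 := by rintro rfl; exact h5 rfl
    exact (Nat.pow_le_pow_right two_pos (by omega) : 2 ^ 3 ≤ 2 ^ i)
  have h9 : Nat.card (⁅P, P⁆ : Subgroup G) * 8 ≤ 32 :=
    (Nat.mul_le_mul_left _ h8).trans (hi.trans_le h32)
  have h10 : j ≤ 2 := (Nat.pow_le_pow_iff_right one_lt_two).1 (by rw [← hj]; omega)
  refine red ?_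
  interval_cases j
  · refine nice_bound t1 ess s ?_
    obtain ⟨k, hk⟩ := (hP.to_le (inf_le_left : P ⊓ Cz P ≤ P)).exists_card_eq
    have h11 : k ≠ 0 := by
      rintro rfl
      have : Nontrivial P := Finite.one_lt_card_iff_nontrivial.1 (by omega)
      have := hP.center_nontrivial
      obtain ⟨w, hw⟩ := exists_ne (1 : center P)
      have h3 : ((w : P) : G) ∈ P ⊓ Cz P := ⟨w.1.2, mem_Cz.2 fun a ha =>
        congrArg Subtype.val (mem_center_iff.1 w.2 ⟨a, ha⟩)⟩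
      rw [card_eq_one.1 hk] at h3
      exact hw (Subtype.ext (Subtype.ext h3))
    by_cases h12 : k = 1
    · exact b1 G P hP h32 hj (by rw [hk, h12]; rfl)
    · exact b2 G P hP h32 hj (hk ▸ (Nat.pow_le_pow_right two_pos (by omega) : 2 ^ 2 ≤ 2 ^ k))
  · have h11 : Nat.card P = 32 := by
      have := Nat.mul_le_mul_left (Nat.card (⁅P, P⁆ : Subgroup G)) h8
      omega
    by_cases h12 : ∀ c ∈ ⁅P, P⁆, c * c = 1
    · refine nice_bound t1 ess s ?_
      by_cases h13 : P ≤ Cz ⁅P, P⁆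
      · exact c3 G P h11 hj h12 h13
      · exact c2 G P h11 hj h12 h13
    push Not at h12
    obtain ⟨r, hr, h13⟩ := h12
    have h14 : orderOf r = 4 := by
      have h15 : orderOf r ∣ 2 ^ 2 := hj ▸ orderOf_dvd_natCard _ hr
      obtain ⟨m, hm, h16⟩ := (Nat.dvd_prime_pow Nat.prime_two).1 h15
      have h17 : ¬ orderOf r ∣ 2 := fun h => h13 (by rwa [← sq, ← orderOf_dvd_iff_pow_eq_one])
      rw [h16] at h17 ⊢
      interval_cases m <;> simp at h17 ⊢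
    have h15 : ⁅P, P⁆ = zpowers r :=
      (eq_of_le_of_card_ge (zpowers_le.2 hr) (by rw [Nat.card_zpowers, h14, hj]; rfl)).symm
    by_cases h16 : ∀ b ∈ P, orderOf b = 8 → CP P b ≤ 8
    · obtain ⟨a, ha, h17⟩ := c0 G P r h11 h15 h14
      exact nice_bound t1 ess s (nice_eight h11 hj ha h17 h16)
    · push Not at h16
      obtain ⟨a, ha, h17, h18⟩ := h16
      exact cl G M B P e a s (c1 G P r a h11 h15 h14 ha h17 h18)

end Cfsg.Agent.H89.Ol
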