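import Cfsg.Agent.H87.PWDefs

/-! Project PW: the pieces R and DICH. -/

set_option autoImplicit false
open Equiv

namespace Cfsg.Agent.H89.PW

open Cfsg.Agent.H87.PW

section
variable {ι α : Type} [DecidableEq ι]

/-- `g` keeps every line of direction `i` -/
def KL (i : ι) (g : Perm (ι → α)) : Prop := ∀ x j, j ≠ i → g x j = x j

omit [DecidableEq ι] in
theorem KL.mul {i : ι} {g k : Perm (ι → α)} (hg : KL i g) (hk : KL i k) : KL i (g * k) :=
  fun x j hj => (hg _ j hj).trans (hk x j hj)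

omit [DecidableEq ι] in
theorem KL.inv {i : ι} {g : Perm (ι → α)} (hg : KL i g) : KL i g⁻¹ := fun x j hj => by
  simpa using (hg (g⁻¹ x) j hj).symm

theorem KL.conj {i j : ι} (hj : j ≠ i) {g : Perm (ι → α)} (hg : KL i g) (β : Perm α) :
    KL i (g⁻¹ * (co j β * g * (co j β)⁻¹)) := by
  refine hg.inv.mul fun x l hl => ?_
  rw [← co_inv]
  by_cases e : l = j
  · subst e; simp [hg _ l hl]
  · simp [co_ne e, hg _ l hl]

theorem KL.conj_fix {i j : ι} (hj : j ≠ i) {g : Perm (ι → α)} (hg : KL i g) {β : Perm α}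
    {z : ι → α} (hz : β (z j) = z j) : (g⁻¹ * (co j β * g * (co j β)⁻¹)) z = z := by
  have h1 : (co j β)⁻¹ z = z := Perm.inv_eq_iff_eq.2 ((co_fix_iff _ _ _).2 hz).symm
  have h2 : co j β (g z) = g z := (co_fix_iff _ _ _).2 (by rwa [hg z j hj])
  rw [Perm.mul_apply, Perm.mul_apply, Perm.mul_apply, h1, h2, Perm.inv_eq_iff_eq]

theorem conj_fix {j : ι} {g : Perm (ι → α)} {β : Perm α} {z : ι → α}
    (hz : g (co j β⁻¹ z) = co j β⁻¹ z) : (g⁻¹ * (co j β * g * (co j β)⁻¹)) z = g⁻¹ z := by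
  rw [co_inv] at hz
  rw [Perm.mul_apply, Perm.mul_apply, Perm.mul_apply, hz]
  simp

end

theorem r (h1 : T1Stmt) : RStmt := by
  intro ι α _ _ _ _ H hH g hg i hres
  have hL : KL i g := fun x => (res_eq_iff _ _ _).1 (hres x)
  have key : ∀ x j, j ≠ i → ∀ q, g (Function.update x j q) i = g x i := by
    intro x j hj q
    by_contra hne
    have hpq : x j ≠ q := fun e => hne (by rw [← e, Function.update_eq_self])
    obtain ⟨r, r1, r2, -⟩ := exists_new hH.hm (x j) q q q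
    obtain ⟨s, s1, s2, s3, -⟩ := exists_new hH.hm (x j) q r r
    obtain ⟨t, t1, t2, t3, t4⟩ := exists_new hH.hm (x j) q r s
    set v := c3 (x j) q r
    set g1 := g⁻¹ * (co j v * g * (co j v)⁻¹) with hg1
    have a1 : g1 ∈ H := by
      have := hH.hyp.co_mem j v (c3_sign hpq r1.symm)
      exact H.mul_mem (H.inv_mem hg) (H.mul_mem (H.mul_mem this hg) (H.inv_mem this))
    have a2 : KL i g1 := hL.conj hj v
    have a3 : ∀ z : ι → α, z j = t ∨ z j = s → g1 z = z := fun z hz =>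
      hL.conj_fix hj (by rcases hz with e | e <;> rw [e]; exacts [c3_of_ne t1 t2 t3, c3_of_ne s1 s2 s3])
    have a4 : g1 (Function.update x j q) ≠ Function.update x j q := fun e => by
      have h2 : (co j v)⁻¹ (Function.update x j q) = x :=
        Perm.inv_eq_iff_eq.2 (by rw [co_apply, c3_1 hpq r2.symm])
      rw [hg1, Perm.mul_apply, Perm.inv_eq_iff_eq, Perm.mul_apply, Perm.mul_apply, h2] at e
      exact hne (by rw [← e, co_ne hj.symm])
    set w := c3 q s t
    have b1 : g1⁻¹ * (co j w * g1 * (co j w)⁻¹) ∈ H := by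
      have := hH.hyp.co_mem j w (c3_sign s2.symm t2.symm)
      exact H.mul_mem (H.inv_mem a1) (H.mul_mem (H.mul_mem this a1) (H.inv_mem this))
    have b2 := h1 ι α H hH _ b1 j q s (fun z z1 z2 => by
      by_cases e : z j = t
      · rw [conj_fix (a3 _ (.inr (by rw [co_self, e, Perm.inv_eq_iff_eq, c3_2]))),
          Perm.inv_eq_iff_eq, a3 z (.inl e)]
      · exact a2.conj_fix hj (c3_of_ne z1 z2 e)) (Function.update x j q)
    have b3 := ext_res (a2.conj hj w _ j hj) b2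
    rw [conj_fix (a3 _ (.inl (by
      rw [co_self, Function.update_self, Perm.inv_eq_iff_eq, c3_3 t2.symm t4.symm]))),
      Perm.inv_eq_iff_eq] at b3
    exact a4 b3.symm
  have k2 : ∀ x y : ι → α, x i = y i → g y i = g x i := fun x y e =>
    conn (fun y => g y i = g x i) {i}ᶜ (fun z hz j hj v => (key z j hj v).trans hz) rfl
      fun l hl => by rwa [show l = i by simpa using hl]
  refine ⟨Equiv.ofBijective (fun a => g (fun _ => a) i) (Finite.injective_iff_bijective.1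
    fun a b e => ?_), Equiv.ext fun x => ext_res ?_ (by rw [hres, res_co])⟩
  · have h2 : g (Function.update (fun _ => a) i b) = g fun _ => a :=
      ext_res ((k2 (fun _ => b) _ (by simp)).trans e.symm) (by
        rw [hres, hres, res_eq_iff]
        exact fun j hj => Function.update_of_ne hj ..)
    simpa using (congrFun (g.injective h2) i).symm
  · rw [co_self]
    exact k2 (fun _ => x i) x rfl

theorem dich (hp : PrimStmt) (hr : RStmt) : DichStmt := by
  intro ι α _ _ _ _ H hH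
  let R : ι → α → (ι → α) → (ι → α) → Prop := fun i a x y =>
    ∃ g ∈ H, (∀ z : ι → α, z i = a → g z = z) ∧ g x = y
  have tr : ∀ {i i' a a'}, ∀ w ∈ H, (∀ z : ι → α, z i' = a' → w⁻¹ z i = a) →
      ∀ x y, R i a x y → R i' a' (w x) (w y) := by
    rintro i i' a a' w hw h x _ ⟨g, hg, h1, rfl⟩
    exact ⟨w * g * w⁻¹, H.mul_mem (H.mul_mem hw hg) (H.inv_mem hw), fun z hz => by
      rw [Perm.mul_apply, Perm.mul_apply, h1 _ (h z hz)]; simp, by simp⟩
  by_cases hJ : ∃ i a, ∀ x y : ι → α, x i ≠ a → y i ≠ a → R i a x y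
  · obtain ⟨i, a, hJ⟩ := hJ
    refine .inl fun i' a' x y hx hy => ?_
    obtain ⟨τ, hτ⟩ := hH.hyp.top (swap i i')
    obtain ⟨σ, hσ, e⟩ := exists_even1 hH.hm (τ i' a) a'
    have k : ∀ z : ι → α, (co i' σ * wr (swap i i') τ)⁻¹ z i = a ↔ z i' = a' := fun z => by
      rw [mul_inv_rev, Perm.mul_apply, wr_inv_apply, swap_apply_left, ← co_inv, co_self,
        Perm.inv_eq_iff_eq, Perm.inv_eq_iff_eq, e]
    simpa using tr _ (H.mul_mem (hH.hyp.co_mem i' σ hσ) hτ) (fun z => (k z).2) _ _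
      (hJ _ _ (mt (k x).1 hx) (mt (k y).1 hy))
  refine .inr fun i a g hg hfix => hr ι α H hH g hg i fun x => ?_
  have eq : Equivalence (R i a) := by
    refine ⟨fun x => ⟨1, H.one_mem, fun _ _ => rfl, rfl⟩, ?_, ?_⟩
    · rintro x _ ⟨g, hg, h1, rfl⟩
      exact ⟨g⁻¹, H.inv_mem hg, fun z hz => Perm.inv_eq_iff_eq.2 (h1 z hz).symm, by simp⟩
    · rintro x _ _ ⟨g, hg, h1, rfl⟩ ⟨k, hk, h2, rfl⟩
      exact ⟨k * g, H.mul_mem hk hg, fun z hz => by simp [h1 z hz, h2 z hz], rfl⟩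
  obtain ⟨c, c1, -⟩ := exists_new hH.hm a a a a
  obtain ⟨d, d1, d2, -⟩ := exists_new hH.hm a c c c
  obtain ⟨e, e1, e2, e3, -⟩ := exists_new hH.hm a c d d
  have mv : ∀ x : ι → α, x i ≠ a → ∃ x', R i a x x' ∧ (∀ l, l ∉ ({i}ᶜ : Set ι) → x' l = c) ∧
      res i x' = res i x := fun x hx => by
    obtain ⟨σ, hσ, s1, s2⟩ := exists_even2 hH.hm hx c1
    exact ⟨co i σ x, ⟨_, hH.hyp.co_mem i σ hσ, fun z hz => (co_fix_iff _ _ _).2 (by rwa [hz]), rfl⟩,
      fun l hl => by rw [show l = i by simpa using hl, co_self, s1], res_co ..⟩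
  rcases hp ι α hH.hm {i}ᶜ (fun _ => c) (R i a) eq (fun j hj τ hτ => tr _ (hH.hyp.co_mem j τ hτ)
    fun z hz => by rwa [← co_inv, co_ne (Ne.symm hj)]) (fun j hj j' hj' => by
      obtain ⟨τ, hτ, h2⟩ := hH.hyp.top' (swap j j') (fun _ => d) (fun _ => e) fun _ => e3.symm
      have h3 : swap j j' i = i := swap_apply_of_ne_of_ne (Ne.symm hj) (Ne.symm hj')
      refine ⟨_, τ, swap_apply_left _ _, fun l hl => ?_, tr _ hτ fun z hz => ?_⟩
      · rw [show l = i by simpa using hl]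
        refine ⟨h3, ?_⟩
        rcases h2 i with h | h <;> rw [h]
        exacts [rfl, swap_apply_of_ne_of_ne d2.symm e2.symm]
      · rw [wr_inv_apply, h3, hz, Perm.inv_eq_iff_eq]
        rcases h2 i with h | h <;> rw [h]
        exacts [rfl, (swap_apply_of_ne_of_ne d1.symm e1.symm).symm]) with h | h
  · by_cases hx : x i = a
    · rw [hfix x hx]
    obtain ⟨x', p1, p2, p3⟩ := mv x hx
    obtain ⟨y', q1, q2, q3⟩ := mv (g x) fun e => hx (g.injective (hfix _ e) ▸ e)
    rw [← q3, ← p3, h x' y' p2 q2 (eq.trans (eq.symm p1) (eq.trans ⟨g, hg, hfix, rfl⟩ q1))]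
  · refine absurd ⟨i, a, fun x y hx hy => ?_⟩ hJ
    obtain ⟨x', p1, p2, -⟩ := mv x hx
    obtain ⟨y', q1, q2, -⟩ := mv y hy
    exact eq.trans p1 (eq.trans (h x' y' p2 q2) (eq.symm q1))

end Cfsg.Agent.H89.PW
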