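import Cfsg.Agent.H89.SpDefs
import Cfsg.Agent.H76.SpecLin3
import Cfsg.Agent.H76.Unitary

/-! Element orders in linear and unitary groups: the facts used for S3586. -/

set_option autoImplicit false

namespace Cfsg.Agent.H89.Sp

open Cfsg.Agent.H76

universe u v w

/-- exponent of the Coxeter torus -/
def tA (Q : ℤ) (n : ℕ) : ℕ :=
  (∑ i ∈ Finset.range n, Q ^ i).natAbs / Nat.gcd n (Q - 1).natAbs

/-- exponent of the torus of type `n - 1` -/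
def tB (Q : ℤ) (n : ℕ) : ℕ := (Q ^ (n - 1) - 1).natAbs / Nat.gcd n (Q - 1).natAbs

theorem Om.of_dvd {G : Type*} [Group G] [Finite G] {m k : ℕ} (h : Om G m) (hk : k ∣ m) :
    Om G k := let ⟨g, hg⟩ := h; exists_orderOf_eq_of_dvd g (hg ▸ hk)

theorem Om.dvd_card {G : Type*} [Group G] [Finite G] {m : ℕ} (h : Om G m) : m ∣ Nat.card G :=
  let ⟨g, hg⟩ := h; hg ▸ orderOf_dvd_natCard g

theorem Om.pos {G : Type*} [Group G] [Finite G] {m : ℕ} (h : Om G m) : 0 < m :=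
  let ⟨g, hg⟩ := h; hg ▸ orderOf_pos g

theorem odd_tA_or_tB {Q : ℤ} {n : ℕ} (hn : 1 ≤ n) : Odd (tA Q n) ∨ Odd (tB Q n) := by
  by_contra h
  rw [not_or, Nat.not_odd_iff_even, Nat.not_odd_iff_even, even_iff_two_dvd,
    even_iff_two_dvd] at h
  obtain ⟨m, rfl⟩ : ∃ m, n = m + 1 := ⟨n - 1, by omega⟩
  set d := Nat.gcd (m + 1) (Q - 1).natAbs with hd
  have hd0 : 0 < d := Nat.gcd_pos_of_pos_left _ (by omega)
  have h1 : d ∣ (∑ i ∈ Finset.range (m + 1), Q ^ i).natAbs := by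
    rw [hd, ← int_gcd_geom_sum]; exact Nat.gcd_dvd_left _ _
  have e : Q ^ m - 1 = (∑ i ∈ Finset.range m, Q ^ i) * (Q - 1) := (geom_sum_mul Q m).symm
  have h2 : d ∣ (Q ^ m - 1).natAbs := by
    rw [e, Int.natAbs_mul]; exact (Nat.gcd_dvd_right _ _).mul_left _
  have h3 := (Nat.dvd_div_iff_mul_dvd h1).1 h.1
  have h4 := (Nat.dvd_div_iff_mul_dvd h2).1 h.2
  rw [e, Int.natAbs_mul] at h4
  have h5 : IsCoprime (∑ i ∈ Finset.range (m + 1), Q ^ i) (∑ i ∈ Finset.range m, Q ^ i) := by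
    refine ⟨1, -Q, ?_⟩
    rw [Finset.sum_range_succ', Finset.mul_sum]
    simp [pow_succ', Finset.sum_neg_distrib]
  have h6 := (Int.isCoprime_iff_nat_coprime.1 h5).coprime_dvd_left h3
  have h7 := Nat.dvd_gcd h3 (h6.dvd_of_dvd_mul_left h4)
  rw [int_gcd_geom_sum, ← hd] at h7
  have := Nat.le_of_dvd hd0 h7
  omega

variable {L : Type w} [Field L] {p : ℕ} [hp : Fact p.Prime] {Q : ℤ} {n : ℕ} {G : Type*}
  [Group G] [Finite G]

omit hp [Finite G] in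
theorem models_of_range {H T : Type*} [Group H] {K : T → ℕ → Prop} {P : T → Prop}
    (hH : Models H K P) (h : Set.range (orderOf : G → ℕ) = Set.range (orderOf : H → ℕ)) :
    Models G K P := by
  refine ⟨fun g => ?_, fun s hs => ?_⟩
  · obtain ⟨l, hl⟩ : orderOf g ∈ Set.range (orderOf : H → ℕ) := h ▸ ⟨g, rfl⟩
    exact hl ▸ hH.out l
  · obtain ⟨l, hl⟩ := hH.inn s hs
    obtain ⟨g, hg⟩ : orderOf l ∈ Set.range (orderOf : G → ℕ) := h ▸ ⟨l, rfl⟩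
    exact ⟨g, hg ▸ hl⟩

/-- the orbit detecting a prime that does not divide `Q - 1` -/
theorem detect (hG : Models G (PK p) (SAdm (A := Lˣ) Q n)) {r m : ℕ} (hr : r.Prime)
    (hrp : r ≠ p) (h1 : ¬ (r : ℤ) ∣ Q - 1) (hm : Om G m) (hrm : r ∣ m) :
    ∃ (α : Lˣ) (D e k : ℕ) (t : Multiset (Lˣ × ℕ)), 0 < D ∧ 0 < e ∧ α ^ Q ^ D = α ∧
      (r : ℤ) ∣ Q ^ D - 1 ∧ Adm Q k t ∧ n = D * e + k ∧ ddet (orb Q α D e + t) = 1 ∧
      ∀ j, PK p (orb Q α D e + t) j → m ∣ j := by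
  obtain ⟨g, rfl⟩ := hm
  obtain ⟨s, ⟨hs, hd⟩, hk⟩ := hG.out g
  obtain ⟨x, hx, -, h2⟩ := (hs.prime_detect hp.out hk (orderOf_pos g) hr hrp hrm).resolve_left
    fun h => h1 h.1
  obtain ⟨D, k, t, hD, h3, h4, h5, h6⟩ := hs.exists_orb_add hx
  exact ⟨x.1, D, x.2, k, t, hD, hs.pos x hx, (h3 D).2 dvd_rfl, h2 D ((h3 D).2 dvd_rfl), h5, h6,
    h4 ▸ hd, fun j hj => (hk j).2 (h4 ▸ hj)⟩

theorem t1 (hG : Models G (PK p) (SAdm (A := Lˣ) Q n)) (hn : 2 ≤ n) {r m : ℕ} (hr : r.Prime)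
    (hrp : r ≠ p) (h1 : ∀ D, 0 < D → D < n → ¬ (r : ℤ) ∣ Q ^ D - 1) (hm : Om G m)
    (hrm : r ∣ m) : m ∣ tA Q n := by
  obtain ⟨α, D, e, k, t, hD, he, -, h3, h4, h5, hd, hk⟩ :=
    detect hG hr hrp (by simpa using h1 1 one_pos hn) hm hrm
  have h6 : n ≤ D := not_lt.1 fun h => h1 D hD h h3
  have he1 : e = 1 := by nlinarith
  subst he1
  have hk0 : k = 0 := by omega
  have hD' : D = n := by omega
  subst hk0 hD'
  rw [h4.eq_zero, add_zero] at hd hk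
  rw [ddet_orb, pow_one] at hd
  simpa [tA] using hk _ (pk_coxeter (p := p) (D := D) (e := 1) hd)

theorem t2 (hG : Models G (PK p) (SAdm (A := Lˣ) Q n)) (hn : 3 ≤ n) {r m : ℕ} (hr : r.Prime)
    (hrp : r ≠ p) (h1 : ∀ D, 0 < D → D + 1 < n → ¬ (r : ℤ) ∣ Q ^ D - 1)
    (h2 : ¬ (r : ℤ) ∣ Q ^ n - 1) (hm : Om G m) (hrm : r ∣ m) : m ∣ tB Q n := by
  obtain ⟨α, D, e, k, t, hD, he, h7, h3, h4, h5, hd, hk⟩ :=
    detect hG hr hrp (by simpa using h1 1 one_pos hn) hm hrm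
  have h6 : n ≤ D + 1 := not_lt.1 fun h => h1 D hD h h3
  have he1 : e = 1 := by nlinarith
  subst he1
  have h8 : D ≠ n := fun h => h2 (h ▸ h3)
  have hk0 : k = 1 := by omega
  have hD' : n = D + 1 := by omega
  subst hk0 hD'
  obtain ⟨β, -, rfl⟩ := h4.eq_singleton
  rw [ddet_add, ddet_orb] at hd
  have hβ : β = (α ^ ∑ i ∈ Finset.range D, Q ^ i)⁻¹ :=
    eq_inv_of_mul_eq_one_right (by simpa using hd)
  refine hk _ ?_
  rw [tB, Nat.add_sub_cancel]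
  set d := Nat.gcd (D + 1) (Q - 1).natAbs with hdd
  have hda : (d : ℤ) ∣ Q - 1 := Int.natCast_dvd.2 (Nat.gcd_dvd_right _ _)
  have hb : orderOf α ∣ (Q ^ D - 1).natAbs := Int.natCast_dvd.1 (zpow_eq_self_iff.1 h7)
  have hdb : d ∣ (Q ^ D - 1).natAbs :=
    Int.natCast_dvd.1 (hda.trans (by simpa using sub_dvd_pow_sub_pow Q 1 D))
  have key : ∀ z : ℤ, (d : ℤ) ∣ z → (α ^ ((Q ^ D - 1).natAbs / d)) ^ z = 1 := by
    rintro _ ⟨z, rfl⟩
    rw [zpow_mul, zpow_natCast, ← pow_mul, Nat.div_mul_cancel hdb,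
      orderOf_dvd_iff_pow_eq_one.1 hb, one_zpow]
  have k1 := key (Q - 1) hda
  have k2 := key (∑ i ∈ Finset.range D, Q ^ i + 1) (by
    have e1 : ∑ i ∈ Finset.range D, Q ^ i + 1 =
        ∑ i ∈ Finset.range D, (Q ^ i - 1) + ((D + 1 : ℕ) : ℤ) := by
      simp [Finset.sum_sub_distrib]; ring
    rw [e1]
    exact dvd_add (Finset.dvd_sum fun i _ => hda.trans (by simpa using sub_dvd_pow_sub_pow Q 1 i))
      (Int.natCast_dvd_natCast.2 (Nat.gcd_dvd_left _ _)))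
  rw [zpow_sub_one, mul_inv_eq_one] at k1
  have k3 : β ^ ((Q ^ D - 1).natAbs / d) = α ^ ((Q ^ D - 1).natAbs / d) := by
    rw [hβ, inv_pow, zpow_pow_comm, inv_eq_iff_mul_eq_one, ← zpow_add_one, k2]
  have k4 := pk_orb (p := p) (D := D) (e := 1) k1 (by simp)
  have k5 : ∀ x ∈ orb Q α D 1 + {(β, 1)},
      x.1 ^ ((Q ^ D - 1).natAbs / d) = α ^ ((Q ^ D - 1).natAbs / d) ∧ x.2 = 1 := fun x hx => by
    rcases Multiset.mem_add.1 hx with h | h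
    · exact ⟨k4.1 x h _ (self_mem_orb Q α hD 1), by obtain ⟨i, -, rfl⟩ := mem_orb.1 h; rfl⟩
    · rw [Multiset.mem_singleton.1 h]; exact ⟨k3, rfl⟩
  exact ⟨fun x hx y hy => by rw [(k5 x hx).1, (k5 y hy).1], fun x hx => by simp [(k5 x hx).2]⟩

omit hp [Finite G] in
theorem ex_bound (hG : Models G (PK p) (SAdm (A := Lˣ) Q n)) {M m : ℕ}
    (h1 : ∀ D, 0 < D → D ≤ n → (Q ^ D - 1).natAbs ∣ M) (h2 : p ^ Nat.clog p n ∣ M)
    (hm : Om G m) : m ∣ M := by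
  obtain ⟨g, rfl⟩ := hm
  obtain ⟨s, ⟨hs, -⟩, hk⟩ := hG.out g
  refine (hk _).2 (OK.pk fun x hx => ⟨?_,
    (pow_dvd_pow p (Nat.clog_mono_right p (hs.le hx))).trans h2⟩)
  obtain ⟨D, hD, h3, h4⟩ := hs.exists_period hx
  have := hs.pos x hx
  exact orderOf_dvd_iff_pow_eq_one.1 ((Int.natCast_dvd.1 (zpow_eq_self_iff.1
    ((h3 D).2 dvd_rfl))).trans (h1 D hD (by nlinarith)))

theorem u6 (hG : Models G (PK 2) (SAdm (A := Lˣ) (-2) 6)) {m : ℕ} (hm : Om G m) (h5 : 5 ∣ m) :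
    m ∣ 10 ∨ m ∣ 15 := by
  have : Fact (Nat.Prime 2) := ⟨Nat.prime_two⟩
  obtain ⟨α, D, e, k, t, hD, he, h7, h3, h4, h6, hd, hk⟩ :=
    detect hG Nat.prime_five (by norm_num) (by norm_num) hm h5
  have hD6 : D ≤ 6 := by nlinarith
  have hD4 : D = 4 := by
    clear hk hd h7 h6
    interval_cases D <;> first | rfl | exact absurd h3 (by decide)
  subst hD4
  have he1 : e = 1 := by omega
  subst he1
  have hk2 : k = 2 := by omega
  subst hk2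
  have ha : α ^ 15 = 1 := orderOf_dvd_iff_pow_eq_one.1 (by
    simpa using Int.natCast_dvd.1 (zpow_eq_self_iff.1 h7))
  have hz : ∀ j : ℕ, 5 ∣ j → (α ^ j) ^ (-2 : ℤ) = α ^ j := by
    rintro _ ⟨j, rfl⟩
    rw [pow_zpow_eq_iff]
    exact (orderOf_dvd_iff_pow_eq_one.2 ha).trans ⟨j, by norm_num; ring⟩
  have ht : ∀ y ∈ t, y.1 ^ 3 = 1 := fun y hy => by
    obtain ⟨D, hD, h1, h2⟩ := h4.exists_period hy
    have := h4.pos y hy
    have h8 := Int.natCast_dvd.1 (zpow_eq_self_iff.1 ((h1 D).2 dvd_rfl))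
    have : D ≤ 2 := by nlinarith
    refine orderOf_dvd_iff_pow_eq_one.1 ?_
    interval_cases D <;> simpa using h8
  by_cases h : ∀ y ∈ t, y.2 = 1
  · refine Or.inr (hk _ (OK.pk fun x hx => ?_))
    rcases Multiset.mem_add.1 hx with h1 | h1
    · obtain ⟨i, -, rfl⟩ := mem_orb.1 h1
      exact ⟨by rw [zpow_pow_comm, ha, one_zpow], by simp⟩
    · exact ⟨by rw [show 15 = 3 * 5 from rfl, pow_mul, ht x h1, one_pow], by simp [h x h1]⟩
  · push Not at h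
    obtain ⟨y, hy, hy1⟩ := h
    obtain ⟨D, k, t', hD, -, h2, h8, h9⟩ := h4.exists_orb_add hy
    have := h4.pos y hy
    have hy2 : y.2 = 2 := by have : y.2 ≤ 2 := by nlinarith
                             omega
    rw [hy2] at h2 h9
    have hD1 : D = 1 := by omega
    have hk0 : k = 0 := by omega
    subst hD1 hk0
    rw [h8.eq_zero, add_zero, orb_one] at h2
    have hb := ht y hy
    subst h2
    rw [ddet_add, ddet_orb] at hd
    have h10 : y.1 ^ 2 = α ^ 5 := by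
      have : (α ^ 5)⁻¹ * y.1 ^ 2 = 1 := by
        rw [← hd, ← zpow_natCast, ← zpow_neg]; simp [Finset.sum_range_succ]
      rw [inv_mul_eq_one] at this
      exact this.symm
    have h11 : y.1 ^ 10 = α ^ 10 := by
      rw [show 10 = 2 * 5 from rfl, pow_mul, h10, ← pow_mul, show 5 * 5 = 15 + 2 * 5 from rfl,
        pow_add, ha, one_mul]
    have k4 := pk_orb (p := 2) (D := 4) (e := 1) (hz 10 (by norm_num)) (by simp)
    have k5 : ∀ x ∈ orb (-2) α 4 1 + {(y.1, 2)}, x.1 ^ 10 = α ^ 10 ∧ 2 ^ Nat.clog 2 x.2 ∣ 10 :=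
      fun x hx => by
        rcases Multiset.mem_add.1 hx with h | h
        · exact ⟨k4.1 x h _ (self_mem_orb _ α (by norm_num) 1), k4.2 x h⟩
        · rw [Multiset.mem_singleton.1 h]; exact ⟨h11, by norm_num⟩
    exact Or.inl (hk _ ⟨fun x hx z hz => by rw [(k5 x hx).1, (k5 z hz).1],
      fun x hx => (k5 x hx).2⟩)

omit hp in
theorem om_unip (hG : Models G (PK p) (SAdm (A := Lˣ) Q n)) (hn : 0 < n) :
    Om G (p ^ Nat.clog p n) :=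
  let ⟨u, hu⟩ := hG.exists_unipotent hn le_rfl; exists_orderOf_eq_of_dvd u hu

variable [IsAlgClosed L] [CharP L p]

theorem om_tor (hG : Models G (PK p) (SAdm (A := Lˣ) Q n)) (hQ : (p : ℤ) ∣ Q) {D c : ℕ}
    (hD : 2 ≤ D) (hDn : D ≤ n) (hc : (c : ℤ) ∣ Q ^ D - 1) (hc' : c.Coprime (Q - 1).natAbs) :
    Om G c := by
  rw [← geom_sum_mul] at hc
  obtain ⟨t, ht, h⟩ := exists_sadm_torus (L := L) hQ hD hDn (Int.natCast_dvd.2
    (hc'.dvd_of_dvd_mul_right (by rw [← Int.natAbs_mul]; exact Int.natCast_dvd.1 hc))) hc'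
  exact hG.exists_eq ht h

theorem om_small (hG : Models G (PK p) (SAdm (A := Lˣ) Q n)) (hQ : (p : ℤ) ∣ Q) {D c : ℕ}
    (hD : 1 ≤ D) (hDn : D + 2 ≤ n) (hc : (c : ℤ) ∣ Q ^ D - 1) : Om G c := by
  obtain ⟨ζ, hζ⟩ := exists_units_orderOf_eq (L := L) p
    (not_dvd_of_dvd_pow_sub_one hp.out.one_lt hQ hD hc)
  have h1 : ζ ^ Q ^ D = ζ := by rw [zpow_eq_self_iff, hζ]; exact hc
  obtain ⟨j, rfl⟩ : ∃ j, n = D + 1 + (j + 1) := ⟨n - D - 2, by omega⟩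
  refine hG.exists_eq (s := orb Q ζ D 1 + {((ζ ^ ∑ i ∈ Finset.range D, Q ^ i)⁻¹, 1)} +
    Multiset.replicate (j + 1) (1, 1)) ⟨(((adm_orb h1 one_pos).add (adm_singleton ?_ one_pos)).add
      (adm_replicate_one Q _)).cast (by omega), by simp [ddet_orb]⟩ fun k hk => ?_
  · rw [inv_zpow, inv_inj, ← zpow_mul, ← mul_inv_eq_one, ← zpow_sub, ← mul_sub_one, geom_sum_mul,
      zpow_sub_one, h1, mul_inv_cancel]
  · rw [← hζ, orderOf_dvd_iff_pow_eq_one]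
    simpa using hk.1 (ζ, 1) (by simp [self_mem_orb Q ζ hD 1]) (1, 1) (by simp)

/-- `r` divides no `Q ^ D - 1` with `0 < D < k` -/
def Pr (Q : ℤ) (r k : ℕ) : Prop := ∀ D < k, 0 < D → ¬ (r : ℤ) ∣ Q ^ D - 1

instance decPr (Q : ℤ) (r k : ℕ) : Decidable (Pr Q r k) := by unfold Pr; infer_instance

/-- a test showing that `m`, a multiple of the prime `r`, is not an element order -/
def NM (p : ℕ) (Q : ℤ) (n r m : ℕ) : Prop := r ≠ p ∧ r ∣ m ∧ ((Pr Q r n ∧ ¬ m ∣ tA Q n) ∨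
  (Pr Q r (n - 1) ∧ ¬ (r : ℤ) ∣ Q ^ n - 1 ∧ ¬ m ∣ tB Q n))

instance decNM (p : ℕ) (Q : ℤ) (n r m : ℕ) : Decidable (NM p Q n r m) := by
  unfold NM; infer_instance

/-- the generic test for non-adjacency -/
def NG (Q : ℤ) (n r s : ℕ) : Prop :=
  (∀ D < n + 1, 0 < D → ¬ ((r : ℤ) ∣ Q ^ D - 1 ∧ (s : ℤ) ∣ Q ^ D - 1)) ∧
    ∀ D < n, ∀ D' < n, 0 < D → 0 < D' → D + D' ≤ n →
      ¬ ((r : ℤ) ∣ Q ^ D - 1 ∧ (s : ℤ) ∣ Q ^ D' - 1)

set_option synthInstance.maxSize 1024 in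
instance decNG (Q : ℤ) (n r s : ℕ) : Decidable (NG Q n r s) := by unfold NG; infer_instance

/-- a test showing that the primes `r`, `s` are not adjacent -/
def NA (p : ℕ) (Q : ℤ) (n r s : ℕ) : Prop := NM p Q n r (r * s) ∨ NM p Q n s (r * s) ∨
  (r ≠ p ∧ s = p ∧ Pr Q r (n - 1)) ∨ (s ≠ p ∧ r = p ∧ Pr Q s (n - 1)) ∨
  (r ≠ p ∧ s ≠ p ∧ ¬ (r : ℤ) ∣ Q - 1 ∧ ¬ (s : ℤ) ∣ Q - 1 ∧ NG Q n r s)

instance decNA (p : ℕ) (Q : ℤ) (n r s : ℕ) : Decidable (NA p Q n r s) := by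
  unfold NA; infer_instance

/-- a test showing that `c` is an element order -/
def YM (p : ℕ) (Q : ℤ) (n c : ℕ) : Prop := c ∣ p ^ Nat.clog p n ∨
  ∃ D < n + 1, (c : ℤ) ∣ Q ^ D - 1 ∧ ((1 ≤ D ∧ D + 2 ≤ n) ∨ (2 ≤ D ∧ c.Coprime (Q - 1).natAbs))

instance decYM (p : ℕ) (Q : ℤ) (n c : ℕ) : Decidable (YM p Q n c) := by
  unfold YM; infer_instance

/-- the facts on the spectrum -/
structure Md (G : Type*) [Group G] (p : ℕ) (Q : ℤ) (n : ℕ) : Prop where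
  hp : p.Prime
  hQ : (p : ℤ) ∣ Q
  nm : ∀ r m, r.Prime → NM p Q n r m → ¬ Om G m
  na : ∀ r s, r.Prime → s.Prime → NA p Q n r s → ¬ Om G (r * s)
  ym : ∀ c, YM p Q n c → Om G c
  ex : ∀ M m, (∀ D < n + 1, 0 < D → (Q ^ D - 1).natAbs ∣ M) → p ^ Nat.clog p n ∣ M → Om G m →
    m ∣ M
  pi : ∀ r, r.Prime → r ∣ Nat.card G → (r : ℤ) ∣ Q ∨ ∃ D < n + 1, 0 < D ∧ (r : ℤ) ∣ Q ^ D - 1
  u6 : Q = -2 → n = 6 → ∀ m, Om G m → 5 ∣ m → m ∣ 10 ∨ m ∣ 15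

theorem md_of_models (hG : Models G (PK p) (SAdm (A := Lˣ) Q n)) (hQ : (p : ℤ) ∣ Q)
    (hn : 3 ≤ n) : Md G p Q n := by
  have nm : ∀ r m, r.Prime → NM p Q n r m → ¬ Om G m := by
    rintro r m hr ⟨h1, h2, ⟨h3, h4⟩ | ⟨h3, h4, h5⟩⟩ hm
    · exact h4 (t1 hG (by omega) hr h1 (fun D a b => h3 D b a) hm h2)
    · exact h5 (t2 hG hn hr h1 (fun D a b => h3 D (by omega) a) h4 hm h2)
  have ac : ∀ r, r.Prime → r ≠ p → Pr Q r (n - 1) → ¬ Om G (r * p) := by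
    rintro r hr h1 h2 ⟨g, hg⟩
    obtain ⟨D, h3, h4, h5⟩ := hG.adj_char hr h1 hg
    exact h2 D (by omega) h3 h5
  refine ⟨hp.out, hQ, nm, ?_, ?_, fun M m h1 h2 => ex_bound hG (fun D a b => h1 D (by omega) a) h2,
    fun r hr h => ?_, ?_⟩
  · rintro r s hr hs (h | h | ⟨h1, rfl, h2⟩ | ⟨h1, rfl, h2⟩ | ⟨h1, h2, h3, h4, h5, h6⟩)
    · exact nm r _ hr h
    · exact nm s _ hs h
    · exact ac r hr h1 h2
    · rw [mul_comm]; exact ac s hs h1 h2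
    · rintro ⟨g, hg⟩
      rcases hG.adj_primes hr hs h1 h2 h3 h4 hg with ⟨D, a, b, c⟩ | ⟨D, D', a, b, c, d⟩
      · exact h5 D (by omega) a c
      · exact h6 D (by omega) D' (by omega) a b c d
  · rintro c (h | ⟨D, h1, h2, ⟨h3, h4⟩ | ⟨h3, h4⟩⟩)
    · exact (om_unip hG (by omega)).of_dvd h
    · exact om_small hG hQ h3 h4 h2
    · exact om_tor hG hQ h3 (by omega) h2 h4
  · by_cases h1 : r = p
    · exact .inl (h1 ▸ hQ)
    by_cases h2 : (r : ℤ) ∣ Q - 1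
    · exact .inr ⟨1, by omega, one_pos, by simpa using h2⟩
    obtain ⟨D, a, b, c⟩ := hG.exists_le_of_dvd_card hr h1 h2 h
    exact .inr ⟨D, by omega, a, c⟩
  · rintro rfl rfl m
    obtain rfl : p = 2 := (Nat.prime_dvd_prime_iff_eq hp.out Nat.prime_two).1
      (Int.natCast_dvd.1 hQ)
    exact u6 hG

omit hp in
theorem md_of_hyp {F : Type*} [Field F] [Fintype F] (hn : 4 ≤ n) {L : Type*} [Group L]
    (hL : Nonempty (L ≃* Matrix.ProjectiveSpecialLinearGroup (Fin n) F) ∨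
      (∃ q : ℕ, ¬ (n = 5 ∧ q = 2) ∧ Fintype.card F = q ^ 2 ∧ Nonempty (L ≃* Cfsg.PSU n F q)))
    (h : Set.range (orderOf : G → ℕ) = Set.range (orderOf : L → ℕ)) :
    ∃ (p k : ℕ) (Q : ℤ), 0 < k ∧ (Q = (p ^ k : ℕ) ∨ Q = -(p ^ k : ℕ)) ∧ ¬ (n = 5 ∧ Q = -2) ∧
      Md G p Q n := by
  obtain ⟨p, hc⟩ := CharP.exists F
  have : Fact p.Prime := ⟨CharP.char_is_prime F p⟩
  have : CharP (AlgebraicClosure F) p := charP_of_injective_algebraMap (algebraMap F _).injective p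
  have tr : ∀ {M : Type _} [Group M] (e : L ≃* M),
      Set.range (orderOf : G → ℕ) = Set.range (orderOf : M → ℕ) := fun e => by
    rw [h]
    ext m
    exact ⟨fun ⟨l, hl⟩ => ⟨e l, by rw [← hl, MulEquiv.orderOf_eq]⟩,
      fun ⟨l, hl⟩ => ⟨e.symm l, by rw [← hl, MulEquiv.orderOf_eq]⟩⟩
  rcases hL with ⟨⟨e⟩⟩ | ⟨q, hq, hF, ⟨e⟩⟩
  · have hG := models_psl (F := F) (AlgebraicClosure F) (n := Fin n) p
    rw [Fintype.card_fin] at hG
    obtain ⟨k, -, hk⟩ := FiniteField.card F p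
    exact ⟨p, k, _, k.pos, .inl (by rw [hk]), fun e => by omega,
      md_of_models (models_of_range hG (tr e)) (char_dvd_card F p) (by omega)⟩
  · have hG := models_psu (AlgebraicClosure F) p hF (show 2 ≤ n by omega)
    obtain ⟨k, hk, hq'⟩ := exists_char_pow_eq hF p
    exact ⟨p, k, _, hk, .inr (by rw [hq']), fun e => hq ⟨e.1, by omega⟩,
      md_of_models (models_of_range hG (tr e)) (char_dvd_neg_q hF p) (by omega)⟩

end Cfsg.Agent.H89.Sp
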